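import Mathlib.Algebra.Homology.ShortComplex.ModuleCat
import Mathlib.Algebra.Homology.ShortComplex.HomologicalComplex
import Mathlib.CategoryTheory.Abelian.LeftDerived
import Mathlib.CategoryTheory.Abelian.Projective.Resolution
import Mathlib.Algebra.Homology.Augment
import Mathlib.Algebra.Homology.SingleHomology
import Mathlib.Algebra.Homology.QuasiIso
import Mathlib.Algebra.Homology.ShortComplex.Abelian
import Mathlib.CategoryTheory.Limits.Preserves.Shapes.Kernels

set_option autoImplicit false
universe u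

namespace Groth.Agent.H18

open CategoryTheory CategoryTheory.Limits

section Splice

variable {C : Type*} [Category C] [Abelian C]

-- The splicing construction below follows `Groth.Agent.H72.ProjDim` (helper72) / `Groth.Agent.H9.TorOne`,
-- copied so that this file does not depend on another seat's module.
/-- Splicing data: a complex of projectives resolving `S.X₁`, spliced with a short exact sequence
whose middle term is projective, gives a projective resolution of `S.X₃`. -/
noncomputable def spliceAux {S : ShortComplex C} (hS : S.ShortExact) [Projective S.X₂]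
    (Q : ChainComplex C ℕ) (hproj : ∀ n, Projective (Q.X n)) (p : Q.X 0 ⟶ S.X₁)
    (hp : Q.d 1 0 ≫ p = 0) (hex0 : (ShortComplex.mk _ _ hp).Exact) (hepi : Epi p)
    (hex : ∀ n, (ShortComplex.mk _ _ (Q.d_comp_d (n + 2) (n + 1) n)).Exact) :
    ProjectiveResolution S.X₃ where
  complex := Q.augment (p ≫ S.f) (by rw [reassoc_of% hp, zero_comp])
  projective n := by
    cases n with
    | zero => exact inferInstanceAs (Projective S.X₂)
    | succ n => exact hproj n
  hasHomology := inferInstance
  π := (ChainComplex.toSingle₀Equiv _ _).symm ⟨S.g, by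
    change (p ≫ S.f) ≫ S.g = 0
    rw [Category.assoc, S.zero, comp_zero]⟩
  quasiIso := ⟨fun n => by
    have := hS.mono_f
    have := hS.epi_g
    cases n with
    | zero =>
      rw [ChainComplex.quasiIsoAt₀_iff, ShortComplex.quasiIso_iff_of_zeros']
      · dsimp
        let α : ShortComplex.mk (p ≫ S.f) S.g (by rw [Category.assoc, S.zero, comp_zero]) ⟶ S :=
          { τ₁ := p
            τ₂ := 𝟙 _
            τ₃ := 𝟙 _ }
        have hα1 : Epi α.τ₁ := hepi
        have hα2 : IsIso α.τ₂ := inferInstanceAs (IsIso (𝟙 _))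
        have hα3 : Mono α.τ₃ := inferInstanceAs (Mono (𝟙 _))
        refine (ShortComplex.exact_and_epi_g_iff_of_iso ?_).2
          ⟨(ShortComplex.exact_iff_of_epi_of_isIso_of_mono α).2 hS.exact, hS.epi_g⟩
        exact ShortComplex.isoMk (Iso.refl _) (Iso.refl _) (Iso.refl _)
          (by dsimp; erw [Category.id_comp, Category.comp_id]; rfl)
          (by dsimp; erw [Category.id_comp, Category.comp_id]
              exact (ChainComplex.toSingle₀Equiv_symm_apply_f_zero
                (C := Q.augment (p ≫ S.f) (by rw [reassoc_of% hp, zero_comp])) S.g _).symm)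
      all_goals rfl
    | succ n =>
      rw [quasiIsoAt_iff_exactAt']
      · rw [HomologicalComplex.exactAt_iff' _ (n + 1 + 1) (n + 1) n (by simp) (by simp)]
        cases n with
        | zero =>
          let α : ShortComplex.mk (Q.d 1 0) p hp ⟶
              ShortComplex.mk (Q.d 1 0) (p ≫ S.f) (by rw [reassoc_of% hp, zero_comp]) :=
            { τ₁ := 𝟙 _
              τ₂ := 𝟙 _
              τ₃ := S.f }
          have hα1 : Epi α.τ₁ := inferInstanceAs (Epi (𝟙 _))
          have hα2 : IsIso α.τ₂ := inferInstanceAs (IsIso (𝟙 _))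
          have hα3 : Mono α.τ₃ := hS.mono_f
          exact (ShortComplex.exact_iff_of_epi_of_isIso_of_mono α).1 hex0
        | succ n => exact hex n
      · apply ChainComplex.exactAt_succ_single_obj⟩

/-- The augmentation map used in `spliceResolution`. -/
noncomputable def splicedP {X₁ : C} (Q : ProjectiveResolution X₁) : Q.complex.X 0 ⟶ X₁ :=
  Q.π.f 0 ≫ (HomologicalComplex.singleObjXSelf (ComplexShape.down ℕ) 0 X₁).hom

lemma d_comp_splicedP {X₁ : C} (Q : ProjectiveResolution X₁) :
    Q.complex.d 1 0 ≫ splicedP Q = 0 := by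
  unfold splicedP
  rw [Q.complex_d_comp_π_f_zero_assoc, zero_comp]

lemma splicedP_exact {X₁ : C} (Q : ProjectiveResolution X₁) :
    (ShortComplex.mk _ _ (d_comp_splicedP Q)).Exact := by
  let e := HomologicalComplex.singleObjXSelf (ComplexShape.down ℕ) 0 X₁
  let α : ShortComplex.mk _ _ Q.complex_d_comp_π_f_zero ⟶ ShortComplex.mk _ _ (d_comp_splicedP Q) :=
    { τ₁ := 𝟙 _
      τ₂ := 𝟙 _
      τ₃ := e.hom
      comm₂₃ := by simp [splicedP, e] }
  have hα1 : Epi α.τ₁ := inferInstanceAs (Epi (𝟙 _))
  have hα2 : IsIso α.τ₂ := inferInstanceAs (IsIso (𝟙 _))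
  have hα3 : Mono α.τ₃ := inferInstanceAs (Mono e.hom)
  exact (ShortComplex.exact_iff_of_epi_of_isIso_of_mono α).1 Q.exact₀

instance splicedP_epi {X₁ : C} (Q : ProjectiveResolution X₁) : Epi (splicedP Q) := by
  unfold splicedP
  exact epi_comp _ _

/-- Splice a projective resolution of `S.X₁` with a short exact sequence `S` whose middle term is
projective, to get a projective resolution of `S.X₃`. -/
noncomputable def spliceResolution {S : ShortComplex C} (hS : S.ShortExact) [Projective S.X₂]
    (Q : ProjectiveResolution S.X₁) : ProjectiveResolution S.X₃ :=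
  spliceAux hS Q.complex Q.projective (splicedP Q) (d_comp_splicedP Q) (splicedP_exact Q)
    (splicedP_epi Q) Q.exact_succ

lemma spliceResolution_d_one_zero {S : ShortComplex C} (hS : S.ShortExact) [Projective S.X₂]
    (Q : ProjectiveResolution S.X₁) :
    (spliceResolution hS Q).complex.d 1 0 = splicedP Q ≫ S.f := rfl

lemma spliceResolution_d_succ {S : ShortComplex C} (hS : S.ShortExact) [Projective S.X₂]
    (Q : ProjectiveResolution S.X₁) (n : ℕ) :
    (spliceResolution hS Q).complex.d (n + 2) (n + 1) = Q.complex.d (n + 1) n := rfl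

variable {D : Type*} [Category D] [Abelian D] [HasProjectiveResolutions C]

/-- Dimension shifting for left derived functors. -/
theorem leftDerived_shift (F : C ⥤ D) [F.Additive] {S : ShortComplex C} (hS : S.ShortExact)
    [Projective S.X₂] (n : ℕ) :
    Nonempty ((F.leftDerived (n + 2)).obj S.X₃ ≅ (F.leftDerived (n + 1)).obj S.X₁) := by
  let Q := projectiveResolution S.X₁
  let P := spliceResolution hS Q
  let K := (F.mapHomologicalComplex (ComplexShape.down ℕ)).obj Q.complex
  let K' := (F.mapHomologicalComplex (ComplexShape.down ℕ)).obj P.complex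
  have e1 : (F.leftDerived (n + 2)).obj S.X₃ ≅ K'.homology (n + 2) := P.isoLeftDerivedObj F (n + 2)
  have e2 : (F.leftDerived (n + 1)).obj S.X₁ ≅ K.homology (n + 1) := Q.isoLeftDerivedObj F (n + 1)
  have e3 : K'.homology (n + 2) ≅ (K'.sc' (n + 3) (n + 2) (n + 1)).homology :=
    K'.homologyIsoSc' (n + 3) (n + 2) (n + 1) (by simp) (by simp)
  have e4 : K.homology (n + 1) ≅ (K.sc' (n + 2) (n + 1) n).homology :=
    K.homologyIsoSc' (n + 2) (n + 1) n (by simp) (by simp)
  have e5 : K'.sc' (n + 3) (n + 2) (n + 1) = K.sc' (n + 2) (n + 1) n := rfl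
  exact ⟨e1 ≪≫ e3 ≪≫ eqToIso (by rw [e5]) ≪≫ e4.symm ≪≫ e2.symm⟩


/-- If `S₁.g` factors as `π ≫ g` with `π` a cokernel of `S₁.f`, then `H(S₁) ≅ ker g`. -/
noncomputable def homologyIsoKernelOfCokernel (S₁ : ShortComplex D) {L : D} (π : S₁.X₂ ⟶ L)
    (g : L ⟶ S₁.X₃) (hπg : π ≫ g = S₁.g) (w : S₁.f ≫ π = 0)
    (hcc : IsColimit (CokernelCofork.ofπ π w)) : S₁.homology ≅ kernel g := by
  let e : L ≅ S₁.opcycles := S₁.isoOpcyclesOfIsColimit hcc
  have he : π ≫ e.hom = S₁.pOpcycles := S₁.π_isoOpcyclesOfIsColimit_hom hcc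
  have hepi : Epi π := Cofork.IsColimit.epi hcc
  have hg : e.hom ≫ S₁.fromOpcycles = g := by
    rw [← cancel_epi π, ← Category.assoc, he, S₁.p_fromOpcycles, hπg]
  exact (IsLimit.conePointUniqueUpToIso S₁.homologyIsKernel (kernelIsKernel S₁.fromOpcycles)) ≪≫
    (kernelIsIsoComp e.hom S₁.fromOpcycles).symm ≪≫ kernelIsoOfEq hg

/-- `L₁F(N) ≅ ker(F(L) → F(G))` for a right exact functor `F` and `0 → L → G → N → 0`
with `G` projective. -/
theorem leftDerived_one_iso_kernel (F : C ⥤ D) [F.Additive] [PreservesFiniteColimits F]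
    {S : ShortComplex C} (hS : S.ShortExact) [Projective S.X₂] :
    Nonempty ((F.leftDerived 1).obj S.X₃ ≅ kernel (F.map S.f)) := by
  let Q := projectiveResolution S.X₁
  let P := spliceResolution hS Q
  let K' := (F.mapHomologicalComplex (ComplexShape.down ℕ)).obj P.complex
  have e1 : (F.leftDerived 1).obj S.X₃ ≅ K'.homology 1 := P.isoLeftDerivedObj F 1
  have e3 : K'.homology 1 ≅ (K'.sc' 2 1 0).homology :=
    K'.homologyIsoSc' 2 1 0 (by simp) (by simp)
  have hex : (ShortComplex.mk _ _ (d_comp_splicedP Q)).Exact := splicedP_exact Q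
  have hcok : IsColimit (CokernelCofork.ofπ (splicedP Q) (d_comp_splicedP Q)) :=
    hex.gIsCokernel
  have hcok' := CokernelCofork.mapIsColimit _ hcok F
  have w : (K'.sc' 2 1 0).f ≫ F.map (splicedP Q) = 0 := by
    change F.map (Q.complex.d 1 0) ≫ F.map (splicedP Q) = 0
    rw [← F.map_comp, d_comp_splicedP, F.map_zero]
  have hπg : F.map (splicedP Q) ≫ F.map S.f = (K'.sc' 2 1 0).g := by
    change _ = F.map (splicedP Q ≫ S.f)
    rw [F.map_comp]
  exact ⟨e1 ≪≫ e3 ≪≫ homologyIsoKernelOfCokernel (K'.sc' 2 1 0) (F.map (splicedP Q)) (F.map S.f)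
    hπg w hcok'⟩

end Splice

end Groth.Agent.H18
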