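import Mathlib.Algebra.Homology.HomologySequence
import Mathlib.Algebra.Homology.HomologicalComplexAbelian
import Mathlib.CategoryTheory.Monoidal.Tor
import Mathlib.Algebra.Category.ModuleCat.Monoidal.Closed
import Mathlib.Algebra.Category.ModuleCat.Projective
import Mathlib.Algebra.Category.ModuleCat.Abelian
import Mathlib.RingTheory.Flat.CategoryTheory
import Mathlib.Algebra.Module.Projective
import Groth.Agent.H18.TorSplice

set_option autoImplicit false
universe u

namespace Groth.Agent.H18

open CategoryTheory CategoryTheory.Limits MonoidalCategory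

variable {A : Type u} [CommRing A]

/-- A projective object of `ModuleCat A` is flat. -/
theorem flat_of_projective (X : ModuleCat.{u} A) [Projective X] : Module.Flat A X := by
  have : Module.Projective A X := (IsProjective.iff_projective (R := A) (P := X)).mpr ‹_›
  infer_instance

instance (G : ModuleCat.{u} A) : PreservesFiniteColimits (tensorRight G) :=
  preservesFiniteColimits_of_natIso (BraidedCategory.tensorLeftIsoTensorRight G)

section TFamily

variable {M : ModuleCat.{u} A} (P : ProjectiveResolution M)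

/-- `P ⊗ N` as a complex. -/
noncomputable abbrev tensCx (N : ModuleCat.{u} A) : ChainComplex (ModuleCat.{u} A) ℕ :=
  ((tensorRight N).mapHomologicalComplex (ComplexShape.down ℕ)).obj P.complex

/-- functoriality of `P ⊗ N` in `N`. -/
noncomputable abbrev tensCxMap {N N' : ModuleCat.{u} A} (f : N ⟶ N') : tensCx P N ⟶ tensCx P N' :=
  (NatTrans.mapHomologicalComplex ((tensoringRight (ModuleCat.{u} A)).map f)
    (ComplexShape.down ℕ)).app P.complex

lemma tensCxMap_f {N N' : ModuleCat.{u} A} (f : N ⟶ N') (i : ℕ) :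
    (tensCxMap P f).f i = P.complex.X i ◁ f := rfl

/-- the short complex of complexes `P ⊗ S`. -/
noncomputable def tensSC (S : ShortComplex (ModuleCat.{u} A)) :
    ShortComplex (ChainComplex (ModuleCat.{u} A) ℕ) :=
  ShortComplex.mk (tensCxMap P S.f) (tensCxMap P S.g) (by
    apply HomologicalComplex.hom_ext
    intro i
    change (P.complex.X i ◁ S.f) ≫ (P.complex.X i ◁ S.g) = 0
    rw [← MonoidalCategory.whiskerLeft_comp, S.zero, MonoidalPreadditive.whiskerLeft_zero])

lemma tensSC_shortExact {S : ShortComplex (ModuleCat.{u} A)} (hS : S.ShortExact) :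
    (tensSC P S).ShortExact := by
  apply HomologicalComplex.shortExact_of_degreewise_shortExact
  intro i
  have : Module.Flat A (P.complex.X i) := flat_of_projective _
  exact hS.map_of_exact (tensorLeft (P.complex.X i))

/-- `H_{n+1}(P ⊗ G) = 0` for `G` flat. -/
lemma isZero_homology_tensCx_succ_of_flat (G : ModuleCat.{u} A) [Module.Flat A G] (n : ℕ) :
    IsZero ((tensCx P G).homology (n + 1)) := by
  rw [← HomologicalComplex.exactAt_iff_isZero_homology,
    HomologicalComplex.exactAt_iff' _ (n + 2) (n + 1) n (by simp) (by simp)]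
  have h := P.complex_exactAt_succ n
  rw [HomologicalComplex.exactAt_iff' _ (n + 2) (n + 1) n (by simp) (by simp)] at h
  exact h.map (tensorRight G)

/-- `H_{n+1}(P ⊗ G) = 0` for `G` projective. -/
lemma isZero_homology_tensCx_succ (G : ModuleCat.{u} A) [Projective G] (n : ℕ) :
    IsZero ((tensCx P G).homology (n + 1)) := by
  have : Module.Flat A G := flat_of_projective _
  exact isZero_homology_tensCx_succ_of_flat P G n

/-- (S3) for the `T` family. -/
theorem tens_shift {S : ShortComplex (ModuleCat.{u} A)} (hS : S.ShortExact) [Projective S.X₂]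
    (n : ℕ) : Nonempty ((tensCx P S.X₃).homology (n + 2) ≅ (tensCx P S.X₁).homology (n + 1)) :=
  ⟨(tensSC_shortExact P hS).δIso (n + 2) (n + 1) (by simp)
    (isZero_homology_tensCx_succ P S.X₂ (n + 1)) (isZero_homology_tensCx_succ P S.X₂ n)⟩


/-- `p ▷ N : P₀ ⊗ N ⟶ M ⊗ N` is the cokernel of `d ▷ N`. -/
noncomputable def tensCokernel (N : ModuleCat.{u} A) :
    IsColimit (CokernelCofork.ofπ (f := (tensCx P N).d 1 0) (splicedP P ▷ N) (by
      change (P.complex.d 1 0 ▷ N) ≫ (splicedP P ▷ N) = 0
      rw [← MonoidalCategory.comp_whiskerRight, d_comp_splicedP,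
        MonoidalPreadditive.zero_whiskerRight])) := by
  have hcok : IsColimit (CokernelCofork.ofπ (splicedP P) (d_comp_splicedP P)) :=
    (splicedP_exact P).gIsCokernel
  exact CokernelCofork.mapIsColimit _ hcok (tensorRight N)

/-- (S1) `H₀(P ⊗ N) ≅ M ⊗ N`. -/
noncomputable def tensH0Iso (N : ModuleCat.{u} A) : (tensCx P N).homology 0 ≅ M ⊗ N :=
  (tensCx P N).isoHomologyι₀ ≪≫
    (IsColimit.coconePointUniqueUpToIso ((tensCx P N).opcyclesIsCokernel 1 0 (by simp))
      (tensCokernel P N))

lemma pOpcycles_tensH0 (N : ModuleCat.{u} A) :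
    (tensCx P N).pOpcycles 0 ≫ (tensCx P N).isoHomologyι₀.inv ≫ (tensH0Iso P N).hom =
      splicedP P ▷ N := by
  unfold tensH0Iso
  simp only [Iso.trans_hom, Iso.inv_hom_id_assoc]
  exact IsColimit.comp_coconePointUniqueUpToIso_hom
    ((tensCx P N).opcyclesIsCokernel 1 0 (by simp)) (tensCokernel P N) WalkingParallelPair.one

lemma tensH0Iso_naturality {N N' : ModuleCat.{u} A} (f : N ⟶ N') :
    HomologicalComplex.homologyMap (tensCxMap P f) 0 ≫ (tensH0Iso P N').hom =
      (tensH0Iso P N).hom ≫ (M ◁ f) := by
  rw [← cancel_epi (tensCx P N).isoHomologyι₀.inv, ← cancel_epi ((tensCx P N).pOpcycles 0)]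
  rw [ChainComplex.isoHomologyι₀_inv_naturality_assoc,
    HomologicalComplex.p_opcyclesMap_assoc, pOpcycles_tensH0, ← Category.assoc,
    ← Category.assoc, Category.assoc _ _ (tensH0Iso P N).hom, pOpcycles_tensH0]
  exact whisker_exchange (splicedP P) f

/-- (S2) for the `T` family. -/
theorem tens_one_iso_kernel {S : ShortComplex (ModuleCat.{u} A)} (hS : S.ShortExact)
    [Projective S.X₂] :
    Nonempty ((tensCx P S.X₃).homology 1 ≅ kernel (M ◁ S.f)) := by
  have hΦ := tensSC_shortExact P hS
  have hmono : Mono (hΦ.δ 1 0 (by simp)) := hΦ.mono_δ 1 0 (by simp)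
    (isZero_homology_tensCx_succ P S.X₂ 0)
  have hex := hΦ.homology_exact₁ 1 0 (by simp)
  have hker := hex.fIsKernel
  have e1 : (tensCx P S.X₃).homology 1 ≅
      kernel (HomologicalComplex.homologyMap (tensCxMap P S.f) 0) :=
    IsLimit.conePointUniqueUpToIso hker (limit.isLimit _)
  have e2 : kernel (HomologicalComplex.homologyMap (tensCxMap P S.f) 0) ≅ kernel (M ◁ S.f) :=
    kernel.mapIso _ _ (tensH0Iso P S.X₁) (tensH0Iso P S.X₂) (tensH0Iso_naturality P S.f)
  exact ⟨e1 ≪≫ e2⟩

end TFamily


section Balance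

/-- the canonical projective presentation `0 → K → P(N) → N → 0`. -/
noncomputable def projPres (N : ModuleCat.{u} A) : ShortComplex (ModuleCat.{u} A) :=
  ShortComplex.mk (kernel.ι (Projective.π N)) (Projective.π N) (kernel.condition _)

lemma projPres_shortExact (N : ModuleCat.{u} A) : (projPres N).ShortExact where
  exact := ShortComplex.exact_of_f_is_kernel _ (kernelIsKernel (Projective.π N))
  mono_f := inferInstanceAs (Mono (kernel.ι (Projective.π N)))
  epi_g := inferInstanceAs (Epi (Projective.π N))

instance (N : ModuleCat.{u} A) : Projective (projPres N).X₂ :=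
  inferInstanceAs (Projective (Projective.over N))

/-- **Balancing of Tor**: Mathlib's `Tor` (derived in the second variable) is computed by a
projective resolution of the first variable. -/
theorem tor_iso_homology_tensCx (M : ModuleCat.{u} A) (P : ProjectiveResolution M) (n : ℕ) :
    ∀ N : ModuleCat.{u} A,
      Nonempty (((Tor (ModuleCat.{u} A) n).obj M).obj N ≅ (tensCx P N).homology n) := by
  let F : ModuleCat.{u} A ⥤ ModuleCat.{u} A := (tensoringLeft (ModuleCat.{u} A)).obj M
  have hF : PreservesFiniteColimits F := inferInstanceAs (PreservesFiniteColimits (tensorLeft M))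
  induction n with
  | zero =>
    intro N
    exact ⟨(F.leftDerivedZeroIsoSelf.app N) ≪≫ (tensH0Iso P N).symm⟩
  | succ n ih =>
    intro N
    have hS := projPres_shortExact N
    cases n with
    | zero =>
      obtain ⟨e1⟩ := leftDerived_one_iso_kernel F hS
      obtain ⟨e2⟩ := tens_one_iso_kernel P hS
      exact ⟨e1 ≪≫ e2.symm⟩
    | succ m =>
      obtain ⟨e1⟩ := leftDerived_shift F hS m
      obtain ⟨e2⟩ := tens_shift P hS m
      obtain ⟨e3⟩ := ih (projPres N).X₁
      exact ⟨e1 ≪≫ e3 ≪≫ e2.symm⟩

/-- `Tor_{n+1}(M, N) = 0` for `M` flat. -/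
theorem isZero_tor_succ_of_flat_left (M N : ModuleCat.{u} A) [Module.Flat A M] (n : ℕ) :
    IsZero (((Tor (ModuleCat.{u} A) (n + 1)).obj M).obj N) := by
  let F : ModuleCat.{u} A ⥤ ModuleCat.{u} A := (tensoringLeft (ModuleCat.{u} A)).obj M
  have hF : PreservesFiniteColimits F := inferInstanceAs (PreservesFiniteColimits (tensorLeft M))
  have hF' : PreservesFiniteLimits F := inferInstanceAs (PreservesFiniteLimits (tensorLeft M))
  let Q := projectiveResolution N
  refine IsZero.of_iso ?_ (Q.isoLeftDerivedObj F (n + 1))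
  change IsZero (((F.mapHomologicalComplex (ComplexShape.down ℕ)).obj Q.complex).homology (n + 1))
  rw [← HomologicalComplex.exactAt_iff_isZero_homology,
    HomologicalComplex.exactAt_iff' _ (n + 2) (n + 1) n (by simp) (by simp)]
  have h := Q.complex_exactAt_succ n
  rw [HomologicalComplex.exactAt_iff' _ (n + 2) (n + 1) n (by simp) (by simp)] at h
  exact h.map F

/-- `Tor_{n+1}(M, N) = 0` for `N` flat. -/
theorem isZero_tor_succ_of_flat_right (M N : ModuleCat.{u} A) [Module.Flat A N] (n : ℕ) :
    IsZero (((Tor (ModuleCat.{u} A) (n + 1)).obj M).obj N) := by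
  obtain ⟨e⟩ := tor_iso_homology_tensCx M (projectiveResolution M) (n + 1) N
  exact IsZero.of_iso (isZero_homology_tensCx_succ_of_flat _ N n) e

end Balance

end Groth.Agent.H18
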