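import Mathlib.AlgebraicGeometry.Modules.Tilde

set_option autoImplicit false
universe u

namespace Groth.Agent.H18

open CategoryTheory CategoryTheory.Limits AlgebraicGeometry TopologicalSpace Opposite

variable {S : Scheme.{u}}

theorem fromSpec_image_le {U : S.Opens} (hU : IsAffineOpen U) (V : (Spec Γ(S, U)).Opens) :
    hU.fromSpec ''ᵁ V ≤ U := by
  rintro _ ⟨x, -, rfl⟩
  have : hU.fromSpec x ∈ Set.range hU.fromSpec := ⟨x, rfl⟩
  rw [hU.range_fromSpec] at this
  exact this

theorem ΓSpecIso_inv_map_appIso_inv {U : S.Opens} (hU : IsAffineOpen U) (V : (Spec Γ(S, U)).Opens) :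
    (Scheme.ΓSpecIso Γ(S, U)).inv ≫ (Spec Γ(S, U)).presheaf.map V.leTop.op ≫
      (hU.fromSpec.appIso V).inv = S.presheaf.map (homOfLE (fromSpec_image_le hU V)).op := by
  rw [← cancel_mono (hU.fromSpec.appIso V).hom]
  simp only [Category.assoc, Iso.inv_hom_id, Category.comp_id]
  rw [Scheme.Hom.appIso_hom', Scheme.Hom.map_appLE, Scheme.Hom.appLE, hU.fromSpec_app_self,
    Category.assoc, ← Functor.map_comp]
  rfl

open Scheme.Modules in
theorem smul_restrict_fromSpec (M : S.Modules) {U : S.Opens} (hU : IsAffineOpen U)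
    (V : (Spec Γ(S, U)).Opens) (r : Γ(S, U)) (x : Γ(M.restrict hU.fromSpec, V)) :
    (M.restrictAppIso hU.fromSpec V).hom (r • x) =
      (S.presheaf.map (homOfLE (fromSpec_image_le hU V)).op r) •
        (M.restrictAppIso hU.fromSpec V).hom x := by
  rw [Scheme.Modules.smul_Spec_def, Scheme.Modules.smul_restrictAppIso_hom_apply,
    ← ΓSpecIso_inv_map_appIso_inv hU V]
  rfl

theorem le_fromSpec_image_top {U : S.Opens} (hU : IsAffineOpen U) :
    U ≤ hU.fromSpec ''ᵁ ⊤ := by
  rw [Scheme.Hom.image_top_eq_opensRange, hU.opensRange_fromSpec]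

/-- restriction of sections of a module -/
noncomputable abbrev mres (M : S.Modules) {W W' : S.Opens} (h : W' ≤ W) : Γ(M, W) ⟶ Γ(M, W') :=
  M.presheaf.map (homOfLE h).op

theorem mres_mres (M : S.Modules) {W W' W'' : S.Opens} (h : W' ≤ W) (h' : W'' ≤ W')
    (x : Γ(M, W)) : mres M h' (mres M h x) = mres M (h'.trans h) x := by
  simp only [mres, ← ConcreteCategory.comp_apply, ← Functor.map_comp]
  rfl

theorem mres_self (M : S.Modules) {W : S.Opens} (h : W ≤ W) (x : Γ(M, W)) : mres M h x = x := by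
  have : (homOfLE h).op = 𝟙 _ := rfl
  simp only [mres, this, CategoryTheory.Functor.map_id]
  rfl

theorem mres_smul (M : S.Modules) {W W' : S.Opens} (h : W' ≤ W) (a : Γ(S, W)) (x : Γ(M, W)) :
    mres M h (a • x) = S.presheaf.map (homOfLE h).op a • mres M h x :=
  Scheme.Modules.map_smul M (homOfLE h) a x

open Scheme.Modules in
theorem exists_pow_smul_eq_res_aux (M : S.Modules) [M.IsQuasicoherent] {U : S.Opens}
    (hU : IsAffineOpen U) (r : Γ(S, U)) (W : S.Opens)
    (e₂ : hU.fromSpec ''ᵁ (PrimeSpectrum.basicOpen r) = W) (hW : W ≤ U) (y : Γ(M, W)) :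
    ∃ (n : ℕ) (x : Γ(M, U)),
      (S.presheaf.map (homOfLE hW).op r) ^ n • y = mres M hW x := by
  subst e₂
  let N := M.restrict hU.fromSpec
  have hiso : IsIso N.fromTildeΓ := inferInstance
  have hloc := (isIso_fromTildeΓ_iff_isLocalizing N).mp hiso r
  obtain ⟨⟨x', ⟨_, n, rfl⟩⟩, hx'⟩ := hloc.surj (y : Γ(N, PrimeSpectrum.basicOpen r))
  refine ⟨n, mres M (le_fromSpec_image_top hU) x', ?_⟩
  let y' : Γ(N, PrimeSpectrum.basicOpen r) := y
  have h1 : ((r ^ n : Γ(S, U)) • y') =
      (S.presheaf.map (homOfLE hW).op (r ^ n)) • y :=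
    smul_restrict_fromSpec M hU _ (r ^ n) y
  have h2 : ((modulesSpecToSheaf.obj N).obj.map (PrimeSpectrum.basicOpen r).leTop.op).hom x' =
      mres M (hU.fromSpec.image_mono (le_top : PrimeSpectrum.basicOpen r ≤ ⊤)) x' := rfl
  rw [mres_mres, ← map_pow, ← h1]
  exact hx'.trans h2

open Scheme.Modules in
theorem exists_pow_smul_eq_zero_aux (M : S.Modules) [M.IsQuasicoherent] {U : S.Opens}
    (hU : IsAffineOpen U) (r : Γ(S, U)) (W : S.Opens)
    (e₂ : hU.fromSpec ''ᵁ (PrimeSpectrum.basicOpen r) = W) (hW : W ≤ U) (x : Γ(M, U))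
    (hx : mres M hW x = 0) :
    ∃ (n : ℕ), r ^ n • x = 0 := by
  subst e₂
  let N := M.restrict hU.fromSpec
  have hiso : IsIso N.fromTildeΓ := inferInstance
  have hloc := (isIso_fromTildeΓ_iff_isLocalizing N).mp hiso r
  let x' : Γ(N, ⊤) := mres M (fromSpec_image_le hU ⊤) x
  have h2 : ((modulesSpecToSheaf.obj N).obj.map (PrimeSpectrum.basicOpen r).leTop.op).hom x' =
      mres M (hU.fromSpec.image_mono (le_top : PrimeSpectrum.basicOpen r ≤ ⊤)) x' := rfl
  have h3 : ((modulesSpecToSheaf.obj N).obj.map (PrimeSpectrum.basicOpen r).leTop.op).hom x' =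
      0 := by
    rw [h2]; exact (mres_mres M _ _ x).trans hx
  obtain ⟨⟨_, n, rfl⟩, hn⟩ := (IsLocalizedModule.eq_zero_iff (.powers r) _).mp h3
  refine ⟨n, ?_⟩
  have h1 : ((r ^ n : Γ(S, U)) • x') =
      (S.presheaf.map (homOfLE (fromSpec_image_le hU ⊤)).op (r ^ n)) •
        mres M (fromSpec_image_le hU ⊤) x :=
    smul_restrict_fromSpec M hU _ (r ^ n) x'
  rw [← mres_smul] at h1
  have h4 : mres M (fromSpec_image_le hU ⊤) (r ^ n • x) = 0 := h1.symm.trans hn
  have h5 := congrArg (mres M (le_fromSpec_image_top hU)) h4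
  rw [mres_mres, mres_self, map_zero] at h5
  exact h5

/-- Quasi-coherent modules localize on affine opens: surjectivity part. -/
theorem exists_pow_smul_eq_res_of_isQuasicoherent (M : S.Modules) [M.IsQuasicoherent]
    {U : S.Opens} (hU : IsAffineOpen U) (r : Γ(S, U)) (y : Γ(M, S.basicOpen r)) :
    ∃ (n : ℕ) (x : Γ(M, U)),
      (S.presheaf.map (homOfLE (S.basicOpen_le r)).op r) ^ n • y = mres M (S.basicOpen_le r) x :=
  exists_pow_smul_eq_res_aux M hU r _ (hU.fromSpec_image_basicOpen r) _ y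

/-- Quasi-coherent modules localize on affine opens: injectivity part. -/
theorem exists_pow_smul_eq_zero_of_isQuasicoherent (M : S.Modules) [M.IsQuasicoherent]
    {U : S.Opens} (hU : IsAffineOpen U) (r : Γ(S, U)) (x : Γ(M, U))
    (hx : mres M (S.basicOpen_le r) x = 0) : ∃ (n : ℕ), r ^ n • x = 0 :=
  exists_pow_smul_eq_zero_aux M hU r _ (hU.fromSpec_image_basicOpen r) _ x hx

end Groth.Agent.H18
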