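import Groth.Agent.H18.FTypeEpi
import Groth.Agent.H18.QCohLocalize

set_option autoImplicit false
universe u
open CategoryTheory Limits Opposite AlgebraicGeometry TopologicalSpace

namespace Groth.Agent.H18

variable {X : Scheme.{u}}

noncomputable def overSection (M : X.Modules) (U : X.Opens) (t : Γ(M, U)) : (M.over U).sections :=
  PresheafOfModules.sectionsMk (fun V => M.val.map (V.unop.hom).op t) (by
    intro V W g
    have h1 : ∀ y, (M.over U).val.map g y = M.presheaf.map g.unop.left.op y := fun _ => rfl
    have h2 : ∀ (V : (Over U)ᵒᵖ), M.val.map (V.unop.hom).op t = M.presheaf.map (V.unop.hom).op t := fun _ => rfl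
    rw [h1, h2, h2]
    have := ConcreteCategory.congr_hom (M.presheaf.map_comp (V.unop.hom).op g.unop.left.op) t
    refine Eq.trans ?_ (this.symm.trans ?_)
    · rfl
    · congr 2)

theorem overSection_eval (M : X.Modules) (U : X.Opens) (t : Γ(M, U)) (V : (Over U)ᵒᵖ) :
    PresheafOfModules.sections.eval (overSection M U t) V = M.presheaf.map (V.unop.hom).op t := rfl

theorem mres_mem_span (M : X.Modules) {W W' : X.Opens} (h : W' ≤ W) {σ : Type*}
    (s : σ → Γ(M, W)) (t : Γ(M, W)) (ht : t ∈ Submodule.span Γ(X, W) (Set.range s)) :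
    mres M h t ∈ Submodule.span Γ(X, W') (Set.range fun j => mres M h (s j)) := by
  induction ht using Submodule.span_induction with
  | mem y hy =>
    obtain ⟨j, rfl⟩ := hy
    exact Submodule.subset_span ⟨j, rfl⟩
  | zero => rw [map_zero]; exact Submodule.zero_mem _
  | add y z _ _ hy hz => rw [map_add]; exact Submodule.add_mem _ hy hz
  | smul a y _ hy => rw [mres_smul]; exact Submodule.smul_mem _ _ hy

/-- Criterion for finite type: locally generated by finitely many sections. -/
theorem isFiniteType_of_locally_generated (M : X.Modules) {ι : Type u} (U : ι → X.Opens)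
    (hU : IsOpenCover U) (σ : ι → Type u) [∀ i, Finite (σ i)] (s : ∀ i, σ i → Γ(M, U i))
    (h : ∀ i (V : X.Opens) (hV : V ≤ U i) (t : Γ(M, V)) (x : X), x ∈ V →
      ∃ (W : X.Opens) (hW : W ≤ V), x ∈ W ∧
        mres M hW t ∈ Submodule.span Γ(X, W) (Set.range fun j => mres M (hW.trans hV) (s i j))) :
    SheafOfModules.IsFiniteType (R := X.ringCatSheaf) M := by
  have hcov : (Opens.grothendieckTopology X).CoversTop U := (_root_.Opens.coversTop_iff _ U).mpr hU
  have hepi : ∀ i, Epi ((M.over (U i)).freeHomEquiv.symm (fun j => overSection M (U i) (s i j))) := by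
    intro i
    refine epi_freeHomEquiv_symm _ _ ?_
    intro V t
    let t' : Γ(M, V.left) := t
    let S : Sieve V :=
      { arrows := fun Y f => mres M (leOfHom f.left) t' ∈ Submodule.span Γ(X, Y.left)
          (Set.range fun j => mres M (leOfHom Y.hom) (s i j))
        downward_closed := by
          intro Y Z f hf g
          have h1 := mres_mem_span M (leOfHom g.left) _ _ hf
          have h2 : mres M (leOfHom (g ≫ f).left) t' =
              mres M (leOfHom g.left) (mres M (leOfHom f.left) t') := (mres_mres M _ _ t').symm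
          have h3 : (fun j => mres M (leOfHom Z.hom) (s i j)) =
              fun j => mres M (leOfHom g.left) (mres M (leOfHom Y.hom) (s i j)) := by
            funext j
            exact (mres_mres M _ _ (s i j)).symm
          change mres M (leOfHom (g ≫ f).left) t' ∈ Submodule.span Γ(X, Z.left)
            (Set.range fun j => mres M (leOfHom Z.hom) (s i j))
          rw [h2, h3]
          exact h1 }
    refine ⟨S, ?_, ?_⟩
    · rw [GrothendieckTopology.mem_over_iff]
      intro x hx
      obtain ⟨W, hW, hxW, hspan⟩ := h i V.left (leOfHom V.hom) t' x hx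
      refine ⟨W, homOfLE hW, ?_, hxW⟩
      rw [Sieve.overEquiv_iff]
      exact hspan
    · intro Y f hf
      exact hf
  let D : SheafOfModules.LocalGeneratorsData.{u} (R := X.ringCatSheaf) M :=
    { I := ι, X := U, coversTop := hcov,
      generators := fun i => { I := σ i, s := fun j => overSection M (U i) (s i j),
                               epi := hepi i } }
  have hD : D.IsFiniteType :=
    { isFiniteType := fun i => { finite := inferInstanceAs (Finite (σ i)) } }
  exact SheafOfModules.IsFiniteType.mk (R := X.ringCatSheaf) (M := M) ⟨D, hD⟩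

/-- A quasi-coherent module whose sections over the members of an affine open cover are
generated by finitely many sections is of finite type. -/
theorem isFiniteType_of_isQuasicoherent_of_span_eq_top (M : X.Modules) [M.IsQuasicoherent]
    {ι : Type u} (U : ι → X.Opens) (hU : IsOpenCover U) (hUa : ∀ i, IsAffineOpen (U i))
    (σ : ι → Type u) [∀ i, Finite (σ i)] (s : ∀ i, σ i → Γ(M, U i))
    (hs : ∀ i, Submodule.span Γ(X, U i) (Set.range (s i)) = ⊤) :
    SheafOfModules.IsFiniteType (R := X.ringCatSheaf) M := by
  refine isFiniteType_of_locally_generated M U hU σ s ?_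
  intro i V hV t x hx
  obtain ⟨r, hrV, hxr⟩ := (hUa i).exists_basicOpen_le ⟨x, hx⟩ (hV hx)
  have aux : ∀ (W : X.Opens) (_ : W = X.basicOpen r) (hWV : W ≤ V) (hWU : W ≤ U i),
      x ∈ W → mres M hWV t ∈ Submodule.span Γ(X, W)
        (Set.range fun j => mres M hWU (s i j)) := by
    intro W e hWV hWU hxW
    subst e
    obtain ⟨n, τ, hτ⟩ := exists_pow_smul_eq_res_of_isQuasicoherent M (hUa i) r (mres M hWV t)
    have hu : IsUnit (X.presheaf.map (homOfLE (X.basicOpen_le r)).op r) :=
      RingedSpace.isUnit_res_basicOpen _ r
    have hτs : τ ∈ Submodule.span Γ(X, U i) (Set.range (s i)) := by rw [hs i]; trivial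
    have h1 := mres_mem_span M (X.basicOpen_le r) (s i) τ hτs
    rw [← hτ] at h1
    have hun := hu.pow n
    obtain ⟨v, hv⟩ := hun
    have h2 := Submodule.smul_mem _ (↑v⁻¹ : Γ(X, X.basicOpen r)) h1
    rw [← hv, smul_smul, Units.inv_mul, one_smul] at h2
    exact h2
  exact ⟨X.basicOpen r, hrV, hxr, aux _ rfl hrV (X.basicOpen_le r) hxr⟩

end Groth.Agent.H18
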