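import Mathlib.AlgebraicGeometry.Modules.Tilde

set_option autoImplicit false
universe u

open CategoryTheory CategoryTheory.Limits AlgebraicGeometry TopologicalSpace Opposite

namespace Groth.Agent.H18

theorem isQuasicoherent_over_of_restrict {X : Scheme.{u}} (M : X.Modules) (U : X.Opens)
    (h : (M.restrict U.ι).IsQuasicoherent) : (M.over U).IsQuasicoherent := by
  let e := Scheme.Modules.overEquiv U
  have h1 : (e.functor.obj (M.over U)).IsQuasicoherent :=
    (SheafOfModules.isQuasicoherent (U : Scheme.{u}).ringCatSheaf).prop_of_iso
      ((Scheme.Modules.overFunctorEquiv U).app M).symm h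
  have h2 : (e.inverse.obj (e.functor.obj (M.over U))).IsQuasicoherent := by
    have : (e.functor.obj (M.over U)).IsQuasicoherent := h1
    have hcp : CoverPreserving ((Opens.grothendieckTopology X).over U)
        (Opens.grothendieckTopology (↥U)) (Opens.overEquivalence U).symm.inverse :=
      Functor.IsDenseSubsite.coverPreserving _ _ _
    have hpo : Functor.PreservesOneHypercovers.{u} (Opens.overEquivalence U).symm.inverse
        ((Opens.grothendieckTopology X).over U) (Opens.grothendieckTopology (↥U)) :=
      Functor.PreservesOneHypercovers.of_coverPreserving hcp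
    have h1' : SheafOfModules.IsQuasicoherent (R := (Opens.sheafRestrict U).obj X.ringCatSheaf)
        ((U.sheafOfModulesEquivOver X.ringCatSheaf).functor.obj (M.over U)) := h1
    exact @SheafOfModules.isQuasicoherent_pushforward_of_isLeftAdjoint.{u} _ _ _ _ _ _ _ _ _ _ _ _ _
      _ _ _ _ (U.sheafOfModulesEquivOverInverseUnit X.ringCatSheaf) _ _ _ _ _ _ h1'
  exact (SheafOfModules.isQuasicoherent (X.ringCatSheaf.over U)).prop_of_iso
    (e.unitIso.app (M.over U)).symm h2

/-- Quasi-coherence is local: a module whose restrictions to the members of an open cover are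
quasi-coherent is quasi-coherent. -/
theorem isQuasicoherent_of_isOpenCover {X : Scheme.{u}} (M : X.Modules) {ι : Type u}
    (U : ι → X.Opens) (hU : IsOpenCover U) (h : ∀ i, (M.restrict (U i).ι).IsQuasicoherent) :
    M.IsQuasicoherent := by
  have hcov : (Opens.grothendieckTopology X).CoversTop U := (_root_.Opens.coversTop_iff _ U).mpr hU
  haveI : ∀ i, (M.over (U i)).IsQuasicoherent :=
    fun i => isQuasicoherent_over_of_restrict M (U i) (h i)
  exact SheafOfModules.IsQuasicoherent.of_coversTop M U hcov

end Groth.Agent.H18
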