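import Groth.Agent.H18.QCohLocalize
import Groth.Agent.H18.QCohLocal

set_option autoImplicit false
universe u

open CategoryTheory CategoryTheory.Limits AlgebraicGeometry TopologicalSpace Opposite

namespace Groth.Agent.H18

variable {S : Scheme.{u}}

theorem mres_injective_of_eq (M : S.Modules) {W W' : S.Opens} (h : W' = W) :
    Function.Injective (mres M h.le) := by
  subst h
  intro a b hab
  rwa [mres_self, mres_self] at hab

open Scheme.Modules in
/-- A module satisfying the localization property on an affine open `U` is quasi-coherent after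
restriction to `Spec Γ(S, U)`. -/
theorem isQuasicoherent_restrict_fromSpec_of_localizes (M : S.Modules) {U : S.Opens}
    (hU : IsAffineOpen U)
    (hsurj : ∀ (r : Γ(S, U)) (y : Γ(M, S.basicOpen r)), ∃ (n : ℕ) (x : Γ(M, U)),
      (S.presheaf.map (homOfLE (S.basicOpen_le r)).op r) ^ n • y = mres M (S.basicOpen_le r) x)
    (hinj : ∀ (r : Γ(S, U)) (x : Γ(M, U)), mres M (S.basicOpen_le r) x = 0 →
      ∃ n : ℕ, r ^ n • x = 0) :
    (M.restrict hU.fromSpec).IsQuasicoherent := by
  have aux1 : ∀ (r : Γ(S, U)) (W : S.Opens) (hW : W ≤ U) (_ : W = S.basicOpen r) (y₀ : Γ(M, W)),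
      ∃ (n : ℕ) (x : Γ(M, U)),
        (S.presheaf.map (homOfLE hW).op (r ^ n)) • y₀ = mres M hW x := by
    intro r W hW e y₀
    subst e
    obtain ⟨n, x, hx⟩ := hsurj r y₀
    exact ⟨n, x, by rw [map_pow]; exact hx⟩
  have aux2 : ∀ (r : Γ(S, U)) (W : S.Opens) (hW : W ≤ U) (_ : W = S.basicOpen r) (x : Γ(M, U)),
      mres M hW x = 0 → ∃ n : ℕ, r ^ n • x = 0 := by
    intro r W hW e x hx
    subst e
    exact hinj r x hx
  rw [isQuasicoherent_iff_isIso_fromTildeΓ, isIso_fromTildeΓ_iff_isLocalizing]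
  intro r
  let N := M.restrict hU.fromSpec
  have e₂ : hU.fromSpec ''ᵁ (PrimeSpectrum.basicOpen r) = S.basicOpen r :=
    hU.fromSpec_image_basicOpen r
  refine IsLocalizedModule.Away.mk_of_addCommGroup
    (Scheme.Modules.isUnit_algebraMap_end_of_le_basicOpen r le_rfl) ?_ ?_
  · intro y
    let y₀ : Γ(M, hU.fromSpec ''ᵁ (PrimeSpectrum.basicOpen r)) := y
    obtain ⟨n, x, hx⟩ := aux1 r _ (fromSpec_image_le hU _) e₂ y₀
    refine ⟨n, (mres M (fromSpec_image_le hU ⊤) x : Γ(M, hU.fromSpec ''ᵁ ⊤)), ?_⟩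
    have h1 : ((r ^ n : Γ(S, U)) • (y : Γ(N, PrimeSpectrum.basicOpen r))) =
        (S.presheaf.map (homOfLE (fromSpec_image_le hU _)).op (r ^ n)) • y₀ :=
      smul_restrict_fromSpec M hU _ (r ^ n) y
    have h2 : ((modulesSpecToSheaf.obj N).obj.map (PrimeSpectrum.basicOpen r).leTop.op).hom
        (mres M (fromSpec_image_le hU ⊤) x : Γ(M, hU.fromSpec ''ᵁ ⊤)) =
        mres M (hU.fromSpec.image_mono (le_top : PrimeSpectrum.basicOpen r ≤ ⊤))
          (mres M (fromSpec_image_le hU ⊤) x) := rfl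
    exact h1.trans (hx.trans ((mres_mres M _ _ x).symm.trans h2.symm))
  · intro x hx
    let x₀ : Γ(M, hU.fromSpec ''ᵁ ⊤) := x
    have h2 : ((modulesSpecToSheaf.obj N).obj.map (PrimeSpectrum.basicOpen r).leTop.op).hom x =
        mres M (hU.fromSpec.image_mono (le_top : PrimeSpectrum.basicOpen r ≤ ⊤)) x₀ := rfl
    have hx' : mres M (hU.fromSpec.image_mono (le_top : PrimeSpectrum.basicOpen r ≤ ⊤)) x₀ = 0 :=
      h2.symm.trans hx
    let x₁ : Γ(M, U) := mres M (le_fromSpec_image_top hU) x₀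
    have hx₁ : mres M (fromSpec_image_le hU (PrimeSpectrum.basicOpen r)) x₁ = 0 :=
      (mres_mres M _ _ x₀).trans hx'
    obtain ⟨n, hn⟩ := aux2 r _ (fromSpec_image_le hU _) e₂ x₁ hx₁
    refine ⟨n, ?_⟩
    have h1 : ((r ^ n : Γ(S, U)) • (x : Γ(N, ⊤))) =
        (S.presheaf.map (homOfLE (fromSpec_image_le hU _)).op (r ^ n)) • x₀ :=
      smul_restrict_fromSpec M hU _ (r ^ n) x
    have h3 : x₀ = mres M (fromSpec_image_le hU ⊤) x₁ :=
      ((mres_mres M _ _ x₀).trans (mres_self M _ x₀)).symm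
    have h4 : (S.presheaf.map (homOfLE (fromSpec_image_le hU ⊤)).op (r ^ n)) • x₀ = 0 := by
      have h5 := mres_smul M (fromSpec_image_le hU ⊤) (r ^ n) x₁
      rw [hn, map_zero] at h5
      rw [h3]
      exact h5.symm
    exact h1.trans h4

theorem isQuasicoherent_restrict_ι_of_fromSpec (M : S.Modules) {U : S.Opens}
    (hU : IsAffineOpen U) (h : (M.restrict hU.fromSpec).IsQuasicoherent) :
    (M.restrict U.ι).IsQuasicoherent := by
  have h1 : ((M.restrict hU.fromSpec).restrict hU.isoSpec.hom).IsQuasicoherent := inferInstance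
  have e : Scheme.Modules.restrictFunctor U.ι ≅
      Scheme.Modules.restrictFunctor hU.fromSpec ⋙ Scheme.Modules.restrictFunctor hU.isoSpec.hom :=
    Scheme.Modules.restrictFunctorCongr (hU.isoSpec_hom_fromSpec).symm ≪≫
      Scheme.Modules.restrictFunctorComp _ _
  exact (SheafOfModules.isQuasicoherent (U : Scheme.{u}).ringCatSheaf).prop_of_iso
    (e.app M).symm h1

/-- Criterion for quasi-coherence: an open cover by affine opens on which the module localizes. -/
theorem isQuasicoherent_of_localizes (M : S.Modules) {ι : Type u} (U : ι → S.Opens)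
    (hU : IsOpenCover U) (hUa : ∀ i, IsAffineOpen (U i))
    (hsurj : ∀ i (r : Γ(S, U i)) (y : Γ(M, S.basicOpen r)), ∃ (n : ℕ) (x : Γ(M, U i)),
      (S.presheaf.map (homOfLE (S.basicOpen_le r)).op r) ^ n • y = mres M (S.basicOpen_le r) x)
    (hinj : ∀ i (r : Γ(S, U i)) (x : Γ(M, U i)), mres M (S.basicOpen_le r) x = 0 →
      ∃ n : ℕ, r ^ n • x = 0) :
    M.IsQuasicoherent :=
  isQuasicoherent_of_isOpenCover M U hU fun i =>
    isQuasicoherent_restrict_ι_of_fromSpec M (hUa i)
      (isQuasicoherent_restrict_fromSpec_of_localizes M (hUa i) (hsurj i) (hinj i))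

end Groth.Agent.H18
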