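import Groth.Agent.H18.FTypeConverse

set_option autoImplicit false
universe u
open CategoryTheory Limits Opposite AlgebraicGeometry TopologicalSpace

namespace Groth.Agent.H18

variable {X : Scheme.{u}}

/-- Core: on an affine open `U`, if `t|D(g)` is in the span of `T|D(g)` then `g^N t ∈ span T`. -/
theorem exists_pow_smul_mem_span (M : X.Modules) [M.IsQuasicoherent] {U : X.Opens}
    (hU : IsAffineOpen U) (g : Γ(X, U)) (T : Set Γ(M, U)) (t : Γ(M, U))
    (h : mres M (X.basicOpen_le g) t ∈ Submodule.span Γ(X, X.basicOpen g)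
      ((fun τ => mres M (X.basicOpen_le g) τ) '' T)) :
    ∃ N : ℕ, g ^ N • t ∈ Submodule.span Γ(X, U) T := by
  have hloc := hU.isLocalization_basicOpen g
  have key : ∀ y ∈ Submodule.span Γ(X, X.basicOpen g) ((fun τ => mres M (X.basicOpen_le g) τ) '' T),
      ∃ (N : ℕ) (τ : Γ(M, U)), τ ∈ Submodule.span Γ(X, U) T ∧
        mres M (X.basicOpen_le g) τ = (X.presheaf.map (homOfLE (X.basicOpen_le g)).op g) ^ N • y := by
    intro y hy
    induction hy using Submodule.span_induction with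
    | mem y hy =>
      obtain ⟨τ, hτ, rfl⟩ := hy
      exact ⟨0, τ, Submodule.subset_span hτ, by rw [pow_zero, one_smul]⟩
    | zero => exact ⟨0, 0, Submodule.zero_mem _, by rw [map_zero, smul_zero]⟩
    | add y z _ _ hy hz =>
      obtain ⟨N1, τ1, h1, e1⟩ := hy
      obtain ⟨N2, τ2, h2, e2⟩ := hz
      refine ⟨N1 + N2, g ^ N2 • τ1 + g ^ N1 • τ2,
        Submodule.add_mem _ (Submodule.smul_mem _ _ h1) (Submodule.smul_mem _ _ h2), ?_⟩
      rw [map_add, mres_smul, mres_smul, e1, e2, map_pow, map_pow, smul_smul, smul_smul, smul_add,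
        ← pow_add, ← pow_add, add_comm N2 N1]
    | smul c y _ hy =>
      obtain ⟨N1, τ1, h1, e1⟩ := hy
      obtain ⟨⟨a, ⟨_, n, rfl⟩⟩, ha⟩ := IsLocalization.surj (Submonoid.powers g) c
      have ha' : c * (X.presheaf.map (homOfLE (X.basicOpen_le g)).op g) ^ n =
          X.presheaf.map (homOfLE (X.basicOpen_le g)).op a := by
        rw [← map_pow]; exact ha
      refine ⟨N1 + n, a • τ1, Submodule.smul_mem _ _ h1, ?_⟩
      rw [mres_smul, e1, ← ha', smul_smul, smul_smul]
      congr 1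
      ring
  obtain ⟨N, τ, hτ, e⟩ := key _ h
  have h0 : mres M (X.basicOpen_le g) (τ - g ^ N • t) = 0 := by
    rw [map_sub, mres_smul, e, map_pow, sub_self]
  obtain ⟨k, hk⟩ := exists_pow_smul_eq_zero_of_isQuasicoherent M hU g _ h0
  refine ⟨k + N, ?_⟩
  rw [smul_sub, sub_eq_zero, smul_smul, ← pow_add] at hk
  rw [← hk]
  exact Submodule.smul_mem _ _ hτ

end Groth.Agent.H18

namespace Groth.Agent.H18

variable {X : Scheme.{u}}

/-- On an affine open, a section which is locally in the span of a family of sections is in the span. -/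
theorem mem_span_of_locally_mem_span (M : X.Modules) [M.IsQuasicoherent] {U : X.Opens}
    (hU : IsAffineOpen U) {σ : Type*} (s : σ → Γ(M, U)) (t : Γ(M, U))
    (h : ∀ x ∈ U, ∃ (W : X.Opens) (hW : W ≤ U), x ∈ W ∧
      mres M hW t ∈ Submodule.span Γ(X, W) (Set.range fun j => mres M hW (s j))) :
    t ∈ Submodule.span Γ(X, U) (Set.range s) := by
  have hx : ∀ x : U, ∃ (g : Γ(X, U)) (N : ℕ), x.1 ∈ X.basicOpen g ∧
      g ^ N • t ∈ Submodule.span Γ(X, U) (Set.range s) := by
    intro x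
    obtain ⟨W, hW, hxW, hspan⟩ := h x.1 x.2
    obtain ⟨g, hgW, hxg⟩ := hU.exists_basicOpen_le ⟨x.1, hxW⟩ x.2
    have h1 := mres_mem_span M hgW _ _ hspan
    rw [mres_mres] at h1
    have h2 : (fun j => mres M hgW (mres M hW (s j))) = fun j => mres M (X.basicOpen_le g) (s j) := by
      funext j
      exact mres_mres M _ _ _
    rw [h2] at h1
    have h3 : (fun τ => mres M (X.basicOpen_le g) τ) '' (Set.range s) =
        Set.range fun j => mres M (X.basicOpen_le g) (s j) := by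
      rw [← Set.range_comp]; rfl
    obtain ⟨N, hN⟩ := exists_pow_smul_mem_span M hU g (Set.range s) t (by rw [h3]; exact h1)
    exact ⟨g, N, hxg, hN⟩
  choose g N hxg hN using hx
  have hcov : U ≤ ⨆ f : Set.range g, X.basicOpen f.1 := by
    intro x hx
    rw [Opens.mem_iSup]
    exact ⟨⟨g ⟨x, hx⟩, ⟨_, rfl⟩⟩, hxg ⟨x, hx⟩⟩
  have htop : Ideal.span (Set.range g) = ⊤ := hU.self_le_iSup_basicOpen_iff.mp hcov
  by_contra hne
  let I : Ideal Γ(X, U) := (Submodule.span Γ(X, U) (Set.range s)).colon {t}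
  have hI : I ≠ ⊤ := by
    intro hI
    apply hne
    have h1 : (1 : Γ(X, U)) ∈ I := by rw [hI]; trivial
    have h2 := Submodule.mem_colon_singleton.mp h1
    rwa [one_smul] at h2
  obtain ⟨m, hm, hle⟩ := Ideal.exists_le_maximal I hI
  have hsub : Ideal.span (Set.range g) ≤ m := by
    rw [Ideal.span_le]
    rintro _ ⟨x, rfl⟩
    have : g x ^ N x ∈ I := Submodule.mem_colon_singleton.mpr (hN x)
    exact hm.isPrime.mem_of_pow_mem _ (hle this)
  rw [htop] at hsub
  exact hm.ne_top (top_le_iff.mp hsub)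

end Groth.Agent.H18

namespace Groth.Agent.H18

variable {X : Scheme.{u}}

/-- A quasi-coherent module of finite type has finitely generated sections over affine opens. -/
theorem fg_top_of_isFiniteType (M : X.Modules) [M.IsQuasicoherent]
    (hFT : SheafOfModules.IsFiniteType (R := X.ringCatSheaf) M) {U : X.Opens} (hU : IsAffineOpen U) :
    (⊤ : Submodule Γ(X, U) Γ(M, U)).FG := by
  obtain ⟨ι, V, hV, σ, hfin, s, hgen⟩ := exists_local_generators_of_isFiniteType M hFT
  have hx : ∀ x : U, ∃ (i : ι) (r : Γ(X, U)), X.basicOpen r ≤ V i ∧ x.1 ∈ X.basicOpen r := by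
    intro x
    obtain ⟨i, hi⟩ := hV.exists_mem x.1
    obtain ⟨r, hr, hxr⟩ := hU.exists_basicOpen_le ⟨x.1, hi⟩ x.2
    exact ⟨i, r, hr, hxr⟩
  choose ix r hrV hxr using hx
  have hcov : U ≤ ⨆ f : Set.range r, X.basicOpen f.1 := by
    intro x hx
    rw [Opens.mem_iSup]
    exact ⟨⟨r ⟨x, hx⟩, ⟨_, rfl⟩⟩, hxr ⟨x, hx⟩⟩
  have htop : Ideal.span (Set.range r) = ⊤ := hU.self_le_iSup_basicOpen_iff.mp hcov
  obtain ⟨s', hs', hs'top⟩ := (Ideal.span_eq_top_iff_finite _).mp htop
  have hpt : ∀ f : s', ∃ x : U, r x = f.1 := fun f => hs' f.2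
  choose pt hpt using hpt
  -- the index type
  let K := Σ f : s', σ (ix (pt f))
  have hle : ∀ f : s', X.basicOpen f.1 ≤ V (ix (pt f)) := by
    intro f
    rw [← hpt f]
    exact hrV (pt f)
  have hτ : ∀ k : K, ∃ (n : ℕ) (τ : Γ(M, U)),
      (X.presheaf.map (homOfLE (X.basicOpen_le k.1.1)).op k.1.1) ^ n • mres M (hle k.1) (s _ k.2) =
        mres M (X.basicOpen_le k.1.1) τ := fun k =>
    exists_pow_smul_eq_res_of_isQuasicoherent M hU k.1.1 _
  choose n τ hτ using hτ
  have : Finite K := inferInstance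
  refine Submodule.fg_def.mpr ⟨Set.range τ, Set.finite_range τ, ?_⟩
  rw [eq_top_iff]
  rintro t -
  refine mem_span_of_locally_mem_span M hU τ t ?_
  intro x hxU
  have hcov' : U ≤ ⨆ f : (s' : Set Γ(X, U)), X.basicOpen f.1 := hU.self_le_iSup_basicOpen_iff.mpr hs'top
  obtain ⟨f, hxf⟩ := Opens.mem_iSup.mp (hcov' hxU)
  refine ⟨X.basicOpen f.1, X.basicOpen_le f.1, hxf, ?_⟩
  have h1 : mres M (X.basicOpen_le f.1) t ∈ Submodule.span Γ(X, X.basicOpen f.1)
      (Set.range fun j : σ (ix (pt f)) => mres M (hle f) (s _ j)) := by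
    refine mem_span_of_locally_mem_span M (hU.basicOpen f.1) _ _ ?_
    intro y hy
    obtain ⟨W, hW, hyW, hspan⟩ := hgen (ix (pt f)) (X.basicOpen f.1) (hle f) (mres M (X.basicOpen_le f.1) t) y hy
    refine ⟨W, hW, hyW, ?_⟩
    have h2 : (fun j => mres M hW (mres M (hle f) (s (ix (pt f)) j))) =
        fun j => mres M (hW.trans (hle f)) (s (ix (pt f)) j) := by
      funext j
      exact mres_mres M _ _ _
    rw [h2]
    exact hspan
  refine Submodule.span_le.mpr ?_ h1
  rintro _ ⟨j, rfl⟩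
  have hu : IsUnit (X.presheaf.map (homOfLE (X.basicOpen_le f.1)).op f.1) :=
    RingedSpace.isUnit_res_basicOpen _ f.1
  obtain ⟨v, hv⟩ := hu.pow (n ⟨f, j⟩)
  have h3 : mres M (X.basicOpen_le f.1) (τ ⟨f, j⟩) ∈ Submodule.span Γ(X, X.basicOpen f.1)
      (Set.range fun k => mres M (X.basicOpen_le f.1) (τ k)) := Submodule.subset_span ⟨⟨f, j⟩, rfl⟩
  rw [← hτ ⟨f, j⟩] at h3
  have h4 := Submodule.smul_mem _ (↑v⁻¹ : Γ(X, X.basicOpen f.1)) h3
  rw [← hv, smul_smul, Units.inv_mul, one_smul] at h4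
  exact h4

end Groth.Agent.H18
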