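import Mathlib.AlgebraicGeometry.ProjectiveSpectrum.Basic
import Mathlib.RingTheory.GradedAlgebra.Homogeneous.Ideal
import Mathlib.RingTheory.GradedAlgebra.Radical

set_option autoImplicit false
universe u

open AlgebraicGeometry

namespace Groth.Agent.H18

section

variable {R A : Type u} [CommRing R] [CommRing A] [Algebra R A]
variable (𝒜 : ℕ → Submodule R A) [GradedAlgebra 𝒜]

/-- A homogeneous element of positive degree outside the radical of a homogeneous ideal `I`
is avoided by some relevant homogeneous prime containing `I`. -/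
theorem exists_relevant_prime_of_not_mem_radical (I : Ideal A) (hI : I.IsHomogeneous 𝒜)
    {d : ℕ} (hd : 0 < d) {f : A} (hf : f ∈ 𝒜 d) (hfI : f ∉ I.radical) :
    ∃ p : ProjectiveSpectrum 𝒜, I ≤ p.asHomogeneousIdeal.toIdeal ∧ f ∉ p.asHomogeneousIdeal := by
  rw [Ideal.radical_eq_sInf, Ideal.mem_sInf] at hfI
  push Not at hfI
  obtain ⟨J, ⟨hIJ, hJ⟩, hfJ⟩ := hfI
  have hcore : (J.homogeneousCore 𝒜).toIdeal.IsPrime := hJ.homogeneousCore
  have hfcore : f ∉ (J.homogeneousCore 𝒜).toIdeal := fun h =>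
    hfJ (Ideal.toIdeal_homogeneousCore_le 𝒜 J h)
  refine ⟨⟨J.homogeneousCore 𝒜, hcore, fun hle => hfcore ?_⟩, ?_, hfcore⟩
  · exact hle (HomogeneousIdeal.mem_irrelevant_of_mem 𝒜 hd hf)
  · exact hI.toIdeal_homogeneousCore_eq_self.symm.trans_le (Ideal.homogeneousCore_mono 𝒜 hIJ)

/-- The zero locus in `Proj` of a homogeneous ideal is empty iff the irrelevant ideal lies in its radical. -/
theorem zeroLocus_eq_empty_iff (I : Ideal A) (hI : I.IsHomogeneous 𝒜) :
    ProjectiveSpectrum.zeroLocus 𝒜 (I : Set A) = ∅ ↔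
      (HomogeneousIdeal.irrelevant 𝒜).toIdeal ≤ I.radical := by
  constructor
  · intro h
    rw [HomogeneousIdeal.toIdeal_irrelevant_le]
    intro d hd f hf
    by_contra hfI
    obtain ⟨p, hIp, -⟩ := exists_relevant_prime_of_not_mem_radical 𝒜 I hI hd hf hfI
    have : p ∈ ProjectiveSpectrum.zeroLocus 𝒜 (I : Set A) := hIp
    rw [h] at this
    exact this
  · intro h
    rw [Set.eq_empty_iff_forall_notMem]
    intro p hp
    refine p.not_irrelevant_le ?_
    have h1 : I.radical ≤ p.asHomogeneousIdeal.toIdeal :=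
      (Ideal.IsPrime.radical_le_iff p.isPrime).mpr hp
    exact h.trans h1

end


section

variable {R A : Type u} [CommRing R] [CommRing A] [Algebra R A]
variable (𝒜 : ℕ → Submodule R A) [GradedAlgebra 𝒜]

/-- The ideal generated by homogeneous elements of degree in `(0, D]`. -/
def lowIdeal (D : ℕ) : Ideal A := Ideal.span (⋃ i ∈ Set.Ioc 0 D, (𝒜 i : Set A))

theorem lowIdeal_le_irrelevant (D : ℕ) : lowIdeal 𝒜 D ≤ (HomogeneousIdeal.irrelevant 𝒜).toIdeal := by
  rw [lowIdeal, Ideal.span_le]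
  intro x hx
  simp only [Set.mem_iUnion, exists_prop] at hx
  obtain ⟨i, hi, hx⟩ := hx
  exact HomogeneousIdeal.mem_irrelevant_of_mem 𝒜 hi.1 hx

theorem exists_irrelevant_le_lowIdeal (hfg : (HomogeneousIdeal.irrelevant 𝒜).toIdeal.FG) :
    ∃ D : ℕ, (HomogeneousIdeal.irrelevant 𝒜).toIdeal ≤ lowIdeal 𝒜 D := by
  classical
  obtain ⟨S, hS⟩ := hfg
  refine ⟨S.sup fun g => (DirectSum.decompose 𝒜 g).support.sup id, ?_⟩
  rw [← hS, Ideal.span_le]
  intro g hg
  have hgI : g ∈ (HomogeneousIdeal.irrelevant 𝒜).toIdeal := hS ▸ Ideal.subset_span hg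
  rw [SetLike.mem_coe, ← DirectSum.sum_support_decompose 𝒜 g]
  refine Ideal.sum_mem _ fun i hi => Ideal.subset_span ?_
  simp only [Set.mem_iUnion, exists_prop]
  refine ⟨i, ⟨?_, ?_⟩, Subtype.prop _⟩
  · rcases Nat.eq_zero_or_pos i with h0 | h0
    · exfalso
      subst h0
      rw [DFinsupp.mem_support_iff] at hi
      apply hi
      ext
      simpa using hgI
    · exact h0
  · have h1 : i ≤ (DirectSum.decompose 𝒜 g).support.sup id := Finset.le_sup (f := id) hi
    exact h1.trans (Finset.le_sup (f := fun g => (DirectSum.decompose 𝒜 g).support.sup id) hg)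

theorem graded_le_irrelevant_pow (D : ℕ)
    (hD : (HomogeneousIdeal.irrelevant 𝒜).toIdeal ≤ lowIdeal 𝒜 D) (N : ℕ) :
    ∀ k : ℕ, 0 < k → N * D ≤ k → ∀ x ∈ 𝒜 k, x ∈ (HomogeneousIdeal.irrelevant 𝒜).toIdeal ^ N := by
  classical
  induction N with
  | zero => intro k _ _ x _; simp
  | succ N ih =>
    intro k hk0 hk x hx
    have hxI : x ∈ lowIdeal 𝒜 D := hD (HomogeneousIdeal.mem_irrelevant_of_mem 𝒜 hk0 hx)
    rw [lowIdeal, Ideal.span, Submodule.mem_span_iff_exists_finset_subset] at hxI
    obtain ⟨c, F, hF, -, hsum⟩ := hxI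
    have hx' : x = ((DirectSum.decompose 𝒜 x k : 𝒜 k) : A) := by
      rw [DirectSum.decompose_of_mem_same 𝒜 hx]
    rw [hx', ← hsum, DirectSum.decompose_sum, DFinsupp.finsetSum_apply,
      AddSubmonoidClass.coe_finsetSum]
    refine Ideal.sum_mem _ fun t ht => ?_
    have htT := hF ht
    simp only [Set.mem_iUnion, exists_prop] at htT
    obtain ⟨i, ⟨hi0, hiD⟩, hti⟩ := htT
    have hik : i ≤ k := by nlinarith
    rw [smul_eq_mul, DirectSum.coe_decompose_mul_of_right_mem_of_le 𝒜 hti hik, pow_succ]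
    refine Ideal.mul_mem_mul ?_ (HomogeneousIdeal.mem_irrelevant_of_mem 𝒜 hi0 hti)
    by_cases hki : k - i = 0
    · have : N = 0 := by
        have : k = i := by omega
        subst this
        by_contra hN
        have : 1 ≤ N := Nat.one_le_iff_ne_zero.mpr hN
        nlinarith
      subst this
      simp
    · exact ih (k - i) (Nat.pos_of_ne_zero hki) (by
        have : (N + 1) * D = N * D + D := by ring
        omega) _ (Subtype.prop _)

end

section

variable {R A : Type u} [CommRing R] [CommRing A] [Algebra R A]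
variable (𝒜 : ℕ → Submodule R A) [GradedAlgebra 𝒜]

/-- Projective Nullstellensatz (the inclusion needing an argument): an element of the irrelevant ideal
lying in every relevant homogeneous prime containing the homogeneous ideal `J` lies in the radical of `J`. -/
theorem mem_radical_of_mem_irrelevant_of_forall_mem (J : Ideal A) (hJ : J.IsHomogeneous 𝒜) {x : A}
    (hxI : x ∈ (HomogeneousIdeal.irrelevant 𝒜).toIdeal)
    (hx : ∀ p : ProjectiveSpectrum 𝒜, J ≤ p.asHomogeneousIdeal.toIdeal → x ∈ p.asHomogeneousIdeal) :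
    x ∈ J.radical := by
  classical
  rw [← DirectSum.sum_support_decompose 𝒜 x]
  refine Ideal.sum_mem _ fun i _ => ?_
  rcases Nat.eq_zero_or_pos i with h0 | h0
  · subst h0
    have : ((DirectSum.decompose 𝒜 x 0 : 𝒜 0) : A) = 0 := by simpa using hxI
    rw [this]
    exact Ideal.zero_mem _
  · by_contra h
    obtain ⟨p, hJp, hfp⟩ := exists_relevant_prime_of_not_mem_radical 𝒜 J hJ h0 (Subtype.prop _) h
    exact hfp (p.asHomogeneousIdeal.isHomogeneous i (hx p hJp))

end

section

variable {R A : Type u} [CommRing R] [CommRing A] [Algebra R A]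
variable (𝒜 : ℕ → Submodule R A) [GradedAlgebra 𝒜]

/-- Every point of `Proj` avoids some homogeneous element of positive degree. -/
theorem exists_pos_homogeneous_notMem (x : ProjectiveSpectrum 𝒜) :
    ∃ (i : ℕ) (s : A), 0 < i ∧ s ∈ 𝒜 i ∧ s ∉ x.asHomogeneousIdeal := by
  by_contra h
  push Not at h
  exact x.not_irrelevant_le ((HomogeneousIdeal.irrelevant_le 𝒜).mpr fun i hi s hs => h i s hi hs)

end

end Groth.Agent.H18
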