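import Mathlib.RingTheory.GradedAlgebra.Homogeneous.Ideal
import Mathlib.LinearAlgebra.Finsupp.LinearCombination
import Groth.Agent.H18.ProjBasic

set_option autoImplicit false
universe u

namespace Groth.Agent.H18

open DirectSum

section
variable {R A : Type u} [CommRing R] [CommRing A] [Algebra R A] (𝒜 : ℕ → Submodule R A) [GradedAlgebra 𝒜]

/-- A homogeneous element in the ideal spanned by homogeneous elements `h i` is a finite
combination with homogeneous coefficients of complementary degrees. -/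
theorem exists_homogeneous_combination {ι : Type*} (h : ι → A) (e : ι → ℕ)
    (he : ∀ i, h i ∈ 𝒜 (e i)) {N : ℕ} {g : A} (hg : g ∈ 𝒜 N)
    (hmem : g ∈ Ideal.span (Set.range h)) :
    ∃ (F : Finset ι) (c : ι → A), (∀ i ∈ F, e i ≤ N) ∧ (∀ i, c i ∈ 𝒜 (N - e i)) ∧
      g = ∑ i ∈ F, c i * h i := by
  classical
  obtain ⟨a, ha⟩ := (Finsupp.mem_span_range_iff_exists_finsupp).mp hmem
  refine ⟨a.support.filter (fun i => e i ≤ N), fun i => DirectSum.decompose 𝒜 (a i) (N - e i),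
    fun i hi => (Finset.mem_filter.mp hi).2, fun i => Subtype.prop _, ?_⟩
  have h2 : g = ((DirectSum.decompose 𝒜 g N : 𝒜 N) : A) := by
    rw [DirectSum.decompose_of_mem_same 𝒜 hg]
  rw [h2, ← ha, Finsupp.sum, DirectSum.decompose_sum, DFinsupp.finsetSum_apply,
    AddSubmonoidClass.coe_finsetSum]
  have h3 : ∀ i, ((DirectSum.decompose 𝒜 (a i • h i) N : 𝒜 N) : A) =
      if e i ≤ N then (DirectSum.decompose 𝒜 (a i) (N - e i) : A) * h i else 0 := by
    intro i
    rw [smul_eq_mul, DirectSum.coe_decompose_mul_of_right_mem 𝒜 N (he i)]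
  simp_rw [h3]
  rw [← Finset.sum_filter]

/-- Nullstellensatz + finite homogeneous partition: if homogeneous `h i` cover `D₊(f)`,
then `f ^ K = ∑_{i ∈ F} c i * h i` with `c i` homogeneous. -/
theorem exists_pow_eq_sum_of_cover {ι : Type*} (h : ι → A) (e : ι → ℕ)
    (he : ∀ i, h i ∈ 𝒜 (e i)) {d : ℕ} (hd : 0 < d) {f : A} (hf : f ∈ 𝒜 d)
    (hcov : ∀ y : ProjectiveSpectrum 𝒜, f ∉ y.asHomogeneousIdeal →
      ∃ i, h i ∉ y.asHomogeneousIdeal) :
    ∃ (K : ℕ) (F : Finset ι) (c : ι → A), (∀ i ∈ F, e i ≤ K * d) ∧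
      (∀ i, c i ∈ 𝒜 (K * d - e i)) ∧ f ^ K = ∑ i ∈ F, c i * h i := by
  have hI : (Ideal.span (Set.range h)).IsHomogeneous 𝒜 := by
    apply Ideal.homogeneous_span
    rintro _ ⟨i, rfl⟩
    exact ⟨e i, he i⟩
  have hrad : f ∈ (Ideal.span (Set.range h)).radical := by
    refine mem_radical_of_mem_irrelevant_of_forall_mem 𝒜 _ hI
      (HomogeneousIdeal.mem_irrelevant_of_mem 𝒜 hd hf) ?_
    intro p hp
    by_contra hfp
    obtain ⟨i, hi⟩ := hcov p hfp
    exact hi (hp (Ideal.subset_span ⟨i, rfl⟩))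
  obtain ⟨K, hK⟩ := hrad
  have hfK : f ^ K ∈ 𝒜 (K * d) := by
    have := SetLike.pow_mem_graded K hf
    simpa [smul_eq_mul] using this
  obtain ⟨F, c, hF, hc, hsum⟩ := exists_homogeneous_combination 𝒜 h e he hfK hK
  exact ⟨K, F, c, hF, hc, hsum⟩

end

end Groth.Agent.H18
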