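import Mathlib.RingTheory.GradedAlgebra.Homogeneous.Ideal
import Mathlib.Algebra.Module.LocalizedModule.Basic
import Mathlib.Algebra.GradedMulAction
import Mathlib.Algebra.Module.Torsion.Basic
import Groth.Agent.H18.ProjBasic

set_option autoImplicit false
universe u

namespace Groth.Agent.H18

open DirectSum

section
variable {R A : Type u} [CommRing R] [CommRing A] [Algebra R A] (𝒜 : ℕ → Submodule R A) [GradedAlgebra 𝒜]
variable {M : Type u} [AddCommGroup M] [Module R M] [Module A M]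
  (ℳ : ℕ → Submodule R M) [DirectSum.Decomposition ℳ] [SetLike.GradedSMul 𝒜 ℳ]

/-- if `a • m = 0` for `m` homogeneous, then every homogeneous component of `a` kills `m`. -/
theorem decompose_smul_eq_zero {i : ℕ} {m : M} (hm : m ∈ ℳ i) {a : A} (ha : a • m = 0) (j : ℕ) :
    (DirectSum.decompose 𝒜 a j : A) • m = 0 := by
  classical
  have hsum : (∑ l ∈ (DirectSum.decompose 𝒜 a).support, (DirectSum.decompose 𝒜 a l : A) • m) = 0 := by
    rw [← Finset.sum_smul, DirectSum.sum_support_decompose 𝒜 a, ha]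
  have hmem : ∀ l, (DirectSum.decompose 𝒜 a l : A) • m ∈ ℳ (l + i) := fun l =>
    SetLike.GradedSMul.smul_mem (DirectSum.decompose 𝒜 a l).2 hm
  have := congrArg (fun y => ((DirectSum.decompose ℳ y (j + i) : ℳ (j + i)) : M)) hsum
  simp only [DirectSum.decompose_sum, DirectSum.decompose_zero, DirectSum.zero_apply,
    ZeroMemClass.coe_zero] at this
  rw [DFinsupp.finsetSum_apply, AddSubmonoidClass.coe_finsetSum] at this
  rw [Finset.sum_eq_single j] at this
  · rwa [DirectSum.decompose_of_mem_same ℳ (hmem j)] at this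
  · intro l _ hlj
    exact DirectSum.decompose_of_mem_ne ℳ (hmem l) (by omega)
  · intro hj
    rw [DFinsupp.notMem_support_iff] at hj
    rw [hj]
    simp

theorem torsionOf_isHomogeneous {i : ℕ} {m : M} (hm : m ∈ ℳ i) :
    (Ideal.torsionOf A M m).IsHomogeneous 𝒜 := by
  intro j a ha
  rw [Ideal.mem_torsionOf_iff] at ha ⊢
  exact decompose_smul_eq_zero 𝒜 ℳ hm ha j

/-- Projective Nullstellensatz for modules: if `m` homogeneous vanishes in `M_x` for every
`x ∈ D₊(f)`, `f` homogeneous of positive degree, then `f ^ N • m = 0`. -/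
theorem exists_pow_smul_eq_zero_of_forall_localized_eq_zero {i : ℕ} {m : M} (hm : m ∈ ℳ i)
    {d : ℕ} (hd : 0 < d) {f : A} (hf : f ∈ 𝒜 d)
    (h : ∀ x : ProjectiveSpectrum 𝒜, f ∉ x.asHomogeneousIdeal →
      ∃ s : A, s ∉ x.asHomogeneousIdeal ∧ s • m = 0) :
    ∃ N : ℕ, f ^ N • m = 0 := by
  by_contra hcon
  have hfI : f ∉ (Ideal.torsionOf A M m).radical := by
    intro hmem
    obtain ⟨N, hN⟩ := hmem
    exact hcon ⟨N, (Ideal.mem_torsionOf_iff _ _).mp hN⟩
  obtain ⟨p, hp, hfp⟩ := exists_relevant_prime_of_not_mem_radical 𝒜 _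
    (torsionOf_isHomogeneous 𝒜 ℳ hm) hd hf hfI
  obtain ⟨s, hs, hsm⟩ := h p hfp
  exact hs (hp ((Ideal.mem_torsionOf_iff _ _).mpr hsm))

end

end Groth.Agent.H18
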