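import Mathlib.RingTheory.Finiteness.Ideal
import Groth.Agent.H18.GrModBasic
import Groth.Agent.H18.GrCover

set_option autoImplicit false
universe u

namespace Groth.Agent.H18

open DirectSum

section
variable {R A : Type u} [CommRing R] [CommRing A] [Algebra R A] (𝒜 : ℕ → Submodule R A) [GradedAlgebra 𝒜]
variable {M : Type u} [AddCommGroup M] [Module R M] [Module A M]
  (ℳ : ℕ → Submodule R M) [DirectSum.Decomposition ℳ] [SetLike.GradedSMul 𝒜 ℳ]

theorem decompose_smul_of_mem {e : ℕ} {x : M} (hx : x ∈ ℳ e) (a : A) (N : ℕ) :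
    ((DirectSum.decompose ℳ (a • x) N : ℳ N) : M) =
      if e ≤ N then (DirectSum.decompose 𝒜 a (N - e) : A) • x else 0 := by
  classical
  have hmem : ∀ j, (DirectSum.decompose 𝒜 a j : A) • x ∈ ℳ (j + e) := fun j =>
    SetLike.GradedSMul.smul_mem (DirectSum.decompose 𝒜 a j).2 hx
  conv_lhs => rw [← DirectSum.sum_support_decompose 𝒜 a, Finset.sum_smul]
  rw [DirectSum.decompose_sum, DFinsupp.finsetSum_apply, AddSubmonoidClass.coe_finsetSum]
  have h3 : ∀ j, ((DirectSum.decompose ℳ ((DirectSum.decompose 𝒜 a j : A) • x) N : ℳ N) : M) =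
      if j + e = N then (DirectSum.decompose 𝒜 a j : A) • x else 0 := by
    intro j
    split_ifs with hj
    · subst hj
      exact DirectSum.decompose_of_mem_same ℳ (hmem j)
    · exact DirectSum.decompose_of_mem_ne ℳ (hmem j) hj
  simp_rw [h3]
  split_ifs with he
  · rw [Finset.sum_eq_single (N - e)]
    · rw [if_pos (by omega)]
    · intro j _ hj
      rw [if_neg (by omega)]
    · intro hj
      rw [DFinsupp.notMem_support_iff] at hj
      rw [hj]
      simp
  · refine Finset.sum_eq_zero fun j _ => ?_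
    rw [if_neg (by omega)]

/-- Module version of `exists_homogeneous_combination`. -/
theorem exists_homogeneous_combination_module {ι : Type*} (x : ι → M) (e : ι → ℕ)
    (hx : ∀ i, x i ∈ ℳ (e i)) {N : ℕ} {y : M} (hy : y ∈ ℳ N)
    (hmem : y ∈ Submodule.span A (Set.range x)) :
    ∃ (F : Finset ι) (c : ι → A), (∀ i ∈ F, e i ≤ N) ∧ (∀ i, c i ∈ 𝒜 (N - e i)) ∧
      y = ∑ i ∈ F, c i • x i := by
  classical
  obtain ⟨a, ha⟩ := (Finsupp.mem_span_range_iff_exists_finsupp).mp hmem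
  refine ⟨a.support.filter (fun i => e i ≤ N), fun i => DirectSum.decompose 𝒜 (a i) (N - e i),
    fun i hi => (Finset.mem_filter.mp hi).2, fun i => Subtype.prop _, ?_⟩
  have h2 : y = ((DirectSum.decompose ℳ y N : ℳ N) : M) := by
    rw [DirectSum.decompose_of_mem_same ℳ hy]
  rw [h2, ← ha, Finsupp.sum, DirectSum.decompose_sum, DFinsupp.finsetSum_apply,
    AddSubmonoidClass.coe_finsetSum]
  simp_rw [decompose_smul_of_mem 𝒜 ℳ (hx _)]
  rw [← Finset.sum_filter]


/-- (TF) + locally nilpotent action of `S₊` + `S₊` f.g. in degree one ⟹ (TN). -/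
theorem tn_of_locally_nilpotent (hfg : (HomogeneousIdeal.irrelevant 𝒜).toIdeal.FG)
    (hgen : (HomogeneousIdeal.irrelevant 𝒜).toIdeal = Ideal.span (𝒜 1 : Set A))
    (hTF : ∃ n : ℕ, (Submodule.span A (⋃ k ∈ Set.Ici n, (ℳ k : Set M))).FG)
    (hnil : ∀ (z : M) (d : ℕ) (f : A), 0 < d → f ∈ 𝒜 d → ∃ k : ℕ, f ^ k • z = 0) :
    ∃ n : ℕ, ∀ k : ℕ, n ≤ k → ℳ k = ⊥ := by
  classical
  obtain ⟨n₀, hFG⟩ := hTF
  obtain ⟨T, hTsub, hTspan⟩ := (Submodule.fg_span_iff_fg_span_finset_subset _).mp hFG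
  have hTdeg : ∀ x : {x // x ∈ T}, ∃ k : ℕ, n₀ ≤ k ∧ x.1 ∈ ℳ k := by
    intro x
    have := hTsub x.2
    simp only [Set.mem_iUnion, exists_prop] at this
    obtain ⟨k, hk, hxk⟩ := this
    exact ⟨k, hk, hxk⟩
  choose e he hxe using hTdeg
  have hrad : ∀ x : {x // x ∈ T},
      (HomogeneousIdeal.irrelevant 𝒜).toIdeal ≤ (Ideal.torsionOf A M x.1).radical := by
    intro x
    rw [HomogeneousIdeal.toIdeal_irrelevant_le]
    intro d hd f hf
    obtain ⟨k, hk⟩ := hnil x.1 d f hd hf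
    exact ⟨k, (Ideal.mem_torsionOf_iff _ _).mpr hk⟩
  have hpow : ∀ x : {x // x ∈ T}, ∃ N : ℕ,
      (HomogeneousIdeal.irrelevant 𝒜).toIdeal ^ N ≤ Ideal.torsionOf A M x.1 :=
    fun x => Ideal.exists_pow_le_of_le_radical_of_fg (hrad x) hfg
  choose Nx hNx using hpow
  set N := Finset.univ.sup Nx with hN
  set D := Finset.univ.sup e with hD
  have hlow : (HomogeneousIdeal.irrelevant 𝒜).toIdeal ≤ lowIdeal 𝒜 1 := by
    rw [hgen, lowIdeal]
    apply Ideal.span_mono
    intro g hg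
    simp only [Set.mem_iUnion, exists_prop]
    exact ⟨1, ⟨by omega, le_refl _⟩, hg⟩
  refine ⟨max n₀ (D + N + 1), fun k hk => ?_⟩
  rw [eq_bot_iff]
  intro y hy
  rw [Submodule.mem_bot]
  have hyspan : y ∈ Submodule.span A (Set.range fun x : {x // x ∈ T} => x.1) := by
    have h1 : y ∈ Submodule.span A (⋃ k ∈ Set.Ici n₀, (ℳ k : Set M)) := by
      apply Submodule.subset_span
      simp only [Set.mem_iUnion, exists_prop]
      exact ⟨k, le_trans (le_max_left _ _) hk, hy⟩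
    rw [hTspan] at h1
    convert h1
    ext z
    simp
  obtain ⟨F, c, hF, hc, hsum⟩ := exists_homogeneous_combination_module 𝒜 ℳ
    (fun x : {x // x ∈ T} => x.1) e hxe hy hyspan
  rw [hsum]
  refine Finset.sum_eq_zero fun x hx => ?_
  have hex : e x ≤ D := Finset.le_sup (f := e) (Finset.mem_univ x)
  have hNx' : Nx x ≤ N := Finset.le_sup (f := Nx) (Finset.mem_univ x)
  have hk' : D + N + 1 ≤ k := le_trans (le_max_right _ _) hk
  have h1 : c x ∈ (HomogeneousIdeal.irrelevant 𝒜).toIdeal ^ N :=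
    graded_le_irrelevant_pow 𝒜 1 hlow N (k - e x) (by omega) (by omega) _ (hc x)
  have h2 : c x ∈ Ideal.torsionOf A M x.1 := hNx x (Ideal.pow_le_pow_right hNx' h1)
  exact (Ideal.mem_torsionOf_iff _ _).mp h2

/-- (TN) ⟹ locally nilpotent action. -/
theorem locally_nilpotent_of_tn
    (hTN : ∃ n : ℕ, ∀ k : ℕ, n ≤ k → ℳ k = ⊥)
    (z : M) (d : ℕ) (f : A) (hd : 0 < d) (hf : f ∈ 𝒜 d) : ∃ k : ℕ, f ^ k • z = 0 := by
  classical
  obtain ⟨n, hn⟩ := hTN
  refine ⟨n, ?_⟩
  conv_lhs => rw [← DirectSum.sum_support_decompose ℳ z]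
  rw [Finset.smul_sum]
  refine Finset.sum_eq_zero fun i _ => ?_
  have hfn : f ^ n ∈ 𝒜 (n * d) := by
    have := SetLike.pow_mem_graded n hf
    simpa [smul_eq_mul] using this
  have h1 : f ^ n • ((DirectSum.decompose ℳ z i : ℳ i) : M) ∈ ℳ (n * d + i) :=
    SetLike.GradedSMul.smul_mem hfn (DirectSum.decompose ℳ z i).2
  have h2 : n ≤ n * d + i := by nlinarith
  rw [hn _ h2, Submodule.mem_bot] at h1
  exact h1

end

end Groth.Agent.H18
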