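import Mathlib.RingTheory.GradedAlgebra.Homogeneous.Submodule
import Mathlib.RingTheory.GradedAlgebra.Basic
import Mathlib.Algebra.DirectSum.Module
import Mathlib.Algebra.Module.GradedModule
import Groth.Agent.H18.GrModTN

set_option autoImplicit false
universe u

namespace Groth.Agent.H18

namespace GrSub

open DirectSum

variable {R A : Type u} [CommRing R] [CommRing A] [Algebra R A] (𝒜 : ℕ → Submodule R A) [GradedAlgebra 𝒜]
variable {M : Type u} [AddCommGroup M] [Module R M] [Module A M] [IsScalarTower R A M]
  (ℳ : ℕ → Submodule R M) [DirectSum.Decomposition ℳ] [SetLike.GradedSMul 𝒜 ℳ]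
variable (p : Submodule A M)

example : Module R p := inferInstance
example : IsScalarTower R A p := inferInstance

/-- the induced grading on a submodule -/
def grading (n : ℕ) : Submodule R p := (ℳ n).comap (p.subtype.restrictScalars R)

omit [DirectSum.Decomposition ℳ] in
theorem mem_grading {n : ℕ} {x : p} : x ∈ grading ℳ p n ↔ (x : M) ∈ ℳ n := Iff.rfl

instance gradedSMul : SetLike.GradedSMul 𝒜 (grading ℳ p) where
  smul_mem := by
    intro i j a x ha hx
    have hx' : (x : M) ∈ ℳ j := hx
    exact (SetLike.GradedSMul.smul_mem ha hx' : a • (x : M) ∈ ℳ (i + j))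

variable {ℳ p}

theorem iSupIndep_grading : iSupIndep (grading ℳ p) := by
  intro i
  rw [Submodule.disjoint_def]
  intro x hxi hx
  have hind := (DirectSum.Decomposition.isInternal ℳ).submodule_iSupIndep i
  rw [Submodule.disjoint_def] at hind
  have h0 : (x : M) = 0 := by
    refine hind _ hxi ?_
    have h1 : (p.subtype.restrictScalars R) x ∈ Submodule.map (p.subtype.restrictScalars R)
        (⨆ j, ⨆ (_ : j ≠ i), grading ℳ p j) := Submodule.mem_map_of_mem hx
    rw [Submodule.map_iSup] at h1
    simp_rw [Submodule.map_iSup] at h1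
    have hle : (⨆ j, ⨆ (_ : j ≠ i), Submodule.map (p.subtype.restrictScalars R) (grading ℳ p j)) ≤
        ⨆ j, ⨆ (_ : j ≠ i), ℳ j :=
      iSup_mono fun j => iSup_mono fun _ => Submodule.map_comap_le _ _
    exact hle h1
  exact Subtype.ext h0

theorem iSup_grading_eq_top (hp : p.IsHomogeneous ℳ) : iSup (grading ℳ p) = ⊤ := by
  classical
  rw [eq_top_iff]
  rintro x -
  have hx : x = ∑ i ∈ (DirectSum.decompose ℳ (x : M)).support,
      (⟨(DirectSum.decompose ℳ (x : M) i : M), hp i x.2⟩ : p) := by
    apply Subtype.ext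
    rw [AddSubmonoidClass.coe_finsetSum]
    exact (DirectSum.sum_support_decompose ℳ (x : M)).symm
  rw [hx]
  refine Submodule.sum_mem _ fun i _ => ?_
  refine Submodule.mem_iSup_of_mem i ?_
  exact (DirectSum.decompose ℳ (x : M) i).2

theorem isInternal_grading (hp : p.IsHomogeneous ℳ) : DirectSum.IsInternal (grading ℳ p) :=
  DirectSum.isInternal_submodule_of_iSupIndep_of_iSup_eq_top iSupIndep_grading (iSup_grading_eq_top hp)

/-- the decomposition of a homogeneous submodule -/
@[instance_reducible]
noncomputable def decomposition (hp : p.IsHomogeneous ℳ) : DirectSum.Decomposition (grading ℳ p) :=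
  (isInternal_grading hp).chooseDecomposition

include 𝒜 in
/-- the span of a family of homogeneous elements is a homogeneous submodule -/
theorem span_isHomogeneous {ι : Type*} (x : ι → M) (e : ι → ℕ) (hx : ∀ i, x i ∈ ℳ (e i)) :
    (Submodule.span A (Set.range x)).IsHomogeneous ℳ := by
  classical
  intro i m hm
  obtain ⟨a, rfl⟩ := (Finsupp.mem_span_range_iff_exists_finsupp).mp hm
  rw [Finsupp.sum, DirectSum.decompose_sum, DFinsupp.finsetSum_apply, AddSubmonoidClass.coe_finsetSum]
  refine Submodule.sum_mem _ fun l _ => ?_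
  rw [decompose_smul_of_mem 𝒜 ℳ (hx l)]
  split_ifs
  · exact Submodule.smul_mem _ _ (Submodule.subset_span ⟨l, rfl⟩)
  · exact Submodule.zero_mem _

end GrSub

end Groth.Agent.H18
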