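import Groth.Prelude.Def_GrMod3
import Mathlib.RingTheory.Localization.Module

set_option autoImplicit false
universe u

open CategoryTheory CategoryTheory.Limits AlgebraicGeometry TopologicalSpace Opposite TopCat

namespace Groth.Agent.H18

namespace TildeIso

variable {A σ : Type u} [CommRing A] [SetLike σ A] [AddSubgroupClass σ A] (𝒜 : ℕ → σ) [GradedRing 𝒜]
variable {M τ : Type u} [AddCommGroup M] [Module A M] [SetLike τ M] [AddSubgroupClass τ M] {ℳ : ℕ → τ}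
  [SetLike.GradedSMul 𝒜 ℳ]
variable {N τ' : Type u} [AddCommGroup N] [Module A N] [SetLike τ' N] [AddSubgroupClass τ' N] {𝒩 : ℕ → τ'}
  [SetLike.GradedSMul 𝒜 𝒩]
variable (u : N →ₗ[A] M) (hu : ∀ (i : ℕ) (m : N), m ∈ 𝒩 i → u m ∈ ℳ i) (n : ℤ)

theorem locMap_injective (hinj : Function.Injective u) (x : ProjectiveSpectrum 𝒜) :
    Function.Injective (GrMod.locMap (𝒜 := 𝒜) u x) :=
  LocalizedModule.map_injective _ u hinj

theorem mapApp_injective (hinj : Function.Injective u) (U : (Opens (ProjectiveSpectrum.top 𝒜))ᵒᵖ) :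
    Function.Injective (GrMod.mapApp u hu n U) := by
  intro s t h
  refine Subtype.ext (funext fun x => Subtype.ext ?_)
  have h1 := congrArg (fun f : GrMod.sect 𝒜 ℳ n U => ((f.1 x : GrMod.tildeAt 𝒜 ℳ n x.1) : GrMod.LocMod 𝒜 (M := M) x.1)) h
  exact locMap_injective 𝒜 u hinj x.1 h1

omit [SetLike.GradedSMul 𝒜 𝒩] [AddSubgroupClass τ' N] in
theorem mk_mem_tildeAt (x : ProjectiveSpectrum 𝒜) {i j : ℕ} (m : 𝒩 i) (s : 𝒜 j)
    (hs : (s : A) ∉ x.asHomogeneousIdeal) (c : (i : ℤ) = j + n) :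
    LocalizedModule.mk (m : N) ⟨(s : A), hs⟩ ∈ GrMod.tildeAt 𝒜 𝒩 n x :=
  Submodule.subset_span ⟨i, j, m, s, hs, c, rfl⟩

theorem mapApp_surjective (hinj : Function.Injective u)
    (H : ∀ (x : ProjectiveSpectrum 𝒜) (i : ℕ) (m : M), m ∈ ℳ i → ∃ (k : ℕ) (t : A) (m' : N),
      t ∈ 𝒜 k ∧ t ∉ x.asHomogeneousIdeal ∧ m' ∈ 𝒩 (k + i) ∧ u m' = t • m)
    (U : (Opens (ProjectiveSpectrum.top 𝒜))ᵒᵖ) :
    Function.Surjective (GrMod.mapApp u hu n U) := by
  intro tt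
  -- Step A: local representation by fractions from `N`
  have stepA : ∀ x : U.unop, ∃ (V : Opens (ProjectiveSpectrum.top 𝒜)) (_ : x.1 ∈ V) (iV : V ⟶ U.unop)
      (i j : ℕ) (m' : 𝒩 i) (s : 𝒜 j) (nin : ∀ y : V, (s : A) ∉ y.1.asHomogeneousIdeal),
      ((i : ℤ) = j + n ∨ (m' : N) = 0) ∧
      ∀ y : V, ((tt.1 (iV y) : GrMod.tildeAt 𝒜 ℳ n (iV y).1) : GrMod.LocMod 𝒜 (M := M) (iV y).1) =
        GrMod.locMap (𝒜 := 𝒜) u y.1 (LocalizedModule.mk (m' : N) ⟨(s : A), nin y⟩) := by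
    intro x
    obtain ⟨V, mV, iV, i, j, m, s, nin, c, w⟩ := tt.2 x
    obtain ⟨k, t, m', ht, htx, hm', hum⟩ := H x.1 i m m.2
    refine ⟨V ⊓ ProjectiveSpectrum.basicOpen 𝒜 t, ⟨mV, htx⟩, homOfLE inf_le_left ≫ iV, k + i, k + j,
      ⟨m', hm'⟩, ⟨t * s, SetLike.mul_mem_graded ht s.2⟩, ?_, ?_, ?_⟩
    · intro y h
      rcases y.1.isPrime.mem_or_mem h with h | h
      · exact y.2.2 h
      · exact nin ⟨y.1, y.2.1⟩ h
    · rcases c with c | c
      · left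
        push_cast
        rw [c]
        ring
      · right
        apply hinj
        change u m' = u 0
        rw [hum, c, smul_zero, map_zero]
    · intro y
      have hw := w ⟨y.1, y.2.1⟩
      refine hw.trans ?_
      have h1 := GrMod.locMap_mk (𝒜 := 𝒜) u y.1 m'
        ⟨t * (s : A), fun h => by
          rcases y.1.isPrime.mem_or_mem h with h | h
          · exact y.2.2 h
          · exact nin ⟨y.1, y.2.1⟩ h⟩
      refine Eq.trans ?_ h1.symm
      rw [hum, LocalizedModule.mk_eq]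
      refine ⟨1, ?_⟩
      simp only [one_smul, Submonoid.smul_def]
      rw [smul_smul, mul_comm]
  -- Step B: pointwise preimages
  have stepB : ∀ x : U.unop, ∃ q : GrMod.tildeAt 𝒜 𝒩 n x.1,
      GrMod.locMap (𝒜 := 𝒜) u x.1 (q : GrMod.LocMod 𝒜 (M := N) x.1) =
        ((tt.1 x : GrMod.tildeAt 𝒜 ℳ n x.1) : GrMod.LocMod 𝒜 (M := M) x.1) := by
    intro x
    obtain ⟨V, mV, iV, i, j, m', s, nin, c, w⟩ := stepA x
    refine ⟨⟨LocalizedModule.mk (m' : N) ⟨(s : A), nin ⟨x.1, mV⟩⟩, ?_⟩, (w ⟨x.1, mV⟩).symm⟩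
    rcases c with c | c
    · exact mk_mem_tildeAt 𝒜 n x.1 m' s (nin ⟨x.1, mV⟩) c
    · rw [c, LocalizedModule.zero_mk]
      exact (GrMod.tildeAt 𝒜 𝒩 n x.1).zero_mem
  choose g hg using stepB
  refine ⟨⟨g, ?_⟩, ?_⟩
  · intro x
    obtain ⟨V, mV, iV, i, j, m', s, nin, c, w⟩ := stepA x
    refine ⟨V, mV, iV, i, j, m', s, nin, c, fun y => ?_⟩
    apply locMap_injective 𝒜 u hinj
    exact (hg (iV y)).trans (w y)
  · refine Subtype.ext (funext fun x => Subtype.ext ?_)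
    exact hg x

/-- If `u : N → M` is an injective graded map which is "locally surjective" at every point of `Proj`,
then `ũ : N(n)~ ⟶ M(n)~` is an isomorphism. -/
theorem isIso_map (hinj : Function.Injective u)
    (H : ∀ (x : ProjectiveSpectrum 𝒜) (i : ℕ) (m : M), m ∈ ℳ i → ∃ (k : ℕ) (t : A) (m' : N),
      t ∈ 𝒜 k ∧ t ∉ x.asHomogeneousIdeal ∧ m' ∈ 𝒩 (k + i) ∧ u m' = t • m) :
    IsIso (GrMod.map 𝒜 u hu n) := by
  rw [Scheme.Modules.Hom.isIso_iff_isIso_app]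
  intro V
  rw [ConcreteCategory.isIso_iff_bijective]
  exact ⟨mapApp_injective 𝒜 u hu n hinj (op V), mapApp_surjective 𝒜 u hu n hinj H (op V)⟩

end TildeIso

end Groth.Agent.H18
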