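import Groth.Agent.H18.GammaStarIso
import Groth.Agent.H18.AffineFG
import Groth.Agent.H18.GrSubmodule
import Groth.Agent.H18.TildeSubIso

set_option autoImplicit false
universe u

open CategoryTheory CategoryTheory.Limits AlgebraicGeometry TopologicalSpace Opposite
open HomogeneousLocalization

namespace Groth.Agent.H18

namespace GammaStar

section

variable {R A : Type u} [CommRing R] [CommRing A] [Algebra R A]
variable {𝒜 : ℕ → Submodule R A} [GradedAlgebra 𝒜]
variable (D : Charts 𝒜) (F : (Proj 𝒜).Modules)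

/-- a homogeneous element of `Γ_*(F)` whose `j`-th entry vanishes is killed by a power of `f_j` -/
theorem exists_pow_smul_eq_zero_of_comp_eq_zero [Fintype D.I] [F.IsQuasicoherent] (j : D.I) {N : ℕ}
    {m : M D F} (hm : m ∈ grading D F N) (h : comp D F j m = 0) : ∃ r : ℕ, D.f j ^ r • m = 0 := by
  classical
  have hfj1 : D.f j ∈ 𝒜 (1 • 1) := by simpa using D.hf j
  have hstep : ∀ l : D.I, ∃ N' : ℕ,
      fracO 𝒜 (D.hf j) (SetLike.pow_mem_graded 1 (D.hf l)) (U D l)
        (fun x hx h => hx (x.isPrime.mem_of_pow_mem 1 h)) ^ N' • comp D F l m = 0 := by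
    intro l
    have hV : Proj.basicOpen 𝒜 (D.f l * D.f j) ≤ U D j ⊓ U D l := by
      intro x hx
      exact ⟨fun h => hx (Ideal.mul_mem_left _ _ h), fun h => hx (Ideal.mul_mem_right _ _ h)⟩
    have hres : mres F (basicOpen_mul_le_left 𝒜 (D.f l) (D.f j)) (comp D F l m) = 0 := by
      have e1 : mres F (basicOpen_mul_le_left 𝒜 (D.f l) (D.f j)) (comp D F l m) =
          mres F hV (mres F (inf_le_right : U D j ⊓ U D l ≤ U D l) (comp D F l m)) :=
        (mres_mres F _ _ _).symm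
      rw [e1, comp_compat D F hm j l, h, map_zero, smul_zero, map_zero]
    exact proj_qc_inj 𝒜 F one_pos (D.hf l) 1 hfj1 _ hres
  choose Nl hNl using hstep
  set r := Finset.univ.sup Nl with hr
  refine ⟨r, ?_⟩
  have hmem : D.f j ^ r ∈ 𝒜 (r • 1) := SetLike.pow_mem_graded r (D.hf j)
  refine eq_zero_of_comp_eq_zero D F (SetLike.GradedSMul.smul_mem hmem hm) (fun l => ?_)
  rw [comp_smul D F hmem, coef_pow_eq]
  have hle : Nl l ≤ r := Finset.le_sup (Finset.mem_univ l)
  obtain ⟨c, hc⟩ := Nat.exists_eq_add_of_le hle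
  rw [hc, add_comm, pow_add, mul_smul, hNl l, smul_zero]

/-- every section of the structure sheaf over `D₊(f_j)` is of the form `a / f_j ^ k` -/
theorem exists_coef_eq (j : D.I) (c : Γ(Proj 𝒜, U D j)) :
    ∃ (k : ℕ) (a : A) (ha : a ∈ 𝒜 k), c = coef D ha j := by
  let e := Proj.basicOpenIsoAway 𝒜 (D.f j) (D.hf j) one_pos
  obtain ⟨k, a, ha, hx⟩ := Away.mk_surjective 𝒜 (D.hf j) (e.inv.hom c)
  have ha' : a ∈ 𝒜 k := by simpa using ha
  refine ⟨k, a, ha', ?_⟩
  have h1 : c = (Proj.awayToSection 𝒜 (D.f j)).hom (e.inv.hom c) := by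
    have : e.inv ≫ Proj.awayToSection 𝒜 (D.f j) = 𝟙 _ := e.inv_hom_id
    exact (congrArg (fun φ => φ.hom c) this).symm
  rw [h1, ← hx, awayToSection_eq_fracO]
  unfold coef
  refine fracO_eq_of_mul_eq 𝒜 _ _ _ _ _ _ _ rfl

theorem coef_fpow_self (j : D.I) (k : ℕ) : coef D (fpow_mem D j k) j = 1 := by
  unfold coef
  exact fracO_self 𝒜 (fpow_mem D j k) (U D j) (fun _ hx => notMem_of_mem_U D hx k)

theorem comp_fpow_smul (j : D.I) (k : ℕ) (y : M D F) :
    comp D F j (D.f j ^ k • y) = comp D F j y := by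
  rw [comp_smul D F (fpow_mem D j k), coef_fpow_self, one_smul]

theorem fpow_smul_mem_grading (j : D.I) {e E : ℕ} (h : e ≤ E) {y : M D F} (hy : y ∈ grading D F e) :
    D.f j ^ (E - e) • y ∈ grading D F E := by
  have := SetLike.GradedSMul.smul_mem (fpow_mem D j (E - e)) hy
  rwa [vadd_eq_add, Nat.sub_add_cancel h] at this

/-- sections over `D₊(f_j)` in the span of entries of homogeneous elements of a submodule `p` are
entries of homogeneous elements of `p` of every large degree -/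
theorem exists_mem_of_mem_span (p : Submodule A (M D F)) (j : D.I) (τ : Γ(F, U D j))
    (hτ : τ ∈ Submodule.span Γ(Proj 𝒜, U D j)
      {τ' | ∃ (y : M D F) (e : ℕ), y ∈ p ∧ y ∈ grading D F e ∧ comp D F j y = τ'}) :
    ∃ d₀ : ℕ, ∀ E : ℕ, d₀ ≤ E → ∃ y : M D F, y ∈ p ∧ y ∈ grading D F E ∧ comp D F j y = τ := by
  induction hτ using Submodule.span_induction with
  | mem τ h =>
    obtain ⟨y, e, hyp, hye, rfl⟩ := h
    refine ⟨e, fun E hE => ⟨D.f j ^ (E - e) • y, Submodule.smul_mem _ _ hyp,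
      fpow_smul_mem_grading D F j hE hye, comp_fpow_smul D F j _ y⟩⟩
  | zero => exact ⟨0, fun E _ => ⟨0, Submodule.zero_mem _, Submodule.zero_mem _, map_zero _⟩⟩
  | add τ₁ τ₂ _ _ h₁ h₂ =>
    obtain ⟨d₁, h₁⟩ := h₁
    obtain ⟨d₂, h₂⟩ := h₂
    refine ⟨max d₁ d₂, fun E hE => ?_⟩
    obtain ⟨y₁, hp₁, hg₁, hc₁⟩ := h₁ E ((le_max_left _ _).trans hE)
    obtain ⟨y₂, hp₂, hg₂, hc₂⟩ := h₂ E ((le_max_right _ _).trans hE)
    exact ⟨y₁ + y₂, Submodule.add_mem _ hp₁ hp₂, Submodule.add_mem _ hg₁ hg₂, by rw [map_add, hc₁, hc₂]⟩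
  | smul c τ _ h =>
    obtain ⟨d₀, h⟩ := h
    obtain ⟨k, a, ha, rfl⟩ := exists_coef_eq D j c
    refine ⟨k + d₀, fun E hE => ?_⟩
    obtain ⟨y, hp, hg, hc⟩ := h (E - k) (by omega)
    refine ⟨a • y, Submodule.smul_mem _ _ hp, ?_, by rw [comp_smul D F ha, hc]⟩
    have := SetLike.GradedSMul.smul_mem ha hg
    rwa [vadd_eq_add, Nat.add_sub_cancel' (by omega : k ≤ E)] at this

/-- if the entries over `D₊(f_j)` of the homogeneous elements of `p` generate `Γ(D₊(f_j), F)`, then every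
homogeneous element of `Γ_*(F)` is mapped into `p` by a power of `f_j` -/
theorem exists_fpow_smul_mem [Fintype D.I] [F.IsQuasicoherent] (p : Submodule A (M D F)) (j : D.I)
    (hspan : Submodule.span Γ(Proj 𝒜, U D j)
      {τ' | ∃ (y : M D F) (e : ℕ), y ∈ p ∧ y ∈ grading D F e ∧ comp D F j y = τ'} = ⊤)
    {i : ℕ} {m : M D F} (hm : m ∈ grading D F i) : ∃ k : ℕ, D.f j ^ k • m ∈ p := by
  obtain ⟨d₀, h⟩ := exists_mem_of_mem_span D F p j (comp D F j m) (by rw [hspan]; trivial)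
  obtain ⟨y, hyp, hyg, hyc⟩ := h (max d₀ i) (le_max_left _ _)
  have hm₀ := fpow_smul_mem_grading D F j (le_max_right d₀ i) hm
  have hsub : D.f j ^ (max d₀ i - i) • m - y ∈ grading D F (max d₀ i) := Submodule.sub_mem _ hm₀ hyg
  have hcomp : comp D F j (D.f j ^ (max d₀ i - i) • m - y) = 0 := by
    rw [map_sub, comp_fpow_smul, hyc, sub_self]
  obtain ⟨r, hr⟩ := exists_pow_smul_eq_zero_of_comp_eq_zero D F j hsub hcomp
  refine ⟨r + (max d₀ i - i), ?_⟩
  rw [smul_sub, sub_eq_zero, smul_smul, ← pow_add] at hr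
  rw [hr]
  exact Submodule.smul_mem _ _ hyp

/-- for a quasi-coherent module of finite type there is a finitely generated homogeneous submodule of
`Γ_*(F)` which contains a multiple by a power of `f_j` of every homogeneous element, for every `j` -/
theorem exists_fg_submodule [Fintype D.I] [F.IsQuasicoherent]
    (hFT : SheafOfModules.IsFiniteType (R := (Proj 𝒜).ringCatSheaf) F) :
    ∃ p : Submodule A (M D F), p.FG ∧ p.IsHomogeneous (grading D F) ∧
      ∀ (j : D.I) (i : ℕ) (m : M D F), m ∈ grading D F i → ∃ k : ℕ, D.f j ^ k • m ∈ p := by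
  classical
  have hfg : ∀ j : D.I, (⊤ : Submodule Γ(Proj 𝒜, U D j) Γ(F, U D j)).FG := fun j =>
    fg_top_of_isFiniteType F hFT (Proj.isAffineOpen_basicOpen 𝒜 (D.f j) (D.hf j) one_pos)
  choose S hS using hfg
  let K := Σ j : D.I, {τ : Γ(F, U D j) // τ ∈ S j}
  have hK : Finite K := inferInstance
  have hext : ∀ k : K, ∃ (n : ℕ) (m : M D F), m ∈ grading D F n ∧ comp D F k.1 m = k.2.1 :=
    fun k => exists_extension D F k.1 k.2.1
  choose e x hxg hxc using hext
  refine ⟨Submodule.span A (Set.range x), Submodule.fg_span (Set.finite_range x),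
    GrSub.span_isHomogeneous 𝒜 x e hxg, ?_⟩
  intro j i m hm
  refine exists_fpow_smul_mem D F _ j ?_ hm
  rw [eq_top_iff, ← hS j]
  refine Submodule.span_mono ?_
  intro τ hτ
  exact ⟨x ⟨j, ⟨τ, hτ⟩⟩, e ⟨j, ⟨τ, hτ⟩⟩, Submodule.subset_span ⟨_, rfl⟩, hxg _, hxc _⟩

end

end GammaStar

end Groth.Agent.H18
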