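import Groth.Agent.H18.QCohLocalize

set_option autoImplicit false
universe u

open CategoryTheory CategoryTheory.Limits AlgebraicGeometry TopologicalSpace Opposite

namespace Groth.Agent.H18

variable {X : Scheme.{u}}

/-- A module which over an open `W` is freely generated (on every smaller open) by one section
restricts to the structure sheaf on `W`. -/
theorem nonempty_restrict_iso_unit (M : X.Modules) (W : X.Opens) (σ : Γ(M, W))
    (h : ∀ (V : X.Opens) (hV : V ≤ W), Function.Bijective (fun r : Γ(X, V) => r • mres M hV σ)) :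
    Nonempty (M.restrict W.ι ≅
      (SheafOfModules.unit (W : Scheme.{u}).ringCatSheaf : (W : Scheme.{u}).Modules)) := by
  let N : (W : Scheme.{u}).Modules := M.restrict W.ι
  let O : (W : Scheme.{u}).Modules := SheafOfModules.unit (W : Scheme.{u}).ringCatSheaf
  have hle : ∀ V : (W : Scheme.{u}).Opens, W.ι ''ᵁ V ≤ W := fun V => by
    intro x hx
    obtain ⟨y, -, rfl⟩ := hx
    exact y.2
  let σ' : N.sections := PresheafOfModules.sectionsMk
    (fun V => (mres M (hle V.unop) σ : Γ(M, W.ι ''ᵁ V.unop))) (by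
      intro V V' g
      have hVV' : W.ι ''ᵁ V'.unop ≤ W.ι ''ᵁ V.unop := W.ι.image_mono (leOfHom g.unop)
      have h1 : ∀ y : Γ(M, W.ι ''ᵁ V.unop), N.val.map g y = mres M hVV' y := fun _ => rfl
      rw [h1]
      exact mres_mres M _ _ σ)
  let φ : O ⟶ N := (SheafOfModules.unitHomEquiv (R := (W : Scheme.{u}).ringCatSheaf) N).symm σ'
  have hφ1 : ∀ V : (W : Scheme.{u}).Opens, φ.val.app (op V) (1 : Γ(W, V)) = mres M (hle V) σ := by
    intro V
    have := SheafOfModules.unitHomEquiv_apply_coe (R := (W : Scheme.{u}).ringCatSheaf) N φ (op V)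
    rw [Equiv.apply_symm_apply] at this
    exact this.symm
  have hφ : ∀ (V : (W : Scheme.{u}).Opens) (r : Γ(W, V)),
      φ.app V r = ((W.ι.appIso V).inv r : Γ(X, W.ι ''ᵁ V)) • mres M (hle V) σ := by
    intro V r
    have h1 : φ.app V (r • (1 : Γ(W, V))) = r • φ.app V (1 : Γ(W, V)) :=
      Scheme.Modules.Hom.app_smul φ r (1 : Γ(W, V))
    have h2 : r • (1 : Γ(W, V)) = r := mul_one r
    have h3 : φ.app V (1 : Γ(W, V)) = mres M (hle V) σ := hφ1 V
    have h4 : φ.app V (r • (1 : Γ(W, V))) = φ.app V r := by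
      exact congrArg (φ.app V) h2
    rw [← h4, h1, h3]
    rfl
  have hiso : IsIso φ := by
    rw [Scheme.Modules.Hom.isIso_iff_isIso_app]
    intro V
    rw [ConcreteCategory.isIso_iff_bijective]
    have hb := h (W.ι ''ᵁ V) (hle V)
    have hb2 : Function.Bijective ((W.ι.appIso V).inv : Γ(W, V) → Γ(X, W.ι ''ᵁ V)) :=
      ConcreteCategory.bijective_of_isIso (W.ι.appIso V).inv
    have : (φ.app V : Γ(W, V) → Γ(N, V)) =
        (fun r : Γ(X, W.ι ''ᵁ V) => r • mres M (hle V) σ) ∘ ((W.ι.appIso V).inv : Γ(W, V) → Γ(X, W.ι ''ᵁ V)) := by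
      funext r
      exact hφ V r
    rw [this]
    exact hb.comp hb2
  exact ⟨(asIso φ).symm⟩

end Groth.Agent.H18
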