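import Groth.Prelude.Def_Twist2
import Groth.Agent.H18.ProjBasic

set_option autoImplicit false
universe u

namespace Groth.Agent.H18

open CategoryTheory CategoryTheory.Limits AlgebraicGeometry TopologicalSpace Opposite

section
variable {R A : Type u} [CommRing R] [CommRing A] [Algebra R A] (𝒜 : ℕ → Submodule R A) [GradedAlgebra 𝒜]

/-- Every element of the module of degree-`n` fractions at `x` is a single fraction. -/
theorem twistAt_eq_fraction (n : ℤ) (x : ProjectiveSpectrum 𝒜) (t : Twist.Loc 𝒜 x)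
    (ht : t ∈ Twist.twistAt 𝒜 n x) :
    ∃ (i j : ℕ) (a : A) (s : A) (_ : a ∈ 𝒜 i) (_ : s ∈ 𝒜 j) (hs : s ∉ x.asHomogeneousIdeal),
      (i : ℤ) = j + n ∧ t = Localization.mk a ⟨s, hs⟩ := by
  unfold Twist.twistAt at ht
  induction ht using Submodule.span_induction with
  | mem t ht =>
    obtain ⟨i, j, m, s, hs, hdeg, rfl⟩ := ht
    exact ⟨i, j, m.1, s.1, m.2, s.2, hs, hdeg, rfl⟩
  | zero =>
    obtain ⟨e, g, he, hg, hgx⟩ := exists_pos_homogeneous_notMem 𝒜 x
    have hpow : g ^ n.natAbs ∈ 𝒜 (n.natAbs * e) := by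
      have := SetLike.pow_mem_graded n.natAbs hg
      simpa [smul_eq_mul] using this
    have hge : (0 : ℤ) ≤ ((n.natAbs * e : ℕ) : ℤ) + n := by
      have h1 : n.natAbs ≤ n.natAbs * e := Nat.le_mul_of_pos_right _ he
      have h2 : (n.natAbs : ℤ) ≤ ((n.natAbs * e : ℕ) : ℤ) := by exact_mod_cast h1
      omega
    refine ⟨(((n.natAbs * e : ℕ) : ℤ) + n).toNat, n.natAbs * e, 0, g ^ n.natAbs, zero_mem _, hpow,
      fun h => hgx (x.isPrime.mem_of_pow_mem _ h), ?_, ?_⟩
    · rw [Int.toNat_of_nonneg hge]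
    · rw [Localization.mk_zero]
  | add t t' _ _ iht iht' =>
    obtain ⟨i, j, m, s, hm, hs, hsx, hdeg, rfl⟩ := iht
    obtain ⟨i', j', m', s', hm', hs', hsx', hdeg', rfl⟩ := iht'
    refine ⟨j + i', j + j', s * m' + s' * m, s * s', ?_, SetLike.mul_mem_graded hs hs',
      fun h => (x.isPrime.mem_or_mem h).elim hsx hsx', by push_cast; omega, ?_⟩
    · refine add_mem (SetLike.mul_mem_graded hs hm') ?_
      have e : j + i' = j' + i := by omega
      rw [e]
      exact SetLike.mul_mem_graded hs' hm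
    · rw [Localization.add_mk]
      rfl
  | smul c t _ iht =>
    obtain ⟨i, j, m, s, hm, hs, hsx, hdeg, rfl⟩ := iht
    obtain ⟨⟨k, ⟨a, ha⟩, ⟨b, hb⟩, hbx⟩, rfl⟩ := HomogeneousLocalization.mk_surjective c
    refine ⟨k + i, k + j, a * m, b * s, SetLike.mul_mem_graded ha hm,
      SetLike.mul_mem_graded hb hs, fun h => (x.isPrime.mem_or_mem h).elim hbx hsx,
      by push_cast; omega, ?_⟩
    rw [Algebra.smul_def, HomogeneousLocalization.algebraMap_apply,
      HomogeneousLocalization.val_mk, Localization.mk_mul]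
    rfl

end

end Groth.Agent.H18
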