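import Groth.Agent.H18.GrShiftMap
import Groth.Agent.H18.GammaStarFG
import Groth.Agent.H18.TwistTriv
import Groth.Agent.H18.FTypeCriterion

set_option autoImplicit false
universe u

open CategoryTheory CategoryTheory.Limits AlgebraicGeometry TopologicalSpace Opposite
open HomogeneousLocalization

namespace Groth.Agent.H18

/-- a quasi-coherent module is locally generated by generators of its sections over an affine open -/
theorem exists_mres_mem_span_of_isQuasicoherent {X : Scheme.{u}} (M : X.Modules) [M.IsQuasicoherent]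
    {U : X.Opens} (hUa : IsAffineOpen U) {σ : Type*} (s : σ → Γ(M, U))
    (hs : Submodule.span Γ(X, U) (Set.range s) = ⊤)
    (V : X.Opens) (hV : V ≤ U) (t : Γ(M, V)) (x : X) (hx : x ∈ V) :
    ∃ (W : X.Opens) (hW : W ≤ V), x ∈ W ∧
      mres M hW t ∈ Submodule.span Γ(X, W) (Set.range fun j => mres M (hW.trans hV) (s j)) := by
  obtain ⟨r, hrV, hxr⟩ := hUa.exists_basicOpen_le ⟨x, hx⟩ (hV hx)
  have aux : ∀ (W : X.Opens) (_ : W = X.basicOpen r) (hWV : W ≤ V) (hWU : W ≤ U),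
      x ∈ W → mres M hWV t ∈ Submodule.span Γ(X, W)
        (Set.range fun j => mres M hWU (s j)) := by
    intro W e hWV hWU hxW
    subst e
    obtain ⟨n, τ, hτ⟩ := exists_pow_smul_eq_res_of_isQuasicoherent M hUa r (mres M hWV t)
    have hu : IsUnit (X.presheaf.map (homOfLE (X.basicOpen_le r)).op r) :=
      RingedSpace.isUnit_res_basicOpen _ r
    have hτs : τ ∈ Submodule.span Γ(X, U) (Set.range s) := by rw [hs]; trivial
    have h1 := mres_mem_span M (X.basicOpen_le r) s τ hτs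
    rw [← hτ] at h1
    have hun := hu.pow n
    obtain ⟨v, hv⟩ := hun
    have h2 := Submodule.smul_mem _ (↑v⁻¹ : Γ(X, X.basicOpen r)) h1
    rw [← hv, smul_smul, Units.inv_mul, one_smul] at h2
    exact h2
  exact ⟨X.basicOpen r, hrV, hxr, aux _ rfl hrV (X.basicOpen_le r) hxr⟩

/-- a morphism of modules on a scheme which is locally surjective on sections is an epimorphism -/
theorem epi_of_locally_mem_range {X : Scheme.{u}} {G F : X.Modules} (p : G ⟶ F)
    (h : ∀ (V : X.Opens) (t : Γ(F, V)) (x : X), x ∈ V → ∃ (W : X.Opens) (hW : W ≤ V), x ∈ W ∧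
        ∃ s : Γ(G, W), p.app W s = mres F hW t) : Epi p := by
  have hls : Sheaf.IsLocallySurjective ((SheafOfModules.toSheaf X.ringCatSheaf).map p) := by
    constructor
    intro V t x hx
    obtain ⟨W, hW, hxW, s, hs⟩ := h V t x hx
    exact ⟨W, homOfLE hW, ⟨s, hs⟩, hxW⟩
  exact (SheafOfModules.toSheaf X.ringCatSheaf).epi_of_epi_map inferInstance

namespace GammaStar

section

variable {R A : Type u} [CommRing R] [CommRing A] [Algebra R A]
variable {𝒜 : ℕ → Submodule R A} [GradedAlgebra 𝒜]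
variable (D : Charts 𝒜) (F : (Proj 𝒜).Modules)
variable (hcov : ∀ x : ProjectiveSpectrum 𝒜, ∃ j, D.f j ∉ x.asHomogeneousIdeal)

theorem alpha_app_eq_evalFrac (j : D.I) {W : (Proj 𝒜).Opens} (hWj : W ≤ U D j)
    (s : Γ(Mtilde D F, W)) {n : ℕ} {t : A} (ht : t ∈ 𝒜 n)
    (hW : ∀ x : ProjectiveSpectrum 𝒜, x ∈ W → t ∉ x.asHomogeneousIdeal)
    {m : M D F} (hm : m ∈ grading D F n)
    (hs : ∀ (z : ProjectiveSpectrum 𝒜) (hz : z ∈ W),
        (((s : GrTilde.sect 𝒜 (grading D F) 0 (op W)).1 ⟨z, hz⟩ :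
          GrTilde.tildeAt 𝒜 (grading D F) 0 z) : GrTilde.LocMod 𝒜 (M := M D F) z) =
          LocalizedModule.mk m ⟨t, hW z hz⟩) :
    (alpha D F hcov).app W s = evalFrac D F j hWj ht hW m := by
  refine modules_eq_of_locally_eq F _ _ (fun x hx => ?_)
  obtain ⟨b, hxb, hbW⟩ := exists_B_le D hcov (V := W) hx
  refine ⟨B D b, hbW, hxb, ?_⟩
  rw [evalFrac_res]
  have h1 : mres F hbW ((alpha D F hcov).app W s) =
      (alpha D F hcov).app (B D b) (mres (Mtilde D F) hbW s) :=
    (alphaPre_res D F hcov hbW s).symm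
  rw [h1, alpha_app_B,
    alphaB_eq D F b _ ht (fun x hx => hW x (hbW hx)) hm (fun z hz => hs z (hbW hz))]
  exact evalFrac_indep D F j b.1 (hbW.trans hWj) (B_le D b) ht _ hm

/-- multiplication by a homogeneous element `y` of degree `n` of `Γ_*(F)`, as a map `A → Γ_*(F)` -/
noncomputable def smulRight (y : M D F) : A →ₗ[A] M D F := LinearMap.toSpanSingleton A (M D F) y

theorem smulRight_apply (y : M D F) (a : A) : smulRight D F y a = a • y := rfl

theorem smulRight_mem {n : ℕ} {y : M D F} (hy : y ∈ grading D F n) (i : ℕ) (a : A) (ha : a ∈ 𝒜 i) :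
    smulRight D F y a ∈ grading D F (i + n) :=
  SetLike.GradedSMul.smul_mem ha hy

/-- the morphism `O(-n) ⟶ F` attached to a homogeneous element of degree `n` of `Γ_*(F)` -/
noncomputable def negTwHom {n : ℕ} {y : M D F} (hy : y ∈ grading D F n) :
    Twist.twist 𝒜 (-(n : ℤ)) ⟶ F :=
  (GrShift.map 𝒜 (smulRight D F y) n (smulRight_mem D F hy) (-(n : ℤ)) 0 (by omega) :
    GrMod.tilde 𝒜 𝒜 (-(n : ℤ)) ⟶ GrMod.tilde 𝒜 (grading D F) 0) ≫ alpha D F hcov

/-- the generator `1 / f_j ^ n` of `O(-n)` over `D₊(f_j)` -/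
noncomputable def negGen (j : D.I) (n : ℕ) {W : (Proj 𝒜).Opens} (hWj : W ≤ U D j) :
    Γ(Twist.twist 𝒜 (-(n : ℤ)), W) :=
  fracTw 𝒜 (SetLike.GradedOne.one_mem : (1 : A) ∈ 𝒜 0) (fpow_mem D j n)
    (by push_cast; omega : ((0 : ℕ) : ℤ) = (n : ℤ) + -(n : ℤ)) W
    (fun x hx => notMem_of_mem_U D (hWj hx) n)

theorem negTwHom_app_negGen {n : ℕ} {y : M D F} (hy : y ∈ grading D F n) (j : D.I)
    {W : (Proj 𝒜).Opens} (hWj : W ≤ U D j) :
    (negTwHom D F hcov hy).app W (negGen D j n hWj) = mres F hWj (comp D F j y) := by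
  have h := alpha_app_eq_evalFrac D F hcov j hWj
    ((GrShift.map 𝒜 (smulRight D F y) n (smulRight_mem D F hy) (-(n : ℤ)) 0 (by omega) :
      GrMod.tilde 𝒜 𝒜 (-(n : ℤ)) ⟶ GrMod.tilde 𝒜 (grading D F) 0).app W (negGen D j n hWj))
    (fpow_mem D j n) (fun x hx => notMem_of_mem_U D (hWj hx) n) hy ?_
  · refine h.trans ?_
    unfold evalFrac
    rw [fracO_self, one_smul]
  · intro z hz
    have h1 : GrMod.locMap (𝒜 := 𝒜) (smulRight D F y) z (LocalizedModule.mk (1 : A)
        ⟨D.f j ^ n, notMem_of_mem_U D (hWj hz) n⟩) =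
        LocalizedModule.mk (smulRight D F y 1) ⟨D.f j ^ n, notMem_of_mem_U D (hWj hz) n⟩ :=
      GrMod.locMap_mk _ _ _ _
    rw [smulRight_apply, one_smul] at h1
    exact h1

end

end GammaStar

end Groth.Agent.H18
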