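import Groth.Prelude.Def_RelSpec

set_option autoImplicit false
universe u

namespace Groth.Agent.H18

open CategoryTheory CategoryTheory.Limits AlgebraicGeometry TopologicalSpace Opposite

theorem isIso_appLE_of_eq_image {X Y : Scheme.{u}} (f : X ⟶ Y) [IsOpenImmersion f]
    (W : Y.Opens) (U : X.Opens) (hW : W = f ''ᵁ U) (e : U ≤ f ⁻¹ᵁ W) :
    IsIso (f.appLE W U e) := by
  subst hW
  rw [← Scheme.Hom.appIso_hom']
  infer_instance

variable {S : Scheme.{u}} (A : RelSpec.QCAlg S)

theorem isIso_gammaAff (U : S.Opens) (hU : IsAffineOpen U) : IsIso (A.gammaAff U hU) := by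
  have h1 : IsIso ((A.ι U hU).appLE (A.π ⁻¹ᵁ U) ⊤ (A.top_le_preimage U hU)) := by
    apply isIso_appLE_of_eq_image
    rw [A.π_preimage U hU, Scheme.Hom.image_top_eq_opensRange]
  unfold RelSpec.QCAlg.gammaAff
  infer_instance

/-- The direct image sheaf `π_* O_{Spec A}`. -/
noncomputable def piSheaf : TopCat.Sheaf CommRingCat.{u} S.carrier :=
  ⟨A.π.base _* A.spec.presheaf, TopCat.Sheaf.pushforward_sheaf_of_sheaf _ A.spec.sheaf.2⟩

/-- `A` as a sheaf. -/
noncomputable def algSheaf : TopCat.Sheaf CommRingCat.{u} S.carrier := ⟨A.presheaf, A.isSheaf⟩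

theorem isIso_gammaMap : IsIso A.gammaMap := by
  let φ : piSheaf A ⟶ algSheaf A := ⟨A.gammaMap⟩
  have hb : Opens.IsBasis (Set.range (fun V : S.affineOpens => V.1)) := by
    have : Set.range (fun V : S.affineOpens => V.1) = S.affineOpens := Subtype.range_coe
    rw [this]
    exact S.isBasis_affineOpens
  have hφ : IsIso φ := by
    refine TopCat.Sheaf.isIso_iff_isIso_basis (B := fun V : S.affineOpens => V.1) hb ?_
    intro V
    change IsIso (A.gammaMap.app (op V.1))
    rw [A.gammaMap_app V.1 V.2]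
    exact isIso_gammaAff A V.1 V.2
  exact (TopCat.Sheaf.forget CommRingCat.{u} S.carrier).map_isIso φ

end Groth.Agent.H18
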