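import Groth.Agent.H18.NegTwist
import Groth.Prelude.Def_Coh

set_option autoImplicit false
universe u

open CategoryTheory CategoryTheory.Limits AlgebraicGeometry TopologicalSpace Opposite

namespace Groth.Agent.H18

variable {X : Scheme.{u}}

/-- the family of restrictions of a global section, as an element of `M.sections` -/
noncomputable def globalSections (M : X.Modules) (σ : Γ(M, (⊤ : X.Opens))) : M.sections :=
  PresheafOfModules.sectionsMk (fun V => (mres M (le_top : V.unop ≤ ⊤) σ : Γ(M, V.unop))) (by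
    intro V V' g
    have h1 : ∀ y : Γ(M, V.unop), M.val.map g y = mres M (leOfHom g.unop) y := fun _ => rfl
    rw [h1]
    exact mres_mres M _ _ σ)

/-- the morphism `O_X ⟶ M` attached to a global section of `M` -/
noncomputable def sectionHom (M : X.Modules) (σ : Γ(M, (⊤ : X.Opens))) :
    Coh.structureModule X ⟶ M :=
  (SheafOfModules.unitHomEquiv (R := X.ringCatSheaf) M).symm (globalSections M σ)

theorem sectionHom_app_one (M : X.Modules) (σ : Γ(M, (⊤ : X.Opens))) (V : X.Opens) :
    (sectionHom M σ).app V (1 : Γ(X, V)) = mres M (le_top : V ≤ ⊤) σ := by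
  have := SheafOfModules.unitHomEquiv_apply_coe (R := X.ringCatSheaf) M (sectionHom M σ) (op V)
  unfold sectionHom at this ⊢
  rw [Equiv.apply_symm_apply] at this
  exact this.symm

theorem sectionHom_app (M : X.Modules) (σ : Γ(M, (⊤ : X.Opens))) (V : X.Opens) (r : Γ(X, V)) :
    (sectionHom M σ).app V r = r • mres M (le_top : V ≤ ⊤) σ := by
  have h1 : (sectionHom M σ).app V (r • (1 : Γ(X, V))) = r • (sectionHom M σ).app V (1 : Γ(X, V)) :=
    Scheme.Modules.Hom.app_smul (sectionHom M σ) r (1 : Γ(X, V))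
  have h2 : r • (1 : Γ(X, V)) = r := mul_one r
  have h4 : (sectionHom M σ).app V (r • (1 : Γ(X, V))) = (sectionHom M σ).app V r :=
    congrArg ((sectionHom M σ).app V) h2
  rw [← h4, h1, sectionHom_app_one]

/-- the image of a cocone map out of a coproduct contains the images of the components -/
theorem range_le_range_desc_app {ι : Type} [Finite ι] {G : ι → X.Modules} {F : X.Modules}
    (q : ∀ i, G i ⟶ F) (i : ι) (W : X.Opens) (s : Γ(G i, W)) :
    (q i).app W s ∈ LinearMap.range ((Sigma.desc q).val.app (op W)).hom := by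
  refine ⟨(Sigma.ι G i).app W s, ?_⟩
  have h1 : Sigma.ι G i ≫ Sigma.desc q = q i := Sigma.ι_desc _ _
  have h2 := congrArg (fun φ : G i ⟶ F => φ.app W s) h1
  exact h2

theorem epi_desc_of_locally_mem_span {ι : Type} [Finite ι] {G : ι → X.Modules} {F : X.Modules}
    (q : ∀ i, G i ⟶ F)
    (h : ∀ (V : X.Opens) (t : Γ(F, V)) (x : X), x ∈ V → ∃ (W : X.Opens) (hW : W ≤ V), x ∈ W ∧
        mres F hW t ∈ Submodule.span Γ(X, W) {τ | ∃ (i : ι) (s : Γ(G i, W)), (q i).app W s = τ}) :
    Epi (Sigma.desc q) := by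
  refine epi_of_locally_mem_range _ ?_
  intro V t x hx
  obtain ⟨W, hW, hxW, hmem⟩ := h V t x hx
  refine ⟨W, hW, hxW, ?_⟩
  have hle : Submodule.span Γ(X, W) {τ | ∃ (i : ι) (s : Γ(G i, W)), (q i).app W s = τ} ≤
      LinearMap.range ((Sigma.desc q).val.app (op W)).hom := by
    rw [Submodule.span_le]
    rintro _ ⟨i, s, rfl⟩
    exact range_le_range_desc_app q i W s
  obtain ⟨σ, hσ⟩ := hle hmem
  exact ⟨σ, hσ⟩

/-- finitely many global sections which generate `M` locally define an epimorphism `O_X^k ⟶ M` -/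
theorem epi_desc_sectionHom {k : ℕ} (M : X.Modules) (σ : Fin k → Γ(M, (⊤ : X.Opens)))
    (h : ∀ (V : X.Opens) (t : Γ(M, V)) (x : X), x ∈ V → ∃ (W : X.Opens) (hW : W ≤ V), x ∈ W ∧
        mres M hW t ∈ Submodule.span Γ(X, W) (Set.range fun i => mres M (le_top : W ≤ ⊤) (σ i))) :
    Epi (Sigma.desc (fun i : Fin k => sectionHom M (σ i))) := by
  refine epi_desc_of_locally_mem_span _ ?_
  intro V t x hx
  obtain ⟨W, hW, hxW, hmem⟩ := h V t x hx
  refine ⟨W, hW, hxW, Submodule.span_mono ?_ hmem⟩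
  rintro _ ⟨i, rfl⟩
  exact ⟨i, (1 : Γ(X, W)), sectionHom_app_one M (σ i) W⟩

end Groth.Agent.H18
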