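import Mathlib.Algebra.Category.ModuleCat.Presheaf.Sheafification
import Mathlib.Algebra.Category.ModuleCat.Presheaf.Submodule
import Mathlib.Algebra.Category.ModuleCat.Sheaf.Abelian
import Mathlib.Algebra.Category.ModuleCat.Sheaf.Generators
import Mathlib.CategoryTheory.Sites.LocallySurjective
import Mathlib.Algebra.Homology.ShortComplex.ModuleCat

set_option autoImplicit false
universe u v' u'
open CategoryTheory Limits Opposite

namespace Groth.Agent.H18

variable {C : Type u'} [Category.{v'} C] {J : GrothendieckTopology C} {R : Sheaf J RingCat.{u}}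
  [HasWeakSheafify J AddCommGrpCat.{u}] [J.WEqualsLocallyBijective AddCommGrpCat.{u}]

/-- sectionwise exactness of `M → N → coker` for presheaves of modules. -/
theorem presheaf_cokernel_exact {R₀ : Cᵒᵖ ⥤ RingCat.{u}} {M N : PresheafOfModules.{u} R₀} (φ : M ⟶ N)
    (X : Cᵒᵖ) (n : N.obj X) (hn : (cokernel.π φ).app X n = 0) : ∃ m : M.obj X, φ.app X m = n := by
  let S : ShortComplex (PresheafOfModules.{u} R₀) := ShortComplex.mk φ (cokernel.π φ) (cokernel.condition φ)
  have hS : S.Exact := S.exact_of_g_is_cokernel (cokernelIsCokernel φ)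
  have hS' := hS.map (PresheafOfModules.evaluation R₀ X)
  rw [ShortComplex.moduleCat_exact_iff] at hS'
  exact hS' n hn

/-- If a morphism of presheaves of modules `j : P ⟶ M.val` into a sheaf of modules is "epi w.r.t. sheaves",
then every section of `M` is locally in the image of `j`. -/
theorem exists_cover_mem_range_of_forall_eq_zero {M : SheafOfModules.{u} R} {P : PresheafOfModules.{u} R.obj}
    (j : P ⟶ M.val)
    (hj : ∀ (F : SheafOfModules.{u} R) (ψ : M ⟶ F), j ≫ ψ.val = 0 → ψ = 0) (X : C)
    (n : M.val.obj (op X)) :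
    ∃ S ∈ J X, ∀ ⦃Y : C⦄ (f : Y ⟶ X), S f →
      ∃ m : P.obj (op Y), j.app (op Y) m = M.val.map f.op n := by
  let Cok := cokernel j
  let π : M.val ⟶ Cok := cokernel.π j
  let adj := PresheafOfModules.sheafificationAdjunction (R := R) (𝟙 R.obj)
  let aC : SheafOfModules.{u} R := (PresheafOfModules.sheafification (R := R) (𝟙 R.obj)).obj Cok
  let un : Cok ⟶ aC.val := adj.unit.app Cok
  let ψ : M ⟶ aC := ⟨π ≫ un⟩
  have hψ : j ≫ ψ.val = 0 := by
    change j ≫ π ≫ un = 0
    rw [← Category.assoc, cokernel.condition, zero_comp]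
  have hψ0 : ψ = 0 := hj aC ψ hψ
  have hπu : π ≫ un = 0 := congrArg SheafOfModules.Hom.val hψ0
  have hun : (PresheafOfModules.toPresheaf R.obj).map un = toSheafify J Cok.presheaf := by
    have := PresheafOfModules.toPresheaf_map_sheafificationHomEquiv_def (R := R) (𝟙 R.obj) (P := Cok) (𝟙 aC)
    have h2 : (PresheafOfModules.toPresheaf R.obj).map un =
        (PresheafOfModules.toPresheaf R.obj).map ((PresheafOfModules.sheafificationHomEquiv (𝟙 R.obj)) (𝟙 aC)) := rfl
    refine h2.trans (this.trans ?_)
    exact Category.comp_id _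
  have hz : (toSheafify J Cok.presheaf).app (op X) (π.app (op X) n) = (toSheafify J Cok.presheaf).app (op X) 0 := by
    rw [← hun]
    have h1 : (π ≫ un).app (op X) n = 0 := by rw [hπu]; rfl
    rw [map_zero]
    exact h1
  have hmem := Presheaf.equalizerSieve_mem J (toSheafify J Cok.presheaf) (X := op X) _ _ hz
  refine ⟨_, hmem, ?_⟩
  intro Y f hf
  have hf' : Cok.map f.op (π.app (op X) n) = Cok.map f.op 0 := hf
  rw [map_zero] at hf'
  have hnat : π.app (op Y) (M.val.map f.op n) = Cok.map f.op (π.app (op X) n) :=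
    PresheafOfModules.naturality_apply π f.op n
  exact presheaf_cokernel_exact j (op Y) _ (hnat.trans hf')

theorem exists_cover_mem_range_of_epi {M N : SheafOfModules.{u} R} (φ : M ⟶ N) [Epi φ] (X : C)
    (n : N.val.obj (op X)) :
    ∃ S ∈ J X, ∀ ⦃Y : C⦄ (f : Y ⟶ X), S f →
      ∃ m : M.val.obj (op Y), φ.val.app (op Y) m = N.val.map f.op n := by
  refine exists_cover_mem_range_of_forall_eq_zero φ.val ?_ X n
  intro F ψ h
  have : φ ≫ ψ = 0 := by ext1; exact h
  rw [← cancel_epi φ, this, comp_zero]

/-- the sub-presheaf of modules spanned by a family of global sections. -/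
noncomputable def spanSections (M : PresheafOfModules.{u} R.obj) {I : Type u} (s : I → M.sections) :
    PresheafOfModules.Submodule M where
  obj X := Submodule.span (R.obj.obj X) (Set.range fun i : I => (PresheafOfModules.sections.eval (s i) X : M.obj X))
  map {X Y} f := by
    rw [Submodule.span_le]
    rintro _ ⟨i, rfl⟩
    have h : M.map f (PresheafOfModules.sections.eval (s i) X) = PresheafOfModules.sections.eval (s i) Y :=
      PresheafOfModules.sections_property (s i) f
    have h2 : PresheafOfModules.sections.eval (s i) Y ∈ Submodule.span (R.obj.obj Y)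
        (Set.range fun i : I => (PresheafOfModules.sections.eval (s i) Y : M.obj Y)) :=
      Submodule.subset_span ⟨i, rfl⟩
    rw [← h] at h2
    exact h2

theorem exists_cover_mem_span_of_epi (M : SheafOfModules.{u} R) {I : Type u} (s : I → M.sections)
    [Epi (M.freeHomEquiv.symm s)] (X : C) (t : M.val.obj (op X)) :
    ∃ S ∈ J X, ∀ ⦃Y : C⦄ (f : Y ⟶ X), S f →
      M.val.map f.op t ∈ Submodule.span (R.obj.obj (op Y))
        (Set.range fun i : I => (PresheafOfModules.sections.eval (s i) (op Y) : M.val.obj (op Y))) := by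
  have key : ∀ (F : SheafOfModules.{u} R) (ψ : M ⟶ F), (spanSections M.val s).ι ≫ ψ.val = 0 → ψ = 0 := ?_
  obtain ⟨S, hS, h⟩ := exists_cover_mem_range_of_forall_eq_zero (spanSections M.val s).ι key X t
  · refine ⟨S, hS, fun Y f hf => ?_⟩
    obtain ⟨m, hm⟩ := h f hf
    rw [← hm]
    exact m.2
  · intro F ψ h
    have : M.freeHomEquiv.symm s ≫ ψ = 0 := by
      apply F.freeHomEquiv.injective
      funext i
      rw [SheafOfModules.freeHomEquiv_comp_apply, Equiv.apply_symm_apply]
      have h0 : F.freeHomEquiv (0 : SheafOfModules.free I ⟶ F) i = SheafOfModules.sectionsMap (0 : M ⟶ F) (s i) := by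
        have : (0 : SheafOfModules.free I ⟶ F) = M.freeHomEquiv.symm s ≫ (0 : M ⟶ F) := comp_zero.symm
        rw [this, SheafOfModules.freeHomEquiv_comp_apply, Equiv.apply_symm_apply]
      rw [h0]
      apply PresheafOfModules.sections_ext
      intro Y
      have hi : (PresheafOfModules.sections.eval (s i) Y : M.val.obj Y) ∈ (spanSections M.val s).obj Y :=
        Submodule.subset_span ⟨i, rfl⟩
      have h1 : ((spanSections M.val s).ι ≫ ψ.val).app Y ⟨_, hi⟩ = 0 := by rw [h]; rfl
      exact h1
    rw [← cancel_epi (M.freeHomEquiv.symm s), this, comp_zero]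

end Groth.Agent.H18
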