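import Groth.Prelude.Def_AffAlg
import Mathlib.AlgebraicGeometry.Morphisms.ClosedImmersion
import Mathlib.AlgebraicGeometry.Morphisms.Separated

set_option autoImplicit false
universe u

namespace Groth.Agent.H18

open CategoryTheory AlgebraicGeometry TopologicalSpace Opposite

variable {X Y S : Scheme.{u}}

theorem algHom_app_eq (f : X ⟶ S) (h : Y ⟶ X) (U : S.Opens) :
    (AffAlg.algHom f (h ≫ f) h rfl).app (op U) = h.app (f ⁻¹ᵁ U) := by
  simp only [AffAlg.algHom]
  rfl

theorem iSup_preimage_affineOpens (f : X ⟶ S) :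
    ⨆ V : S.affineOpens, f ⁻¹ᵁ V.1 = ⊤ := by
  rw [← Scheme.Hom.preimage_iSup, iSup_affineOpens_eq_top]
  rfl

theorem surjective_appTop_morphismRestrict (h : Y ⟶ X) (W : X.Opens)
    (hs : Function.Surjective (h.app W)) : Function.Surjective (h ∣_ W).appTop := by
  rw [morphismRestrict_appTop]
  have key : ∀ (W' : X.Opens), W' = W → Function.Surjective (h.app W') := by
    rintro W' rfl; exact hs
  have h1 := key (W.ι ''ᵁ ⊤) (Scheme.Opens.ι_image_top W)
  have h2 : Function.Surjective
      (Y.presheaf.map (eqToHom (image_morphismRestrict_preimage h W ⊤)).op) := by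
    have : IsIso (Y.presheaf.map (eqToHom (image_morphismRestrict_preimage h W ⊤)).op) :=
      inferInstance
    exact (ConcreteCategory.bijective_of_isIso _).2
  exact h2.comp h1

end Groth.Agent.H18
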