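import Groth.Agent.H18.AffAlgBasic
import Mathlib.AlgebraicGeometry.Cover.Directed
import Mathlib.AlgebraicGeometry.Sites.SmallAffineZariski
import Mathlib.AlgebraicGeometry.Morphisms.Affine

set_option autoImplicit false
universe u

namespace Groth.Agent.H18

open CategoryTheory AlgebraicGeometry TopologicalSpace Opposite Limits

variable {X Y S : Scheme.{u}}

theorem algHom_app_eq_appLE (f : X ⟶ S) (g : Y ⟶ S) (h : Y ⟶ X) (w : h ≫ f = g) (U : S.Opens) :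
    (AffAlg.algHom f g h w).app (op U) =
      h.appLE (f ⁻¹ᵁ U) (g ⁻¹ᵁ U) (by subst w; exact le_rfl) := by
  subst w
  rw [algHom_app_eq]
  exact Scheme.Hom.app_eq_appLE ..

theorem ι_comp_eq_toSpecΓ (h : Y ⟶ X) {W : X.Opens} (hW : IsAffineOpen W) (V' : Y.Opens)
    (e : V' ≤ h ⁻¹ᵁ W) :
    V'.ι ≫ h = V'.toSpecΓ ≫ Spec.map (h.appLE W V' e) ≫ hW.fromSpec := by
  rw [Scheme.Opens.toSpecΓ_SpecMap_appLE_assoc, hW.toSpecΓ_fromSpec, Scheme.Hom.resLE_comp_ι]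

theorem toSpecΓ_SpecMap_inj (U : Y.Opens) {R : CommRingCat.{u}} (φ ψ : R ⟶ Γ(Y, U))
    (e : U.toSpecΓ ≫ Spec.map φ = U.toSpecΓ ≫ Spec.map ψ) : φ = ψ := by
  have e' := congr(Scheme.Hom.appTop $e)
  rw [Scheme.Hom.comp_appTop, Scheme.Hom.comp_appTop, Scheme.Opens.toSpecΓ_appTop,
    ← Category.assoc, ← Category.assoc, Scheme.ΓSpecIso_naturality,
    Scheme.ΓSpecIso_naturality, Category.assoc, Category.assoc] at e'
  have e'' := (cancel_epi _).mp e'
  exact (cancel_mono _).mp e''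

end Groth.Agent.H18

namespace Groth.Agent.H18

open CategoryTheory AlgebraicGeometry TopologicalSpace Opposite Limits

variable {X Y S : Scheme.{u}}

theorem algOf_injective (f : X ⟶ S) [IsAffineHom f] (g : Y ⟶ S) :
    Function.Injective (AffAlg.algOf f g) := by
  rintro ⟨h₁, w₁⟩ ⟨h₂, w₂⟩ e
  have e' : AffAlg.algHom f g h₁ w₁ = AffAlg.algHom f g h₂ w₂ := congrArg Subtype.val e
  apply Subtype.ext
  refine Scheme.Cover.hom_ext (Y.openCoverOfIsOpenCover _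
    (.comap (iSup_affineOpens_eq_top S) g.base.1)) _ _ fun V ↦ ?_
  have hV : IsAffineOpen (f ⁻¹ᵁ V.1) := V.2.preimage f
  have l₁ : g ⁻¹ᵁ V.1 ≤ h₁ ⁻¹ᵁ (f ⁻¹ᵁ V.1) := by subst w₁; exact le_rfl
  have l₂ : g ⁻¹ᵁ V.1 ≤ h₂ ⁻¹ᵁ (f ⁻¹ᵁ V.1) := by rw [← w₂]; exact le_rfl
  have e₁ := algHom_app_eq_appLE f g h₁ w₁ V.1
  have e₂ := algHom_app_eq_appLE f g h₂ w₂ V.1
  change (g ⁻¹ᵁ V.1).ι ≫ h₁ = (g ⁻¹ᵁ V.1).ι ≫ h₂
  rw [ι_comp_eq_toSpecΓ h₁ hV _ l₁, ι_comp_eq_toSpecΓ h₂ hV _ l₂, ← e₁, ← e₂, e']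

/-- Two morphisms into the direct image algebra that agree on affine opens are equal. -/
theorem alg_hom_ext (f : X ⟶ S) (g : Y ⟶ S) (α β : AffAlg.alg f ⟶ AffAlg.alg g)
    (he : ∀ V : S.affineOpens, α.app (op V.1) = β.app (op V.1)) : α = β := by
  let F' : TopCat.Sheaf CommRingCat.{u} S.carrier :=
    ⟨g.base _* Y.presheaf, TopCat.Sheaf.pushforward_sheaf_of_sheaf _ Y.sheaf.2⟩
  refine TopCat.Sheaf.hom_ext (B := fun V : S.affineOpens => V.1) (AffAlg.alg f) F' ?_ he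
  have : Set.range (fun V : S.affineOpens => V.1) = S.affineOpens := Subtype.range_coe
  rw [this]
  exact S.isBasis_affineOpens

end Groth.Agent.H18

namespace Groth.Agent.H18

open CategoryTheory AlgebraicGeometry TopologicalSpace Opposite Limits

variable {X Y S : Scheme.{u}}

set_option backward.isDefEq.respectTransparency false in
theorem algOf_surjective (f : X ⟶ S) [IsAffineHom f] (g : Y ⟶ S) :
    Function.Surjective (AffAlg.algOf f g) := by
  rintro ⟨ω, hω⟩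
  let 𝒰 := (Scheme.AffineZariskiSite.directedCover S).pullback₁ g
  let gl : ∀ V : S.AffineZariskiSite, 𝒰.X V ⟶ X := fun V =>
    (pullbackRestrictIsoRestrict g V.1).hom ≫ (g ⁻¹ᵁ V.1).toSpecΓ ≫
      Spec.map (ω.app (op V.1)) ≫ (V.2.preimage f).fromSpec
  have hgl : ∀ {U V : S.AffineZariskiSite} (i : U ⟶ V), Scheme.Cover.trans 𝒰 i ≫ gl V = gl U := by
    intro U V i
    have : (pullbackRestrictIsoRestrict g U.1).inv ≫
        Scheme.Cover.trans ((Scheme.AffineZariskiSite.directedCover S).pullback₁ g) i ≫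
        (pullbackRestrictIsoRestrict g V.1).hom = Y.homOfLE
          (g.preimage_mono (Scheme.AffineZariskiSite.toOpens_mono i.1.1)) := by
      rw [← cancel_mono (Scheme.Opens.ι _)]
      simp +instances [Scheme.Cover.trans, Scheme.Cover.locallyDirectedPullbackCover]
    dsimp only [gl, 𝒰]
    rw [← Iso.inv_comp_eq, reassoc_of% this, ← Scheme.Opens.toSpecΓ_SpecMap_presheaf_map_assoc,
      ← Spec.map_comp_assoc]
    have hUV : U.1 ≤ V.1 := Scheme.AffineZariskiSite.toOpens_mono i.1.1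
    have nat := ω.naturality (homOfLE hUV).op
    have nat' : ω.app (op V.1) ≫ Y.presheaf.map (homOfLE (g.preimage_mono hUV)).op =
        X.presheaf.map (homOfLE (f.preimage_mono hUV)).op ≫ ω.app (op U.1) := nat.symm
    change (g ⁻¹ᵁ U.1).toSpecΓ ≫ Spec.map (ω.app (op V.1) ≫
      Y.presheaf.map (homOfLE (g.preimage_mono hUV)).op) ≫ _ = _
    rw [nat', Spec.map_comp, Category.assoc, IsAffineOpen.map_fromSpec]
  let h : Y ⟶ X := Scheme.OpenCover.glueMorphismsOfLocallyDirected 𝒰 gl hgl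
  have hι : ∀ V : S.affineOpens, (g ⁻¹ᵁ V.1).ι ≫ h = (g ⁻¹ᵁ V.1).toSpecΓ ≫
      Spec.map (ω.app (op V.1)) ≫ (V.2.preimage f).fromSpec := by
    intro V
    rw [← cancel_epi (pullbackRestrictIsoRestrict g V.1).hom, ← Category.assoc]
    trans 𝒰.f V ≫ h
    · congr 1; simp [𝒰]; rfl
    exact Scheme.OpenCover.map_glueMorphismsOfLocallyDirected 𝒰 gl hgl V
  have w : h ≫ f = g := by
    refine Scheme.Cover.hom_ext (Y.openCoverOfIsOpenCover _
      (.comap (iSup_affineOpens_eq_top S) g.base.1)) _ _ fun V ↦ ?_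
    change (g ⁻¹ᵁ V.1).ι ≫ h ≫ f = (g ⁻¹ᵁ V.1).ι ≫ g
    rw [reassoc_of% (hι V), ι_comp_eq_toSpecΓ g V.2 _ le_rfl,
      ← IsAffineOpen.SpecMap_appLE_fromSpec f V.2 (V.2.preimage f) le_rfl,
      ← Spec.map_comp_assoc, ← Scheme.Hom.app_eq_appLE, ← Scheme.Hom.app_eq_appLE]
    have := congr_app hω (op V.1)
    congr 3
  refine ⟨⟨h, w⟩, Subtype.ext ?_⟩
  change AffAlg.algHom f g h w = ω
  refine alg_hom_ext f g _ _ fun V => ?_
  rw [algHom_app_eq_appLE]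
  have l : g ⁻¹ᵁ V.1 ≤ h ⁻¹ᵁ (f ⁻¹ᵁ V.1) := by rw [← w]; exact le_rfl
  have e1 := ι_comp_eq_toSpecΓ h (V.2.preimage f) _ l
  rw [hι V] at e1
  have e2 := (cancel_mono _).mp (by simpa only [← Category.assoc] using e1)
  exact (toSpecΓ_SpecMap_inj _ _ _ e2).symm

end Groth.Agent.H18
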