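import Mathlib.CategoryTheory.Adjunction.Basic
import Mathlib.CategoryTheory.Iso

set_option autoImplicit false
universe v₁ v₂ v₃ v₄ u₁ u₂ u₃ u₄

namespace Groth.Agent.H18

open CategoryTheory

variable {A : Type u₁} [Category.{v₁} A] {B : Type u₂} [Category.{v₂} B]
  {A' : Type u₃} [Category.{v₃} A'] {B' : Type u₄} [Category.{v₄} B']
  {Rf : A ⥤ B} {Rf' : A' ⥤ B'} {Rg : B' ⥤ B} {Rg' : A' ⥤ A}
  {a : B ⥤ A} {a' : B' ⥤ A'} {Lg : B ⥤ B'} {Lg' : A ⥤ A'}

/-- abstract `xi` -/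
def xiF (adj : Rf ⊣ a) (adj' : Rf' ⊣ a') (e : Rg' ⋙ Rf ≅ Rf' ⋙ Rg) (M : B') :
    Rg'.obj (a'.obj M) ⟶ a.obj (Rg.obj M) :=
  (adj.homEquiv _ _) (e.hom.app (a'.obj M) ≫ Rg.map (adj'.counit.app M))

/-- abstract `bcMap` -/
noncomputable def bcMapF (adj : Rf ⊣ a) (adj' : Rf' ⊣ a') (e : Rg' ⋙ Rf ≅ Rf' ⋙ Rg)
    (adjg : Lg ⊣ Rg) (adjg' : Lg' ⊣ Rg') (K : B) (hξ : IsIso (xiF adj adj' e (Lg.obj K))) :
    Lg'.obj (a.obj K) ⟶ a'.obj (Lg.obj K) :=
  haveI := hξ
  Lg'.map (a.map (adjg.unit.app K)) ≫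
    Lg'.map (inv (xiF adj adj' e (Lg.obj K))) ≫ adjg'.counit.app (a'.obj (Lg.obj K))

/-- abstract `bcPush` -/
def bcPushF (e : Rg' ⋙ Rf ≅ Rf' ⋙ Rg) (adjg : Lg ⊣ Rg) (adjg' : Lg' ⊣ Rg') (K : A) :
    Lg.obj (Rf.obj K) ⟶ Rf'.obj (Lg'.obj K) :=
  (adjg.homEquiv _ _).symm (Rf.map (adjg'.unit.app K) ≫ e.hom.app (Lg'.obj K))

lemma xiF_counit (adj : Rf ⊣ a) (adj' : Rf' ⊣ a') (e : Rg' ⋙ Rf ≅ Rf' ⋙ Rg) (M : B') :
    Rf.map (xiF adj adj' e M) ≫ adj.counit.app (Rg.obj M) =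
      e.hom.app (a'.obj M) ≫ Rg.map (adj'.counit.app M) := by
  have := (adj.homEquiv _ _).symm_apply_apply (e.hom.app (a'.obj M) ≫ Rg.map (adj'.counit.app M))
  rw [Adjunction.homEquiv_counit] at this
  exact this

lemma xiF_naturality (adj : Rf ⊣ a) (adj' : Rf' ⊣ a') (e : Rg' ⋙ Rf ≅ Rf' ⋙ Rg)
    {M N : B'} (φ : M ⟶ N) :
    Rg'.map (a'.map φ) ≫ xiF adj adj' e N = xiF adj adj' e M ≫ a.map (Rg.map φ) := by
  unfold xiF
  rw [← Adjunction.homEquiv_naturality_left, ← Adjunction.homEquiv_naturality_right]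
  congr 1
  have h1 := e.hom.naturality (a'.map φ)
  simp only [Functor.comp_map] at h1
  rw [← Category.assoc, h1, Category.assoc, Category.assoc, ← Rg.map_comp, ← Rg.map_comp]
  congr 2
  exact adj'.counit.naturality φ

lemma homEquiv_bcMapF (adj : Rf ⊣ a) (adj' : Rf' ⊣ a') (e : Rg' ⋙ Rf ≅ Rf' ⋙ Rg)
    (adjg : Lg ⊣ Rg) (adjg' : Lg' ⊣ Rg') (K : B) (hξ : IsIso (xiF adj adj' e (Lg.obj K))) :
    adjg'.unit.app (a.obj K) ≫ Rg'.map (bcMapF adj adj' e adjg adjg' K hξ) =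
      a.map (adjg.unit.app K) ≫ inv (xiF adj adj' e (Lg.obj K)) := by
  unfold bcMapF
  have := (adjg'.homEquiv _ _).apply_symm_apply
    (a.map (adjg.unit.app K) ≫ inv (xiF adj adj' e (Lg.obj K)))
  rw [Adjunction.homEquiv_counit, Adjunction.homEquiv_unit] at this
  simp only [Functor.map_comp, Category.assoc, Functor.id_obj] at this ⊢
  exact this

lemma homEquiv_bcPushF (e : Rg' ⋙ Rf ≅ Rf' ⋙ Rg) (adjg : Lg ⊣ Rg) (adjg' : Lg' ⊣ Rg') (K : A) :
    adjg.unit.app (Rf.obj K) ≫ Rg.map (bcPushF e adjg adjg' K) =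
      Rf.map (adjg'.unit.app K) ≫ e.hom.app (Lg'.obj K) := by
  unfold bcPushF
  have := (adjg.homEquiv _ _).apply_symm_apply
    (Rf.map (adjg'.unit.app K) ≫ e.hom.app (Lg'.obj K))
  rw [Adjunction.homEquiv_unit] at this
  exact this

/-- trace compatibility (abstract S3653) -/
theorem trace_bc (adj : Rf ⊣ a) (adj' : Rf' ⊣ a') (e : Rg' ⋙ Rf ≅ Rf' ⋙ Rg)
    (adjg : Lg ⊣ Rg) (adjg' : Lg' ⊣ Rg') (K : B) (hξ : IsIso (xiF adj adj' e (Lg.obj K))) :
    bcPushF e adjg adjg' (a.obj K) ≫ Rf'.map (bcMapF adj adj' e adjg adjg' K hξ) ≫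
      adj'.counit.app (Lg.obj K) = Lg.map (adj.counit.app K) := by
  apply (adjg.homEquiv _ _).injective
  rw [Adjunction.homEquiv_unit, Adjunction.homEquiv_unit, Functor.map_comp, Functor.map_comp,
    ← Category.assoc, homEquiv_bcPushF, Category.assoc]
  have h1 := e.hom.naturality (bcMapF adj adj' e adjg adjg' K hξ)
  simp only [Functor.comp_map] at h1
  rw [← Category.assoc (e.hom.app _), ← h1, Category.assoc, ← xiF_counit adj adj' e]
  rw [← Category.assoc, ← Category.assoc, ← Functor.map_comp, ← Functor.map_comp,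
    homEquiv_bcMapF, Category.assoc, IsIso.inv_hom_id, Category.comp_id]
  have h2 := adj.counit.naturality (adjg.unit.app K)
  simp only [Functor.comp_map, Functor.id_map, Functor.comp_obj, Functor.id_obj] at h2
  rw [h2]
  have h3 := adjg.unit.naturality (adj.counit.app K)
  simp only [Functor.comp_map, Functor.id_map] at h3
  simp only [Functor.comp_obj, Functor.id_obj] at h3 ⊢
  exact h3

/-- unit compatibility (abstract S3654) -/
theorem unit_bc (adj : Rf ⊣ a) (adj' : Rf' ⊣ a') (e : Rg' ⋙ Rf ≅ Rf' ⋙ Rg)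
    (adjg : Lg ⊣ Rg) (adjg' : Lg' ⊣ Rg') (M : A)
    (hξ : IsIso (xiF adj adj' e (Lg.obj (Rf.obj M))))
    (hξ' : IsIso (xiF adj adj' e (Rf'.obj (Lg'.obj M)))) :
    adj'.unit.app (Lg'.obj M) =
      Lg'.map (adj.unit.app M) ≫ bcMapF adj adj' e adjg adjg' (Rf.obj M) hξ ≫
        a'.map (bcPushF e adjg adjg' M) := by
  apply (adjg'.homEquiv _ _).injective
  rw [Adjunction.homEquiv_unit, Adjunction.homEquiv_unit]
  simp only [Functor.map_comp]
  have h0 := adjg'.unit.naturality (adj.unit.app M)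
  simp only [Functor.comp_map, Functor.id_map, Functor.comp_obj, Functor.id_obj] at h0
  rw [← Category.assoc, ← h0, Category.assoc, ← Category.assoc (adjg'.unit.app _),
    homEquiv_bcMapF, Category.assoc]
  -- move `inv ξ` past
  have hnat : inv (xiF adj adj' e (Lg.obj (Rf.obj M))) ≫ Rg'.map (a'.map (bcPushF e adjg adjg' M))
      = a.map (Rg.map (bcPushF e adjg adjg' M)) ≫ inv (xiF adj adj' e (Rf'.obj (Lg'.obj M))) := by
    rw [IsIso.inv_comp_eq, ← Category.assoc, IsIso.eq_comp_inv]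
    exact xiF_naturality adj adj' e _
  rw [hnat, ← Category.assoc (a.map _), ← a.map_comp, homEquiv_bcPushF]
  rw [← Category.assoc, IsIso.eq_comp_inv]
  -- now both sides explicit
  unfold xiF
  rw [Adjunction.homEquiv_unit]
  simp only [Functor.map_comp, Category.assoc]
  have h1 := adj.unit.naturality (adjg'.unit.app M)
  simp only [Functor.comp_map, Functor.id_map] at h1
  have h2 := adj.unit.naturality (Rg'.map (adj'.unit.app (Lg'.obj M)))
  simp only [Functor.comp_map, Functor.id_map] at h2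
  simp only [Functor.comp_obj, Functor.id_obj] at h1 h2 ⊢
  rw [← Category.assoc (adj.unit.app M), ← h1, Category.assoc]
  congr 1
  rw [← Category.assoc (Rg'.map _), h2, Category.assoc]
  congr 1
  rw [← a.map_comp, ← a.map_comp]
  congr 1
  have h3 := e.hom.naturality (adj'.unit.app (Lg'.obj M))
  simp only [Functor.comp_map, Functor.comp_obj, Functor.id_obj] at h3
  rw [← Category.assoc, h3, Category.assoc, ← Rg.map_comp]
  have h5 := adj'.left_triangle_components (Lg'.obj M)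
  rw [h5, Rg.map_id, Category.comp_id]

end Groth.Agent.H18
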