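import Groth.Agent.Lead.Coh.CechExplicit

/-!
An abstract contraction of Čech complexes by "Laurent coefficient" functionals (helper18).

Sections of the presheaf `P` over the Čech opens `U_σ` are described faithfully by coefficient
families `c σ s : I → G`, compatible with restriction; the coefficient `a` can be nonzero over
`U_σ` only if `N a ⊆ range σ`, and every finitely supported family satisfying this condition
occurs.  If every relevant index `a` misses some member of the cover (`j a ∉ N a`), the Čech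
complex is contractible in the given degree (the homotopy inserts `j a` in front).
-/

set_option autoImplicit false
open CategoryTheory Opposite Limits TopologicalSpace
universe u w w'

namespace Groth.Agent.H18.CechContract

open Groth.Agent.Lead.Cech

variable {X : Type u} [TopologicalSpace X] {ι : Type u} (U : ι → Opens X)
  (P : (Opens X)ᵒᵖ ⥤ AddCommGrpCat.{u})

/-- A system of coefficient functionals on the sections of `P` over the Čech opens. -/
structure CoeffSystem (I : Type w) (G : Type w') [AddCommGroup G] where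
  /-- the coefficient family of a section -/
  c : ∀ {p : ℕ} (σ : Fin (p + 1) → ι), (P.obj (op (cechOpen U σ)) : Type u) →+ (I → G)
  /-- the members of the cover which must occur in `σ` for the coefficient to be allowed -/
  N : I → Set ι
  /-- an extra condition on the indices -/
  good : I → Prop
  res : ∀ {p : ℕ} (σ : Fin (p + 2) → ι) (k : Fin (p + 2))
    (s : (P.obj (op (cechOpen U (σ ∘ k.succAbove))) : Type u)),
    c σ (P.map (homOfLE (cechOpen_le_face U σ k)).op s) = c (σ ∘ k.succAbove) s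
  inj : ∀ {p : ℕ} (σ : Fin (p + 1) → ι) (s : (P.obj (op (cechOpen U σ)) : Type u)),
    c σ s = 0 → s = 0
  supp : ∀ {p : ℕ} (σ : Fin (p + 1) → ι) (s : (P.obj (op (cechOpen U σ)) : Type u)) (a : I),
    c σ s a ≠ 0 → good a ∧ N a ⊆ Set.range σ
  fin : ∀ {p : ℕ} (σ : Fin (p + 1) → ι) (s : (P.obj (op (cechOpen U σ)) : Type u)),
    (Function.support (c σ s)).Finite
  surj : ∀ {p : ℕ} (σ : Fin (p + 1) → ι) (L : I → G), (Function.support L).Finite →
    (∀ a, L a ≠ 0 → good a ∧ N a ⊆ Set.range σ) →
    ∃ s : (P.obj (op (cechOpen U σ)) : Type u), c σ s = L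

variable {U P}

theorem cons_comp_succAbove_zero {p : ℕ} (i : ι) (σ : Fin (p + 2) → ι) :
    (Fin.cons i σ : Fin (p + 3) → ι) ∘ (0 : Fin (p + 3)).succAbove = σ := by
  funext m
  simp [Fin.succAbove_zero]

theorem cons_comp_succAbove_succ {p : ℕ} (i : ι) (σ : Fin (p + 2) → ι) (k : Fin (p + 2)) :
    (Fin.cons i σ : Fin (p + 3) → ι) ∘ (k.succ).succAbove =
      (Fin.cons i (σ ∘ k.succAbove) : Fin (p + 2) → ι) := by
  funext m
  refine Fin.cases ?_ (fun m' => ?_) m
  · simp
  · simp [Fin.succ_succAbove_succ]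

theorem exists_d_eq [Finite ι] {I : Type w} {G : Type w'} [AddCommGroup G]
    (S : CoeffSystem U P I G) (p : ℕ)
    (hj : ∀ a, S.good a → (∃ σ : Fin (p + 2) → ι, S.N a ⊆ Set.range σ) → ∃ i, i ∉ S.N a)
    (x : (K U P).X (p + 1)) (hx : (K U P).d (p + 1) (p + 2) x = 0) :
    ∃ y : (K U P).X p, (K U P).d p (p + 1) y = x := by
  classical
  rcases isEmpty_or_nonempty ι with hι | hι
  · refine ⟨0, ?_⟩
    apply ext_elem
    intro σ
    exact (hι.false (σ 0)).elim
  let j : I → ι := fun a => if h : ∃ i, i ∉ S.N a then h.choose else Classical.arbitrary ι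
  have hjspec : ∀ a, (∃ i, i ∉ S.N a) → j a ∉ S.N a := by
    intro a h
    simp only [j, dif_pos h]
    exact h.choose_spec
  let cx : (Fin (p + 2) → ι) → I → G := fun σ => S.c σ (proj U P (p + 1) σ x)
  let L : (Fin (p + 1) → ι) → I → G := fun τ a => cx (Fin.cons (j a) τ) a
  have hLfin : ∀ τ, (Function.support (L τ)).Finite := by
    intro τ
    refine Set.Finite.subset (Set.finite_iUnion (fun i : ι => S.fin (Fin.cons i τ)
      (proj U P (p + 1) (Fin.cons i τ) x))) ?_
    intro a ha
    exact Set.mem_iUnion.mpr ⟨j a, ha⟩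
  have hLsupp : ∀ τ a, L τ a ≠ 0 → S.good a ∧ S.N a ⊆ Set.range τ := by
    intro τ a ha
    obtain ⟨hg, hN⟩ := S.supp (Fin.cons (j a) τ) _ a ha
    have hja : j a ∉ S.N a := hjspec a (hj a hg ⟨_, hN⟩)
    refine ⟨hg, fun i hi => ?_⟩
    obtain ⟨k, hk⟩ := hN hi
    revert hk
    refine Fin.cases ?_ (fun k' => ?_) k
    · intro hk
      rw [Fin.cons_zero] at hk
      exact absurd (hk ▸ hi) hja
    · intro hk
      rw [Fin.cons_succ] at hk
      exact ⟨k', hk⟩
  choose yτ hyτ using fun τ => S.surj τ (L τ) (hLfin τ) (hLsupp τ)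
  refine ⟨(coords U P p).symm yτ, ?_⟩
  apply ext_elem
  intro σ
  rw [d_apply]
  simp only [proj_coords_symm]
  -- compare coefficients
  have hsub : ∀ s t : (P.obj (op (cechOpen U σ)) : Type u), S.c σ s = S.c σ t → s = t := by
    intro s t h
    have : S.c σ (s - t) = 0 := by rw [map_sub, h, sub_self]
    exact sub_eq_zero.mp (S.inj σ _ this)
  apply hsub
  rw [map_sum]
  funext a
  rw [Finset.sum_apply]
  have h1 : ∀ k : Fin (p + 2), S.c σ ((-1 : ℤ) ^ (k : ℕ) •
      P.map (homOfLE (cechOpen_le_face U σ k)).op (yτ (σ ∘ k.succAbove))) a =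
      (-1 : ℤ) ^ (k : ℕ) • cx (Fin.cons (j a) (σ ∘ k.succAbove)) a := by
    intro k
    rw [map_zsmul, S.res, hyτ]
    rfl
  rw [Finset.sum_congr rfl (fun k _ => h1 k)]
  -- the cocycle condition at `cons (j a) σ`
  have hc := congrArg (fun z => S.c (Fin.cons (j a) σ : Fin (p + 3) → ι)
    (proj U P (p + 2) (Fin.cons (j a) σ) z) a) hx
  simp only [d_apply, map_zero, map_sum, Finset.sum_apply, map_zsmul, S.res, Pi.smul_apply,
    Pi.zero_apply] at hc
  rw [Fin.sum_univ_succ] at hc
  have h0 : S.c ((Fin.cons (j a) σ : Fin (p + 3) → ι) ∘ (0 : Fin (p + 3)).succAbove)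
      (proj U P (p + 1) ((Fin.cons (j a) σ : Fin (p + 3) → ι) ∘ (0 : Fin (p + 3)).succAbove) x) a =
      cx σ a := by
    rw [cons_comp_succAbove_zero]
  have h2 : ∀ k : Fin (p + 2),
      S.c ((Fin.cons (j a) σ : Fin (p + 3) → ι) ∘ (k.succ).succAbove)
        (proj U P (p + 1) ((Fin.cons (j a) σ : Fin (p + 3) → ι) ∘ (k.succ).succAbove) x) a =
      cx (Fin.cons (j a) (σ ∘ k.succAbove)) a := by
    intro k
    rw [cons_comp_succAbove_succ]
  rw [h0, Finset.sum_congr rfl (fun k _ => by rw [h2 k])] at hc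
  simp only [Fin.val_zero, pow_zero, one_smul, Fin.val_succ, pow_succ, mul_neg, mul_one,
    neg_smul, Finset.sum_neg_distrib] at hc
  exact (add_neg_eq_zero.mp hc).symm
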