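import Mathlib.AlgebraicGeometry.Gluing
import Mathlib.AlgebraicGeometry.OpenImmersion

set_option autoImplicit false
universe u

open AlgebraicGeometry CategoryTheory CategoryTheory.Limits

namespace Groth.Agent.H18

/-- Gluing morphisms along an open cover in which every pairwise intersection of members is again
(the image of) a member, compatibly with the morphisms to glue. -/
theorem existsUnique_glue {E T : Scheme.{u}} (𝒰 : E.OpenCover) (g : ∀ i, 𝒰.X i ⟶ T)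
    (H : ∀ i j, ∃ (k : 𝒰.I₀) (a : 𝒰.X k ⟶ 𝒰.X i) (b : 𝒰.X k ⟶ 𝒰.X j),
      a ≫ 𝒰.f i = 𝒰.f k ∧ b ≫ 𝒰.f j = 𝒰.f k ∧
      Set.range (𝒰.f k) = Set.range (𝒰.f i) ∩ Set.range (𝒰.f j) ∧ a ≫ g i = b ≫ g j) :
    ∃! π : E ⟶ T, ∀ i, 𝒰.f i ≫ π = g i := by
  have hcompat : ∀ i j, pullback.fst (𝒰.f i) (𝒰.f j) ≫ g i = pullback.snd _ _ ≫ g j := by
    intro i j
    obtain ⟨k, a, b, ha, hb, hr, hab⟩ := H i j
    have hrange : Set.range (𝒰.f k) = Set.range (pullback.fst (𝒰.f i) (𝒰.f j) ≫ 𝒰.f i) := by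
      rw [IsOpenImmersion.range_pullback_to_base_of_left, hr]
    let e := IsOpenImmersion.isoOfRangeEq (𝒰.f k) (pullback.fst (𝒰.f i) (𝒰.f j) ≫ 𝒰.f i) hrange
    have he : e.hom ≫ pullback.fst (𝒰.f i) (𝒰.f j) ≫ 𝒰.f i = 𝒰.f k :=
      IsOpenImmersion.isoOfRangeEq_hom_fac _ _ _
    have h1 : e.hom ≫ pullback.fst (𝒰.f i) (𝒰.f j) = a := by
      rw [← cancel_mono (𝒰.f i), Category.assoc, he, ha]
    have h2 : e.hom ≫ pullback.snd (𝒰.f i) (𝒰.f j) = b := by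
      rw [← cancel_mono (𝒰.f j), Category.assoc, ← pullback.condition, he, hb]
    rw [← cancel_epi e.hom, ← Category.assoc, ← Category.assoc, h1, h2, hab]
  refine ⟨𝒰.glueMorphisms g hcompat, fun i => 𝒰.ι_glueMorphisms g hcompat i, ?_⟩
  intro π' hπ'
  refine 𝒰.hom_ext _ _ fun i => ?_
  rw [hπ' i, 𝒰.ι_glueMorphisms g hcompat i]

end Groth.Agent.H18
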