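import Groth.Prelude.Def_Cone
import Groth.Agent.H18.Glue
import Groth.Agent.H18.ProjBasic

set_option autoImplicit false
universe u

open AlgebraicGeometry CategoryTheory CategoryTheory.Limits HomogeneousLocalization

namespace Groth.Agent.H18

section

variable {R A : Type u} [CommRing R] [CommRing A] [Algebra R A] {𝒜 : ℕ → Submodule R A} [GradedAlgebra 𝒜]

omit [Algebra R A] in
theorem isUnit_algebraMap_of_eq_mul {f g x : A} (hx : x = f * g) :
    IsUnit (algebraMap A (Localization.Away x) f) :=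
  isUnit_of_dvd_unit (map_dvd _ ⟨g, hx⟩) (IsLocalization.Away.algebraMap_isUnit x)

/-- The localization map `A_f → A_x` for `x = f * g`. -/
noncomputable def locMap {f g x : A} (hx : x = f * g) : Localization.Away f →+* Localization.Away x :=
  Localization.awayLift (algebraMap A (Localization.Away x)) f (isUnit_algebraMap_of_eq_mul hx)

omit [Algebra R A] in
theorem locMap_comp_algebraMap {f g x : A} (hx : x = f * g) :
    (locMap hx).comp (algebraMap A (Localization.Away f)) = algebraMap A (Localization.Away x) :=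
  IsLocalization.Away.lift_comp f (isUnit_algebraMap_of_eq_mul hx)

theorem locMap_comp_val {e : ℕ} {f g x : A} (hg : g ∈ 𝒜 e) (hx : x = f * g) :
    (locMap hx).comp (algebraMap (Away 𝒜 f) (Localization.Away f)) =
      (algebraMap (Away 𝒜 x) (Localization.Away x)).comp (awayMap 𝒜 hg hx) := by
  ext a
  simp only [RingHom.comp_apply, HomogeneousLocalization.algebraMap_apply]
  exact (val_awayMap 𝒜 hg hx a).symm

@[reassoc]
theorem cone_chart_ι {d : ℕ} {f : A} (hf : f ∈ 𝒜 d) (hd : 0 < d) :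
    Cone.chart hf hd ≫ (Cone.pointed 𝒜).ι =
      Spec.map (CommRingCat.ofHom (algebraMap A (Localization.Away f))) :=
  IsOpenImmersion.lift_fac _ _ _

instance isOpenImmersion_cone_chart {d : ℕ} {f : A} (hf : f ∈ 𝒜 d) (hd : 0 < d) :
    IsOpenImmersion (Cone.chart hf hd) := by
  have : IsOpenImmersion (Cone.chart hf hd ≫ (Cone.pointed 𝒜).ι) := by
    rw [cone_chart_ι]
    infer_instance
  exact IsOpenImmersion.of_comp _ (Cone.pointed 𝒜).ι

theorem range_cone_chart {d : ℕ} {f : A} (hf : f ∈ 𝒜 d) (hd : 0 < d) :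
    Set.range (Cone.chart hf hd) =
      ((Cone.pointed 𝒜).ι ⁻¹ᵁ Cone.coneOpen f : Set (Cone.pointed 𝒜 : Scheme.{u})) := by
  ext x
  have hr : ((Cone.pointed 𝒜).ι x ∈ Cone.coneOpen f) ↔
      (Cone.pointed 𝒜).ι x ∈
        Set.range (Spec.map (CommRingCat.ofHom (algebraMap A (Localization.Away f)))) := by
    change _ ∈ (PrimeSpectrum.basicOpen f : Set (PrimeSpectrum A)) ↔ _
    rw [← PrimeSpectrum.localization_away_comap_range (Localization.Away f) f]
    rfl
  change _ ↔ (Cone.pointed 𝒜).ι x ∈ Cone.coneOpen f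
  rw [hr]
  constructor
  · rintro ⟨y, rfl⟩
    refine ⟨y, ?_⟩
    rw [← cone_chart_ι hf hd]
    rfl
  · rintro ⟨y, hy⟩
    refine ⟨y, (Cone.pointed 𝒜).ι.isOpenEmbedding.injective ?_⟩
    rw [← hy, ← cone_chart_ι hf hd]
    rfl

/-- The index type of the standard charts of the pointed cone. -/
abbrev ConeIdx (𝒜 : ℕ → Submodule R A) : Type u := Σ d : ℕ, {f : A // 0 < d ∧ f ∈ 𝒜 d}

variable (𝒜) in
/-- The standard charts form an open cover of the pointed affine cone. -/
noncomputable def coneCover : (Cone.pointed 𝒜 : Scheme.{u}).OpenCover :=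
  Scheme.Cover.mkOfCovers (ConeIdx 𝒜)
    (fun j => Spec (CommRingCat.of (Localization.Away j.2.1)))
    (fun j => Cone.chart j.2.2.2 j.2.2.1)
    (by
      intro x
      have hx : ¬ ((HomogeneousIdeal.irrelevant 𝒜).toIdeal : Set A) ⊆
          ((x.1 : PrimeSpectrum A).asIdeal : Set A) := x.2
      rw [SetLike.coe_subset_coe, HomogeneousIdeal.toIdeal_irrelevant_le] at hx
      push Not at hx
      obtain ⟨d, hd, hle⟩ := hx
      obtain ⟨f, hf', hfx⟩ := Set.not_subset.mp hle
      have hf : f ∈ 𝒜 d := hf'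
      have hd : 0 < d := hd
      have : x ∈ Set.range (Cone.chart (𝒜 := 𝒜) hf hd) := by
        rw [range_cone_chart]
        exact hfx
      obtain ⟨y, hy⟩ := this
      exact ⟨⟨d, f, hd, hf⟩, y, hy⟩)
    (fun j => isOpenImmersion_cone_chart j.2.2.2 j.2.2.1)


/-- The chartwise morphisms of the pointed cone to `Proj 𝒜` are compatible with passing to a smaller chart. -/
theorem cone_compat {d e : ℕ} {f g : A} (hf : f ∈ 𝒜 d) (hd : 0 < d) (hg : g ∈ 𝒜 e) {x : A}
    (hx : x = f * g) {k : ℕ} (hk : d + e = k) (hxmem : x ∈ 𝒜 k) (hpos : 0 < k) :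
    Spec.map (CommRingCat.ofHom (locMap hx)) ≫
      Spec.map (CommRingCat.ofHom (algebraMap (Away 𝒜 f) (Localization.Away f))) ≫
        Proj.awayι 𝒜 f hf hd =
    Spec.map (CommRingCat.ofHom (algebraMap (Away 𝒜 x) (Localization.Away x))) ≫
      Proj.awayι 𝒜 x hxmem hpos := by
  subst hk
  rw [← Spec.map_comp_assoc, ← CommRingCat.ofHom_comp, locMap_comp_val hg hx,
    CommRingCat.ofHom_comp, Spec.map_comp_assoc, Proj.SpecMap_awayMap_awayι 𝒜 hf hd hg hx]

theorem locMap_chart {d : ℕ} {f g : A} (hf : f ∈ 𝒜 d) (hd : 0 < d) {x : A}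
    (hx : x = f * g) {k : ℕ} (hxmem : x ∈ 𝒜 k) (hpos : 0 < k) :
    Spec.map (CommRingCat.ofHom (locMap hx)) ≫ Cone.chart hf hd = Cone.chart hxmem hpos := by
  rw [← cancel_mono (Cone.pointed 𝒜).ι, Category.assoc, cone_chart_ι, cone_chart_ι,
    ← Spec.map_comp, ← CommRingCat.ofHom_comp, locMap_comp_algebraMap]

variable (𝒜) in
/-- Existence and uniqueness of the canonical retraction of the pointed affine cone onto `Proj`. -/
theorem existsUnique_cone_retraction :
    ∃! π : (Cone.pointed 𝒜 : Scheme.{u}) ⟶ Proj 𝒜,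
      ∀ (d : ℕ) (f : A) (hd : 0 < d) (hf : f ∈ 𝒜 d),
        Cone.chart hf hd ≫ π =
          Spec.map (CommRingCat.ofHom (algebraMap (Away 𝒜 f) (Localization.Away f))) ≫
            Proj.awayι 𝒜 f hf hd := by
  have key := existsUnique_glue (coneCover 𝒜)
    (fun j => Spec.map (CommRingCat.ofHom (algebraMap (Away 𝒜 j.2.1) (Localization.Away j.2.1))) ≫
      Proj.awayι 𝒜 j.2.1 j.2.2.2 j.2.2.1) ?_
  · obtain ⟨p, hp, huniq⟩ := key
    refine ⟨p, fun d f hd hf => hp ⟨d, f, hd, hf⟩, fun p' hp' => huniq p' fun j => ?_⟩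
    exact hp' j.1 j.2.1 j.2.2.1 j.2.2.2
  · rintro ⟨d, f, hd, hf⟩ ⟨e, g, he, hg⟩
    have hfg : f * g ∈ 𝒜 (d + e) := SetLike.mul_mem_graded hf hg
    have hgf : f * g = g * f := mul_comm f g
    have hpos : 0 < d + e := by omega
    refine ⟨⟨d + e, f * g, hpos, hfg⟩,
      Spec.map (CommRingCat.ofHom (locMap (rfl : f * g = f * g))),
      Spec.map (CommRingCat.ofHom (locMap hgf)), ?_, ?_, ?_, ?_⟩
    · exact locMap_chart hf hd rfl hfg hpos
    · exact locMap_chart hg he hgf hfg hpos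
    · change Set.range (Cone.chart hfg hpos) =
        Set.range (Cone.chart hf hd) ∩ Set.range (Cone.chart hg he)
      rw [range_cone_chart, range_cone_chart, range_cone_chart]
      ext y
      change (Cone.pointed 𝒜).ι y ∈ (PrimeSpectrum.basicOpen (f * g) : Set (PrimeSpectrum A)) ↔
        (Cone.pointed 𝒜).ι y ∈ (PrimeSpectrum.basicOpen f : Set (PrimeSpectrum A)) ∧
        (Cone.pointed 𝒜).ι y ∈ (PrimeSpectrum.basicOpen g : Set (PrimeSpectrum A))
      rw [PrimeSpectrum.basicOpen_mul]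
      rfl
    · exact (cone_compat hf hd hg rfl rfl hfg hpos).trans
        (cone_compat hg he hf hgf (by omega) hfg hpos).symm


section Retraction

variable (π : (Cone.pointed 𝒜 : Scheme.{u}) ⟶ Proj 𝒜)
  (hπ : ∀ (d : ℕ) (f : A) (hd : 0 < d) (hf : f ∈ 𝒜 d),
    Cone.chart hf hd ≫ π =
      Spec.map (CommRingCat.ofHom (algebraMap (Away 𝒜 f) (Localization.Away f))) ≫
        Proj.awayι 𝒜 f hf hd)

omit [Algebra R A] in
theorem mk_pow_mem_iff {d e : ℕ} (g f : A) (he : 0 < e) (h : g ^ d ∈ Submonoid.powers g)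
    (y : Ideal (Localization.Away g)) [y.IsPrime] :
    (Localization.mk (f ^ e) ⟨g ^ d, h⟩ : Localization.Away g) ∈ y ↔
      algebraMap A (Localization.Away g) f ∈ y := by
  have h1 : (Localization.mk (f ^ e) ⟨g ^ d, h⟩ : Localization.Away g) *
      algebraMap A (Localization.Away g) (g ^ d) = algebraMap A (Localization.Away g) (f ^ e) := by
    rw [Localization.mk_eq_mk']
    exact IsLocalization.mk'_spec _ (f ^ e) ⟨g ^ d, h⟩
  have h2 : IsUnit (algebraMap A (Localization.Away g) (g ^ d)) := by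
    rw [map_pow]
    exact (IsLocalization.Away.algebraMap_isUnit g).pow d
  constructor
  · intro hm
    have : algebraMap A (Localization.Away g) (f ^ e) ∈ y := h1 ▸ Ideal.mul_mem_right _ _ hm
    rw [map_pow] at this
    exact Ideal.IsPrime.mem_of_pow_mem inferInstance e this
  · intro hm
    have h3 : algebraMap A (Localization.Away g) (f ^ e) ∈ y := by
      rw [map_pow]
      exact Ideal.pow_mem_of_mem _ hm e he
    rw [← h1] at h3
    rcases Ideal.IsPrime.mem_or_mem inferInstance h3 with h4 | h4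
    · exact h4
    · exact absurd (y.eq_top_of_isUnit_mem h4 h2) (Ideal.IsPrime.ne_top inferInstance)

include hπ in
/-- The preimage of `D₊(f)` under the retraction of the pointed cone is `D(f)`. -/
theorem cone_preimage_basicOpen {d : ℕ} {f : A} (hd : 0 < d) (hf : f ∈ 𝒜 d) :
    π ⁻¹ᵁ Proj.basicOpen 𝒜 f = (Cone.pointed 𝒜).ι ⁻¹ᵁ Cone.coneOpen f := by
  ext x
  obtain ⟨⟨e, g, he, hg⟩, y, rfl⟩ := (coneCover 𝒜).exists_eq x
  change (Cone.chart hg he ≫ π) y ∈ Proj.basicOpen 𝒜 f ↔
    (Cone.chart hg he ≫ (Cone.pointed 𝒜).ι) y ∈ Cone.coneOpen f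
  rw [hπ e g he hg, cone_chart_ι]
  change y ∈ (Spec.map (CommRingCat.ofHom (algebraMap (Away 𝒜 g) (Localization.Away g))) ≫
      Proj.awayι 𝒜 g hg he) ⁻¹ᵁ Proj.basicOpen 𝒜 f ↔
    y ∈ Spec.map (CommRingCat.ofHom (algebraMap A (Localization.Away g))) ⁻¹ᵁ
      PrimeSpectrum.basicOpen f
  rw [Scheme.Hom.comp_preimage, Proj.awayι_preimage_basicOpen 𝒜 hg he hf hd,
    SpecMap_preimage_basicOpen, SpecMap_preimage_basicOpen]
  change ¬ (_ ∈ (y : PrimeSpectrum (Localization.Away g)).asIdeal) ↔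
    ¬ (_ ∈ (y : PrimeSpectrum (Localization.Away g)).asIdeal)
  rw [not_iff_not]
  simp only [CommRingCat.hom_ofHom, HomogeneousLocalization.algebraMap_apply, Away.val_mk]
  have : ((y : PrimeSpectrum (Localization.Away g)).asIdeal).IsPrime :=
    (y : PrimeSpectrum (Localization.Away g)).isPrime
  exact mk_pow_mem_iff g f he _ (y : PrimeSpectrum (Localization.Away g)).asIdeal

include hπ in
/-- On points, the retraction of the pointed cone sends a prime to its homogeneous core. -/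
theorem cone_retraction_apply (p : (Cone.pointed 𝒜 : Scheme.{u})) :
    (π p).asHomogeneousIdeal = (((Cone.pointed 𝒜).ι p).asIdeal).homogeneousCore 𝒜 := by
  classical
  set P : Ideal A := ((Cone.pointed 𝒜).ι p).asIdeal with hP
  have hPprime : P.IsPrime := ((Cone.pointed 𝒜).ι p).isPrime
  have key : ∀ (d : ℕ) (f : A), 0 < d → f ∈ 𝒜 d → (f ∈ (π p).asHomogeneousIdeal ↔ f ∈ P) := by
    intro d f hd hf
    have h := cone_preimage_basicOpen π hπ hd hf
    have h' : p ∈ π ⁻¹ᵁ Proj.basicOpen 𝒜 f ↔ p ∈ (Cone.pointed 𝒜).ι ⁻¹ᵁ Cone.coneOpen f := by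
      rw [h]
    have h'' : (f ∉ (π p).asHomogeneousIdeal) ↔ (f ∉ P) := h'
    exact not_iff_not.mp h''
  obtain ⟨i, s, hi, hs, hsp⟩ := exists_pos_homogeneous_notMem 𝒜 (π p)
  have hsP : s ∉ P := fun h => hsp ((key i s hi hs).mpr h)
  have key' : ∀ (k : ℕ) (a : A), a ∈ 𝒜 k → (a ∈ (π p).asHomogeneousIdeal ↔ a ∈ P) := by
    intro k a ha
    have has : a * s ∈ 𝒜 (k + i) := SetLike.mul_mem_graded ha hs
    have h1 := key (k + i) (a * s) (by omega) has
    constructor
    · intro h
      have : a * s ∈ P := h1.mp (Ideal.mul_mem_right _ _ h)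
      rcases hPprime.mem_or_mem this with h2 | h2
      · exact h2
      · exact (hsP h2).elim
    · intro h
      have : a * s ∈ (π p).asHomogeneousIdeal.toIdeal := h1.mpr (Ideal.mul_mem_right _ _ h)
      rcases (π p).isPrime.mem_or_mem this with h2 | h2
      · exact h2
      · exact (hsp h2).elim
  apply HomogeneousIdeal.toIdeal_injective
  ext x
  rw [(π p).asHomogeneousIdeal.isHomogeneous.mem_iff,
    (P.homogeneousCore 𝒜).isHomogeneous.mem_iff]
  refine forall_congr' fun k => ?_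
  have hk : ((DirectSum.decompose 𝒜 x k : 𝒜 k) : A) ∈ 𝒜 k := Subtype.prop _
  constructor
  · intro h
    exact Ideal.mem_homogeneousCore_of_homogeneous_of_mem ⟨k, hk⟩ ((key' k _ hk).mp h)
  · intro h
    exact (key' k _ hk).mpr (Ideal.toIdeal_homogeneousCore_le 𝒜 P h)

end Retraction

end

end Groth.Agent.H18
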