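import Groth.Agent.H18.RestrictRestrict
import Groth.Prelude.Def_Pic

set_option autoImplicit false
universe u

open CategoryTheory CategoryTheory.Limits AlgebraicGeometry TopologicalSpace Opposite

namespace Groth.Agent.H18

variable {R A : Type u} [CommRing R] [CommRing A] [Algebra R A]
variable (𝒜 : ℕ → Submodule R A) [GradedAlgebra 𝒜]

/-- `O(nd)` is invertible on any open of `Proj` covered by the `D₊(f)`, `f` of degree `d` -/
theorem isInvertible_twist_restrict (U : (Proj 𝒜).Opens) (d : ℕ)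
    (hcov : ∀ z : Proj 𝒜, z ∈ U → ∃ f : A, f ∈ 𝒜 d ∧ z ∈ Proj.basicOpen 𝒜 f) (n : ℤ) :
    PicF.IsInvertible ((Twist.twist 𝒜 (n * d)).restrict U.ι) := by
  intro y
  obtain ⟨f, hf, hyf⟩ := hcov y.1 y.2
  let V : (U : Scheme.{u}).Opens := U.ι ⁻¹ᵁ Proj.basicOpen 𝒜 f
  have hyV : y ∈ V := hyf
  have hVle : U.ι ''ᵁ V ≤ Proj.basicOpen 𝒜 f := by
    rintro _ ⟨z, hz, rfl⟩
    exact hz
  have hone : ∀ x : ProjectiveSpectrum 𝒜, x ∈ U.ι ''ᵁ V → (1 : A) ∉ x.asHomogeneousIdeal :=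
    fun x _ h => x.isPrime.ne_top ((Ideal.eq_top_iff_one _).mpr h)
  have hpow : ∀ k : ℕ, ∀ x : ProjectiveSpectrum 𝒜, x ∈ U.ι ''ᵁ V → f ^ k ∉ x.asHomogeneousIdeal :=
    fun k x hx h => hVle hx (x.isPrime.mem_of_pow_mem k h)
  have hpm : ∀ k : ℕ, f ^ k ∈ 𝒜 (k * d) := by
    intro k
    have := SetLike.pow_mem_graded k hf
    simpa [smul_eq_mul] using this
  refine ⟨V, hyV, ?_⟩
  rcases le_or_gt 0 n with hn | hn
  · obtain ⟨k, rfl⟩ := Int.eq_ofNat_of_zero_le hn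
    exact nonempty_twist_restrict_restrict_iso 𝒜 (hpm k)
      (SetLike.GradedOne.one_mem : (1 : A) ∈ 𝒜 0) (by push_cast; ring) U V (hpow k) hone
  · obtain ⟨k, hk⟩ := Int.eq_ofNat_of_zero_le (by omega : 0 ≤ -n)
    have hn' : n = -(k : ℤ) := by omega
    subst hn'
    exact nonempty_twist_restrict_restrict_iso 𝒜
      (SetLike.GradedOne.one_mem : (1 : A) ∈ 𝒜 0) (hpm k) (by push_cast; ring) U V hone (hpow k)

/-- `O(n)` is invertible on `Proj` if it is covered by the `D₊(f)`, `f` of degree one -/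
theorem isInvertible_twist_restrict_one (U : (Proj 𝒜).Opens)
    (hcov : ∀ z : Proj 𝒜, z ∈ U → ∃ f : A, f ∈ 𝒜 1 ∧ z ∈ Proj.basicOpen 𝒜 f) (n : ℤ) :
    PicF.IsInvertible ((Twist.twist 𝒜 n).restrict U.ι) := by
  have := isInvertible_twist_restrict 𝒜 U 1 hcov n
  simpa using this

end Groth.Agent.H18
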