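import Groth.Agent.H18.TwistTensor
import Groth.Agent.H18.SectionHom
import Groth.Agent.H18.TwistInvertible

set_option autoImplicit false
universe u

open CategoryTheory CategoryTheory.Limits AlgebraicGeometry TopologicalSpace Opposite MonoidalCategory

namespace Groth.Agent.H18

section

variable {X : Scheme.{u}}

/-- `tensorMod` is functorial for isomorphisms in the first variable -/
noncomputable def tensorModMapIsoLeft {M M' : X.Modules} (e : M ≅ M') (N : X.Modules) :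
    CohB1.tensorMod M N ≅ CohB1.tensorMod M' N :=
  (CohB1.sheafifyMod X).mapIso
    (show (CohB1.tensorPre M N : X.PresheafOfModules) ≅ CohB1.tensorPre M' N from
      (whiskerRightIso (show CohB1.toPMod M ≅ CohB1.toPMod M' from
        (SheafOfModules.forget X.ringCatSheaf).mapIso e) (CohB1.toPMod N) :
        CohB1.toPMod M ⊗ CohB1.toPMod N ≅ CohB1.toPMod M' ⊗ CohB1.toPMod N))

/-- `tensorMod` is functorial for isomorphisms in the second variable -/
noncomputable def tensorModMapIsoRight (M : X.Modules) {N N' : X.Modules} (e : N ≅ N') :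
    CohB1.tensorMod M N ≅ CohB1.tensorMod M N' :=
  (CohB1.sheafifyMod X).mapIso
    (show (CohB1.tensorPre M N : X.PresheafOfModules) ≅ CohB1.tensorPre M N' from
      (whiskerLeftIso (CohB1.toPMod M) (show CohB1.toPMod N ≅ CohB1.toPMod N' from
        (SheafOfModules.forget X.ringCatSheaf).mapIso e) :
        CohB1.toPMod M ⊗ CohB1.toPMod N ≅ CohB1.toPMod M ⊗ CohB1.toPMod N'))

end

section

variable {R A : Type u} [CommRing R] [CommRing A] [Algebra R A]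
variable (𝒜 : ℕ → Submodule R A) [GradedAlgebra 𝒜]

/-- `O(0)` is the structure sheaf -/
theorem nonempty_twist_zero_iso :
    Nonempty (Twist.twist 𝒜 0 ≅ Coh.structureModule (Proj 𝒜)) := by
  have h1 : ∀ (W : (Proj 𝒜).Opens) (x : ProjectiveSpectrum 𝒜), x ∈ W → (1 : A) ∉ x.asHomogeneousIdeal :=
    fun W x _ => GrMod.one_nin x
  have he : ((0 : ℕ) : ℤ) = ((0 : ℕ) : ℤ) + 0 := by simp
  let σ : Γ(Twist.twist 𝒜 0, (⊤ : (Proj 𝒜).Opens)) :=
    fracTw 𝒜 (SetLike.GradedOne.one_mem : (1 : A) ∈ 𝒜 0) (SetLike.GradedOne.one_mem : (1 : A) ∈ 𝒜 0)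
      he ⊤ (h1 ⊤)
  have hiso : IsIso (sectionHom (Twist.twist 𝒜 0) σ) := by
    rw [Scheme.Modules.Hom.isIso_iff_isIso_app]
    intro V
    rw [ConcreteCategory.isIso_iff_bijective]
    have hfun : (fun r : Γ(Proj 𝒜, V) => (sectionHom (Twist.twist 𝒜 0) σ).app V r) =
        fun r : Γ(Proj 𝒜, V) => r • fracTw 𝒜 (SetLike.GradedOne.one_mem : (1 : A) ∈ 𝒜 0)
          (SetLike.GradedOne.one_mem : (1 : A) ∈ 𝒜 0) he V (h1 V) :=
      funext (fun r => sectionHom_app (Twist.twist 𝒜 0) σ V r)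
    change Function.Bijective (fun r : Γ(Proj 𝒜, V) => (sectionHom (Twist.twist 𝒜 0) σ).app V r)
    rw [hfun]
    exact ⟨smul_fracTw_injective 𝒜 _ _ he V (h1 V) (h1 V),
      smul_fracTw_surjective 𝒜 _ _ he V (h1 V) (h1 V)⟩
  exact ⟨(asIso (sectionHom (Twist.twist 𝒜 0) σ)).symm⟩

/-- `O(n)` is invertible when `Proj` is covered by the `D₊(f)`, `f` of degree one -/
theorem isInvertible_twist
    (hcov : ∀ x : ProjectiveSpectrum 𝒜, ∃ f : A, f ∈ 𝒜 1 ∧ f ∉ x.asHomogeneousIdeal) (n : ℤ) :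
    PicF.IsInvertible (Twist.twist 𝒜 n) := by
  intro y
  obtain ⟨f, hf, hfy⟩ := hcov y
  have hV : ∀ (l : ℕ) (x : ProjectiveSpectrum 𝒜), x ∈ Proj.basicOpen 𝒜 f →
      f ^ l ∉ x.asHomogeneousIdeal :=
    fun l x hx h => hx (x.isPrime.mem_of_pow_mem l h)
  refine ⟨Proj.basicOpen 𝒜 f, hfy, ?_⟩
  exact nonempty_twist_restrict_iso 𝒜 (TwMul.fpow_mem_one 𝒜 hf n.toNat)
    (TwMul.fpow_mem_one 𝒜 hf (-n).toNat) (by omega) _ (hV _) (hV _)

/-- `O(n) ≅ O(1)^{⊗ n}` -/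
theorem nonempty_twist_iso_tensorPow
    (hcov : ∀ x : ProjectiveSpectrum 𝒜, ∃ f : A, f ∈ 𝒜 1 ∧ f ∉ x.asHomogeneousIdeal) (n : ℕ) :
    Nonempty (Twist.twist 𝒜 (n : ℤ) ≅ CohB1.tensorPow (Twist.twist 𝒜 1) n) := by
  induction n with
  | zero => exact nonempty_twist_zero_iso 𝒜
  | succ n ih =>
    obtain ⟨e⟩ := ih
    obtain ⟨e'⟩ := TwMul.nonempty_tensorMod_tilde_twist_iso 𝒜 𝒜 hcov (n : ℤ) 1 ((n + 1 : ℕ) : ℤ)
      (by push_cast; ring)
    exact ⟨(show CohB1.tensorMod (Twist.twist 𝒜 (n : ℤ)) (Twist.twist 𝒜 1) ≅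
      Twist.twist 𝒜 ((n + 1 : ℕ) : ℤ) from e').symm ≪≫ tensorModMapIsoLeft e (Twist.twist 𝒜 1)⟩

end

end Groth.Agent.H18
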