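import Groth.Agent.H18.FTypeCriterion
import Groth.Agent.H18.EpiLocSurj

set_option autoImplicit false
universe u
open CategoryTheory Limits Opposite AlgebraicGeometry TopologicalSpace

namespace Groth.Agent.H18

variable {X : Scheme.{u}}

theorem exists_local_generators_of_isFiniteType (M : X.Modules)
    (h : SheafOfModules.IsFiniteType (R := X.ringCatSheaf) M) :
    ∃ (ι : Type u) (U : ι → X.Opens) (_ : IsOpenCover U) (σ : ι → Type u) (_ : ∀ i, Finite (σ i))
      (s : ∀ i, σ i → Γ(M, U i)),
      ∀ i (V : X.Opens) (hV : V ≤ U i) (t : Γ(M, V)) (x : X), x ∈ V →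
        ∃ (W : X.Opens) (hW : W ≤ V), x ∈ W ∧
          mres M hW t ∈ Submodule.span Γ(X, W) (Set.range fun j => mres M (hW.trans hV) (s i j)) := by
  obtain ⟨D, hD⟩ := h.exists_localGeneratorsData
  have hcov : IsOpenCover D.X := (_root_.Opens.coversTop_iff _ D.X).mp D.coversTop
  refine ⟨D.I, D.X, hcov, fun i => (D.generators i).I, fun i => (hD.isFiniteType i).finite,
    fun i j => PresheafOfModules.sections.eval ((D.generators i).s j) (op (Over.mk (𝟙 (D.X i)))), ?_⟩
  intro i V hV t x hx
  obtain ⟨S, hS, hS'⟩ := exists_cover_mem_span_of_epi (M.over (D.X i)) (D.generators i).s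
    (Over.mk (homOfLE hV)) t
  rw [GrothendieckTopology.mem_over_iff] at hS
  obtain ⟨W, f, hf, hxW⟩ := hS x hx
  rw [Sieve.overEquiv_iff] at hf
  refine ⟨W, leOfHom f, hxW, ?_⟩
  have := hS' _ hf
  have hev : ∀ j, PresheafOfModules.sections.eval ((D.generators i).s j)
      (op (Over.mk (f ≫ (Over.mk (homOfLE hV)).hom))) =
      mres M ((leOfHom f).trans hV) (PresheafOfModules.sections.eval ((D.generators i).s j) (op (Over.mk (𝟙 (D.X i))))) := by
    intro j
    have hp := PresheafOfModules.sections_property ((D.generators i).s j)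
      (X := op (Over.mk (𝟙 (D.X i)))) (Y := op (Over.mk (f ≫ (Over.mk (homOfLE hV)).hom)))
      (Over.homMk (homOfLE ((leOfHom f).trans hV)) : Over.mk (f ≫ (Over.mk (homOfLE hV)).hom) ⟶ Over.mk (𝟙 (D.X i))).op
    exact hp.symm
  simp only [hev] at this
  exact this

end Groth.Agent.H18
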