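import Mathlib.Algebra.Category.ModuleCat.Sheaf.Generators
import Mathlib.CategoryTheory.Sites.LocallySurjective
import Mathlib.CategoryTheory.Sites.EpiMono

set_option autoImplicit false
universe u v' u'
open CategoryTheory Limits Opposite

namespace Groth.Agent.H18

variable {C : Type u'} [Category.{v'} C] {J : GrothendieckTopology C} {R : Sheaf J RingCat.{u}}
  [HasWeakSheafify J AddCommGrpCat.{u}] [J.WEqualsLocallyBijective AddCommGrpCat.{u}]

theorem span_le_range_app (M : SheafOfModules.{u} R) {I : Type u} (s : I → M.sections) (Y : C) :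
    Submodule.span (R.obj.obj (op Y)) (Set.range fun i : I => (PresheafOfModules.sections.eval (s i) (op Y) : M.val.obj (op Y))) ≤
      LinearMap.range ((M.freeHomEquiv.symm s).val.app (op Y)).hom := by
  rw [Submodule.span_le]
  rintro _ ⟨i, rfl⟩
  refine ⟨(SheafOfModules.freeSection i).val (op Y), ?_⟩
  have := SheafOfModules.sectionsMap_freeHomEquiv_symm_freeSection s i
  exact congrArg (fun σ : M.sections => σ.val (op Y)) this

theorem epi_freeHomEquiv_symm (M : SheafOfModules.{u} R) {I : Type u} (s : I → M.sections)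
    (h : ∀ (X : C) (t : M.val.obj (op X)), ∃ S ∈ J X, ∀ ⦃Y : C⦄ (f : Y ⟶ X), S f →
      M.val.map f.op t ∈ Submodule.span (R.obj.obj (op Y)) (Set.range fun i : I => (PresheafOfModules.sections.eval (s i) (op Y) : M.val.obj (op Y)))) :
    Epi (M.freeHomEquiv.symm s) := by
  have hls : Sheaf.IsLocallySurjective ((SheafOfModules.toSheaf R).map (M.freeHomEquiv.symm s)) := by
    constructor
    intro X t
    obtain ⟨S, hS, hS'⟩ := h X t
    refine J.superset_covering ?_ hS
    intro Y f hf
    obtain ⟨y, hy⟩ := span_le_range_app M s Y (hS' f hf)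
    exact ⟨y, hy⟩
  exact (SheafOfModules.toSheaf R).epi_of_epi_map inferInstance

end Groth.Agent.H18
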