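import Groth.Agent.H18.ProjFracO
import Groth.Agent.H18.QCohLocalize
import Mathlib.Algebra.Module.GradedModule

set_option autoImplicit false
universe u

open CategoryTheory CategoryTheory.Limits AlgebraicGeometry TopologicalSpace Opposite
open HomogeneousLocalization

namespace Groth.Agent.H18

/-- a family of degree one elements of a graded ring -/
structure Charts {R A : Type u} [CommRing R] [CommRing A] [Algebra R A]
    (𝒜 : ℕ → Submodule R A) [GradedAlgebra 𝒜] where
  /-- index type -/
  I : Type u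
  /-- the elements -/
  f : I → A
  /-- they have degree one -/
  hf : ∀ i, f i ∈ 𝒜 1

namespace GammaStar

section

variable {R A : Type u} [CommRing R] [CommRing A] [Algebra R A]
variable {𝒜 : ℕ → Submodule R A} [GradedAlgebra 𝒜]
variable (D : Charts 𝒜) (F : (Proj 𝒜).Modules)

/-- the chart `D₊(f i)` -/
abbrev U (i : D.I) : (Proj 𝒜).Opens := Proj.basicOpen 𝒜 (D.f i)

theorem fpow_mem (i : D.I) (k : ℕ) : D.f i ^ k ∈ 𝒜 k := by
  simpa using SetLike.pow_mem_graded k (D.hf i)

theorem notMem_of_mem_U {i : D.I} {x : ProjectiveSpectrum 𝒜} (hx : x ∈ U D i) (k : ℕ) :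
    D.f i ^ k ∉ x.asHomogeneousIdeal := fun h => hx (x.isPrime.mem_of_pow_mem k h)

/-- `a / f_i ^ k` on `D₊(f i)` -/
noncomputable def coef {k : ℕ} {a : A} (ha : a ∈ 𝒜 k) (i : D.I) : Γ(Proj 𝒜, U D i) :=
  fracO 𝒜 ha (fpow_mem D i k) (U D i) (fun _ hx => notMem_of_mem_U D hx k)

/-- `f_i ^ n / f_j ^ n` on `D₊(f i) ⊓ D₊(f j)` -/
noncomputable def trans (n : ℕ) (i j : D.I) : Γ(Proj 𝒜, U D i ⊓ U D j) :=
  fracO 𝒜 (fpow_mem D i n) (fpow_mem D j n) (U D i ⊓ U D j)
    (fun _ hx => notMem_of_mem_U D hx.2 n)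

/-- the ambient group `∏ F(D₊(f i))` -/
abbrev Q : Type u := ∀ i : D.I, Γ(F, U D i)

/-- compatible families of degree `n`: `q_j = (f_i / f_j) ^ n q_i` on overlaps -/
def Compat (n : ℕ) : AddSubgroup (Q D F) where
  carrier := {q | ∀ i j, mres F (inf_le_right : U D i ⊓ U D j ≤ U D j) (q j) =
    trans D n i j • mres F (inf_le_left : U D i ⊓ U D j ≤ U D i) (q i)}
  zero_mem' := by
    intro i j
    simp only [Pi.zero_apply, map_zero, smul_zero]
  add_mem' := by
    intro q q' hq hq' i j
    simp only [Pi.add_apply, map_add, smul_add]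
    rw [hq i j, hq' i j]
  neg_mem' := by
    intro q hq i j
    simp only [Pi.neg_apply, map_neg, smul_neg]
    rw [hq i j]

/-- action of a homogeneous element of degree `k` on families -/
noncomputable def act {k : ℕ} {a : A} (ha : a ∈ 𝒜 k) (q : Q D F) : Q D F :=
  fun i => coef D ha i • q i

theorem act_mem {k n : ℕ} {a : A} (ha : a ∈ 𝒜 k) {q : Q D F} (hq : q ∈ Compat D F n) :
    act D F ha q ∈ Compat D F (k + n) := by
  intro i j
  unfold act
  rw [mres_smul, mres_smul, hq i j, smul_smul, smul_smul]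
  congr 1
  unfold coef trans
  rw [fracO_res, fracO_res, fracO_mul, fracO_mul]
  refine fracO_eq_of_mul_eq 𝒜 _ _ _ _ _ _ _ ?_
  ring

theorem coef_one (i : D.I) : coef D (SetLike.GradedOne.one_mem : (1 : A) ∈ 𝒜 0) i = 1 := by
  unfold coef
  rw [← fracO_self 𝒜 (SetLike.GradedOne.one_mem : (1 : A) ∈ 𝒜 0) (U D i)
    (fun x _ h => x.isPrime.ne_top ((Ideal.eq_top_iff_one _).mpr h))]
  refine fracO_eq_of_mul_eq 𝒜 _ _ _ _ _ _ _ ?_
  simp

theorem coef_mul {k k' : ℕ} {a a' : A} (ha : a ∈ 𝒜 k) (ha' : a' ∈ 𝒜 k') (i : D.I) :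
    coef D (SetLike.mul_mem_graded ha ha') i = coef D ha i * coef D ha' i := by
  unfold coef
  rw [fracO_mul]
  refine fracO_eq_of_mul_eq 𝒜 _ _ _ _ _ _ _ ?_
  ring

theorem coef_add {k : ℕ} {a a' : A} (ha : a ∈ 𝒜 k) (ha' : a' ∈ 𝒜 k) (i : D.I) :
    coef D (add_mem ha ha') i = coef D ha i + coef D ha' i := fracO_add 𝒜 _ _ _ _ _

theorem coef_zero (k : ℕ) (i : D.I) : coef D (zero_mem (𝒜 k)) i = 0 := fracO_zero 𝒜 _ _ _

noncomputable instance gmodule : DirectSum.Gmodule (fun k => 𝒜 k) (fun n => Compat D F n) where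
  smul a q := ⟨act D F a.2 q.1, act_mem D F a.2 q.2⟩
  one_smul := by
    rintro ⟨n, q⟩
    refine Sigma.subtype_ext (zero_add n) ?_
    funext i
    change coef D _ i • q.1 i = q.1 i
    rw [coef_one, one_smul]
  mul_smul := by
    rintro ⟨k, a⟩ ⟨k', a'⟩ ⟨n, q⟩
    refine Sigma.subtype_ext (add_assoc k k' n) ?_
    funext i
    change coef D _ i • q.1 i = coef D _ i • (coef D _ i • q.1 i)
    rw [smul_smul, ← coef_mul]
  smul_add := by
    intro k n a q q'
    apply Subtype.ext
    funext i
    exact smul_add _ _ _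
  smul_zero := by
    intro k n a
    apply Subtype.ext
    funext i
    exact smul_zero _
  add_smul := by
    intro k n a a' q
    apply Subtype.ext
    funext i
    change coef D _ i • q.1 i = coef D _ i • q.1 i + coef D _ i • q.1 i
    rw [← add_smul, ← coef_add]
  zero_smul := by
    intro k n q
    apply Subtype.ext
    funext i
    change coef D _ i • q.1 i = 0
    have : coef D (0 : 𝒜 k).2 i = 0 := coef_zero D k i
    rw [this, zero_smul]

/-- the graded module `Γ_*(F) = ⨁ₙ Γ(X, F(n))` (described through the charts) -/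
def M : Type u := DirectSum ℕ (fun n => Compat D F n)

noncomputable instance : AddCommGroup (M D F) :=
  inferInstanceAs (AddCommGroup (DirectSum ℕ (fun n => Compat D F n)))

noncomputable instance moduleDS : Module (DirectSum ℕ (fun k => 𝒜 k)) (M D F) :=
  inferInstanceAs (Module (DirectSum ℕ (fun k => 𝒜 k)) (DirectSum ℕ (fun n => Compat D F n)))

noncomputable instance moduleA : Module A (M D F) :=
  Module.compHom (M D F) (DirectSum.decomposeRingEquiv 𝒜).toRingHom

noncomputable instance moduleR : Module R (M D F) :=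
  Module.compHom (M D F) (algebraMap R A)

instance : IsScalarTower R A (M D F) where
  smul_assoc r a m := by
    change (r • a) • m = algebraMap R A r • a • m
    rw [Algebra.smul_def, mul_smul]

/-- inclusion of the degree `n` piece -/
noncomputable def of (n : ℕ) : Compat D F n →+ M D F :=
  DirectSum.of (fun n => Compat D F n) n

theorem of_cast {n n' : ℕ} (h : n = n') (y : Compat D F n) (hy : y.1 ∈ Compat D F n') :
    of D F n' ⟨y.1, hy⟩ = of D F n y := by
  subst h
  rfl

theorem smul_of {k n : ℕ} {a : A} (ha : a ∈ 𝒜 k) (x : Compat D F n) :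
    a • of D F n x = of D F (k + n) ⟨act D F ha x.1, act_mem D F ha x.2⟩ := by
  change (DirectSum.decomposeRingEquiv 𝒜 a : DirectSum ℕ (fun k => 𝒜 k)) •
    (DirectSum.of (fun n => Compat D F n) n x) = _
  have : (DirectSum.decomposeRingEquiv 𝒜 a : DirectSum ℕ (fun k => 𝒜 k)) =
      DirectSum.of (fun k => 𝒜 k) k ⟨a, ha⟩ := DirectSum.decompose_of_mem 𝒜 ha
  rw [this]
  exact DirectSum.Gmodule.of_smul_of _ _ _ _

/-- the grading -/
noncomputable def grading (n : ℕ) : Submodule R (M D F) where
  carrier := Set.range (of D F n)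
  zero_mem' := ⟨0, map_zero _⟩
  add_mem' := by
    rintro _ _ ⟨x, rfl⟩ ⟨y, rfl⟩
    exact ⟨x + y, map_add _ _ _⟩
  smul_mem' := by
    rintro r _ ⟨x, rfl⟩
    change algebraMap R A r • of D F n x ∈ Set.range (of D F n)
    have h0 : algebraMap R A r ∈ 𝒜 0 := SetLike.algebraMap_mem_graded 𝒜 r
    rw [smul_of D F h0 x]
    exact ⟨⟨act D F h0 x.1, by simpa using act_mem D F h0 x.2⟩,
      of_cast D F (zero_add n) ⟨act D F h0 x.1, act_mem D F h0 x.2⟩ _⟩

instance gradedSMul : SetLike.GradedSMul 𝒜 (grading D F) where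
  smul_mem := by
    rintro k n a _ ha ⟨x, rfl⟩
    rw [smul_of D F ha x]
    exact ⟨_, rfl⟩

/-- `of` with values in the graded piece -/
noncomputable def ofSub (n : ℕ) : Compat D F n →+ grading D F n :=
  (of D F n).codRestrict (grading D F n).toAddSubmonoid (fun x => ⟨x, rfl⟩)

/-- the decomposition map -/
noncomputable def decomp : M D F →+ DirectSum ℕ (fun n => grading D F n) :=
  DirectSum.toAddMonoid (β := fun n => Compat D F n) (fun n =>
    (DirectSum.of (fun n => grading D F n) n).comp (ofSub D F n))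

theorem decomp_of (n : ℕ) (x : Compat D F n) :
    decomp D F (of D F n x) = DirectSum.of (fun n => grading D F n) n (ofSub D F n x) :=
  DirectSum.toAddMonoid_of _ _ _

noncomputable instance decomposition : DirectSum.Decomposition (grading D F) :=
  DirectSum.Decomposition.ofAddHom _ (decomp D F)
    (by
      refine DirectSum.addHom_ext (β := fun n => Compat D F n) fun n x => ?_
      change (DirectSum.coeAddMonoidHom (grading D F)) (decomp D F (of D F n x)) = of D F n x
      rw [decomp_of, DirectSum.coeAddMonoidHom_of]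
      rfl)
    (by
      refine DirectSum.addHom_ext fun n y => ?_
      obtain ⟨y, ⟨x, rfl⟩⟩ := y
      change decomp D F ((DirectSum.coeAddMonoidHom (grading D F))
        (DirectSum.of (fun n => grading D F n) n ⟨of D F n x, _⟩)) = _
      rw [DirectSum.coeAddMonoidHom_of]
      exact decomp_of D F n x)

end

end GammaStar

end Groth.Agent.H18
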