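import Groth.Agent.H18.GrTildeQC
import Groth.Agent.H18.GrModTN
import Groth.Agent.H18.FTypeCriterion

set_option autoImplicit false
universe u

open CategoryTheory CategoryTheory.Limits AlgebraicGeometry TopologicalSpace Opposite
open HomogeneousLocalization

namespace Groth.Agent.H18

section

variable {R A : Type u} [CommRing R] [CommRing A] [Algebra R A]
variable (𝒜 : ℕ → Submodule R A) [GradedAlgebra 𝒜]
variable {M : Type u} [AddCommGroup M] [Module R M] [Module A M] [IsScalarTower R A M]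
  (ℳ : ℕ → Submodule R M) [DirectSum.Decomposition ℳ] [SetLike.GradedSMul 𝒜 ℳ]

/-- `fracSection` viewed as a section of the sheaf `M(n)~` over `D₊(g)`. -/
noncomputable def fracΓ {n : ℤ} {i e k : ℕ} (hi : (i : ℤ) = k * e + n) {m : M} (hm : m ∈ ℳ i)
    {g : A} (hg : g ∈ 𝒜 e) : Γ(GrTilde.tilde 𝒜 ℳ n, Proj.basicOpen 𝒜 g) :=
  fracSection 𝒜 ℳ hi hm hg

theorem fracΓ_add {n : ℤ} {i e k : ℕ} (hi : (i : ℤ) = k * e + n) {m m' : M} (hm : m ∈ ℳ i)
    (hm' : m' ∈ ℳ i) {g : A} (hg : g ∈ 𝒜 e) :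
    fracΓ 𝒜 ℳ hi (add_mem hm hm') hg = fracΓ 𝒜 ℳ hi hm hg + fracΓ 𝒜 ℳ hi hm' hg := by
  refine sect_ext 𝒜 ℳ n _ _ _ (fun x => ?_)
  refine (fracSection_val 𝒜 ℳ hi (add_mem hm hm') hg x).trans ?_
  refine Eq.trans ?_ (congrArg₂ (· + ·) (fracSection_val 𝒜 ℳ hi hm hg x)
    (fracSection_val 𝒜 ℳ hi hm' hg x)).symm
  rw [LocalizedModule.mk_add_mk, LocalizedModule.mk_eq]
  refine ⟨1, ?_⟩
  simp only [one_smul, Submonoid.smul_def, Submonoid.coe_mul, smul_add, ← mul_smul]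

theorem fracΓ_zero {n : ℤ} {i e k : ℕ} (hi : (i : ℤ) = k * e + n)
    {g : A} (hg : g ∈ 𝒜 e) :
    fracΓ 𝒜 ℳ hi (zero_mem (ℳ i)) hg = 0 := by
  refine sect_ext 𝒜 ℳ n _ _ _ (fun x => ?_)
  refine (fracSection_val 𝒜 ℳ hi (zero_mem _) hg x).trans ?_
  exact LocalizedModule.zero_mk _

theorem fracΓ_smul {n : ℤ} {i e k j : ℕ} (hi : (i : ℤ) = k * e + n) {m : M} (hm : m ∈ ℳ i)
    {g : A} (hg : g ∈ 𝒜 e) {t : A} (ht : t ∈ 𝒜 (j • e))
    (hi' : ((j • e + i : ℕ) : ℤ) = ((j + k : ℕ) : ℤ) * e + n) :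
    (Proj.awayToSection 𝒜 g).hom (Away.mk 𝒜 hg j t ht) • fracΓ 𝒜 ℳ hi hm hg =
      fracΓ 𝒜 ℳ hi' (SetLike.GradedSMul.smul_mem ht hm) hg := by
  refine sect_ext 𝒜 ℳ n _ _ _ (fun x => ?_)
  refine (tilde_smul_val 𝒜 ℳ n _ _ (fracΓ 𝒜 ℳ hi hm hg) x).trans ?_
  refine Eq.trans ?_ (fracSection_val 𝒜 ℳ hi' (SetLike.GradedSMul.smul_mem ht hm) hg x).symm
  refine (congrArg₂ (· • ·) (awayToSection_apply_val 𝒜 hg j t ht x.1 x.2)
    (fracSection_val 𝒜 ℳ hi hm hg x)).trans ?_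
  rw [LocalizedModule.mk_smul_mk, LocalizedModule.mk_eq]
  refine ⟨1, ?_⟩
  simp only [one_smul, Submonoid.smul_def, Submonoid.coe_mul, ← mul_smul]
  congr 1
  ring

theorem fracΓ_raise {n : ℤ} {i e k : ℕ} (hi : (i : ℤ) = k * e + n) {m : M} (hm : m ∈ ℳ i)
    {g : A} (hg : g ∈ 𝒜 e) (a : ℕ)
    (hi' : ((a • e + i : ℕ) : ℤ) = ((a + k : ℕ) : ℤ) * e + n) :
    fracΓ 𝒜 ℳ hi' (SetLike.GradedSMul.smul_mem (SetLike.pow_mem_graded a hg) hm) hg =
      fracΓ 𝒜 ℳ hi hm hg := by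
  refine sect_ext 𝒜 ℳ n _ _ _ (fun x => ?_)
  refine (fracSection_val 𝒜 ℳ hi' _ hg x).trans ?_
  refine Eq.trans ?_ (fracSection_val 𝒜 ℳ hi hm hg x).symm
  rw [LocalizedModule.mk_eq]
  refine ⟨1, ?_⟩
  simp only [one_smul, Submonoid.smul_def, ← mul_smul]
  congr 1
  ring

section Good

variable {d : ℕ} {g : A} (hg : g ∈ 𝒜 d)
  (S : Submodule Γ(Proj 𝒜, Proj.basicOpen 𝒜 g) Γ(GrTilde.tilde 𝒜 ℳ 0, Proj.basicOpen 𝒜 g))

/-- `μ` is homogeneous of degree `e` and, if `e = k d`, the section `μ / g ^ k` lies in `S`. -/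
def GoodAt (e : ℕ) (μ : M) : Prop :=
  ∃ hμ : μ ∈ ℳ e, ∀ (k : ℕ) (hk : (e : ℤ) = k * d + 0), fracΓ 𝒜 ℳ hk hμ hg ∈ S

theorem GoodAt.zero (e : ℕ) : GoodAt 𝒜 ℳ hg S e 0 :=
  ⟨zero_mem _, fun k hk => by rw [fracΓ_zero]; exact S.zero_mem⟩

theorem GoodAt.add {e : ℕ} {μ μ' : M} (h1 : GoodAt 𝒜 ℳ hg S e μ) (h2 : GoodAt 𝒜 ℳ hg S e μ') :
    GoodAt 𝒜 ℳ hg S e (μ + μ') := by
  obtain ⟨hμ, h1⟩ := h1
  obtain ⟨hμ', h2⟩ := h2
  refine ⟨add_mem hμ hμ', fun k hk => ?_⟩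
  rw [fracΓ_add 𝒜 ℳ hk hμ hμ' hg]
  exact S.add_mem (h1 k hk) (h2 k hk)

theorem GoodAt.sum {ι : Type*} (F : Finset ι) {e : ℕ} (f : ι → M)
    (h : ∀ i ∈ F, GoodAt 𝒜 ℳ hg S e (f i)) : GoodAt 𝒜 ℳ hg S e (∑ i ∈ F, f i) := by
  classical
  induction F using Finset.induction_on with
  | empty => simpa using GoodAt.zero 𝒜 ℳ hg S e
  | insert a F ha ih =>
    rw [Finset.sum_insert ha]
    exact GoodAt.add 𝒜 ℳ hg S (h a (Finset.mem_insert_self a F))
      (ih fun i hi => h i (Finset.mem_insert_of_mem hi))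

theorem GoodAt.congr {e e' : ℕ} {μ μ' : M} (he : e = e') (hμ : μ = μ')
    (h : GoodAt 𝒜 ℳ hg S e μ) : GoodAt 𝒜 ℳ hg S e' μ' := by
  subst he hμ
  exact h

theorem GoodAt.smul' (hd : 0 < d) {e j : ℕ} {μ : M} {t : A} (ht : t ∈ 𝒜 (j • d))
    (h : GoodAt 𝒜 ℳ hg S e μ) : GoodAt 𝒜 ℳ hg S (j • d + e) (t • μ) := by
  obtain ⟨hμ, h⟩ := h
  refine ⟨SetLike.GradedSMul.smul_mem ht hμ, fun k' hk' => ?_⟩
  have h1 : j ≤ k' := by
    by_contra hlt
    push Not at hlt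
    have : (k' : ℤ) * d < j * d := by
      have : (k' : ℤ) < j := by exact_mod_cast hlt
      have hd' : (0 : ℤ) < d := by exact_mod_cast hd
      nlinarith
    simp only [smul_eq_mul] at hk'
    push_cast at hk'
    nlinarith
  obtain ⟨k, rfl⟩ := Nat.exists_eq_add_of_le h1
  have hk : (e : ℤ) = k * d + 0 := by
    simp only [smul_eq_mul] at hk'
    push_cast at hk'
    linarith
  have := fracΓ_smul 𝒜 ℳ hk hμ hg ht hk'
  rw [← this]
  exact S.smul_mem _ (h k hk)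

end Good

section Mono

variable {ι' : Type u} [Fintype ι'] [DecidableEq ι'] (h : ι' → A) (δ : ι' → ℕ)

/-- monomial in the generators -/
def mono (β : ι' → ℕ) : A := ∏ i, h i ^ β i

/-- degree of a monomial -/
def monoDeg (β : ι' → ℕ) : ℕ := ∑ i, β i • δ i

variable {h δ}

theorem mono_mem (hh : ∀ i, h i ∈ 𝒜 (δ i)) (β : ι' → ℕ) : mono h β ∈ 𝒜 (monoDeg δ β) :=
  SetLike.prod_pow_mem_graded _ _ _ _ fun i _ => hh i

theorem mono_update_eq (β : ι' → ℕ) (i : ι') (b : ℕ) :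
    mono h (Function.update β i b) = h i ^ b * mono h (Function.update β i 0) := by
  unfold mono
  rw [← Finset.mul_prod_erase Finset.univ _ (Finset.mem_univ i),
    ← Finset.mul_prod_erase Finset.univ (fun j => h j ^ Function.update β i 0 j)
      (Finset.mem_univ i),
    Function.update_self, Function.update_self, pow_zero, one_mul]
  congr 1
  refine Finset.prod_congr rfl fun j hj => ?_
  rw [Function.update_of_ne (Finset.ne_of_mem_erase hj),
    Function.update_of_ne (Finset.ne_of_mem_erase hj)]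

theorem monoDeg_update_eq (β : ι' → ℕ) (i : ι') (b : ℕ) :
    monoDeg δ (Function.update β i b) = b * δ i + monoDeg δ (Function.update β i 0) := by
  unfold monoDeg
  rw [← Finset.add_sum_erase Finset.univ _ (Finset.mem_univ i),
    ← Finset.add_sum_erase Finset.univ (fun j => Function.update β i 0 j • δ j)
      (Finset.mem_univ i),
    Function.update_self, Function.update_self, zero_smul, zero_add, smul_eq_mul]
  congr 1
  refine Finset.sum_congr rfl fun j hj => ?_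
  rw [Function.update_of_ne (Finset.ne_of_mem_erase hj),
    Function.update_of_ne (Finset.ne_of_mem_erase hj)]

theorem mul_mono (β : ι' → ℕ) (i : ι') :
    h i * mono h β = mono h (Function.update β i (β i + 1)) := by
  conv_lhs => rw [← Function.update_eq_self i β, mono_update_eq]
  rw [mono_update_eq β i (β i + 1), pow_succ]
  ring

theorem monoDeg_succ (β : ι' → ℕ) (i : ι') :
    monoDeg δ (Function.update β i (β i + 1)) = δ i + monoDeg δ β := by
  conv_rhs => rw [← Function.update_eq_self i β, monoDeg_update_eq]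
  rw [monoDeg_update_eq β i (β i + 1)]
  ring

variable {d : ℕ} {g : A} (hg : g ∈ 𝒜 d)
  (S : Submodule Γ(Proj 𝒜, Proj.basicOpen 𝒜 g) Γ(GrTilde.tilde 𝒜 ℳ 0, Proj.basicOpen 𝒜 g))

theorem goodAt_smul_mono_smul (hd : 0 < d) (hh : ∀ i, h i ∈ 𝒜 (δ i)) (hδ : ∀ i, 0 < δ i)
    (hspan : (HomogeneousIdeal.irrelevant 𝒜).toIdeal = Ideal.span (Set.range h))
    {κ : Type*} (mm : κ → M) (dm : κ → ℕ)
    (hgen : ∀ (β : ι' → ℕ), (∀ i, β i < d) → ∀ l,
      GoodAt 𝒜 ℳ hg S (monoDeg δ β + dm l) (mono h β • mm l)) :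
    ∀ (j : ℕ) (a : A), a ∈ 𝒜 j → ∀ (β : ι' → ℕ), (∀ i, β i < d) → ∀ l,
      GoodAt 𝒜 ℳ hg S (j + (monoDeg δ β + dm l)) (a • mono h β • mm l) := by
  intro j
  induction j using Nat.strong_induction_on with
  | _ j ih =>
    intro a ha β hβ l
    rcases Nat.eq_zero_or_pos j with hj0 | hjpos
    · subst hj0
      have ha' : a ∈ 𝒜 (0 • d) := by simpa using ha
      exact GoodAt.congr 𝒜 ℳ hg S (by simp) rfl
        (GoodAt.smul' 𝒜 ℳ hg S hd ha' (hgen β hβ l))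
    · have haI : a ∈ Ideal.span (Set.range h) := by
        rw [← hspan]
        exact HomogeneousIdeal.mem_irrelevant_of_mem 𝒜 hjpos ha
      obtain ⟨F, c, hF, hc, hsum⟩ := exists_homogeneous_combination 𝒜 h δ hh ha haI
      rw [hsum, Finset.sum_smul]
      refine GoodAt.sum 𝒜 ℳ hg S F _ fun i hi => ?_
      have hij : δ i ≤ j := hF i hi
      have hlt : j - δ i < j := by have := hδ i; omega
      by_cases hcase : β i + 1 < d
      · -- no wrap-around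
        have hβ' : ∀ i', Function.update β i (β i + 1) i' < d := by
          intro i'
          by_cases hii : i' = i
          · subst hii; rw [Function.update_self]; exact hcase
          · rw [Function.update_of_ne hii]; exact hβ i'
        have := ih (j - δ i) hlt (c i) (hc i) _ hβ' l
        refine GoodAt.congr 𝒜 ℳ hg S ?_ ?_ this
        · rw [monoDeg_succ]; omega
        · rw [← mul_mono]
          simp only [← mul_smul, mul_assoc]
      · -- wrap-around: `β i + 1 = d`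
        have hbd : β i + 1 = d := by have := hβ i; omega
        have hβ' : ∀ i', Function.update β i 0 i' < d := by
          intro i'
          by_cases hii : i' = i
          · subst hii; rw [Function.update_self]; exact hd
          · rw [Function.update_of_ne hii]; exact hβ i'
        have h1 := ih (j - δ i) hlt (c i) (hc i) _ hβ' l
        have ht : h i ^ d ∈ 𝒜 (δ i • d) := by
          have := SetLike.pow_mem_graded d (hh i)
          rwa [smul_eq_mul, mul_comm] at this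
        have h2 := GoodAt.smul' 𝒜 ℳ hg S hd ht h1
        refine GoodAt.congr 𝒜 ℳ hg S ?_ ?_ h2
        · have e1 : monoDeg δ β = β i * δ i + monoDeg δ (Function.update β i 0) := by
            conv_lhs => rw [← Function.update_eq_self i β, monoDeg_update_eq]
          rw [e1, ← hbd, smul_eq_mul]
          have : δ i * (β i + 1) = β i * δ i + δ i := by ring
          omega
        · have e2 : mono h β = h i ^ β i * mono h (Function.update β i 0) := by
            conv_lhs => rw [← Function.update_eq_self i β, mono_update_eq]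
          rw [e2, ← hbd, pow_succ]
          simp only [← mul_smul]
          congr 1
          ring

end Mono

section Gen

variable {ι' : Type u} [Fintype ι'] [DecidableEq ι'] {h : ι' → A} {δ : ι' → ℕ}
variable {d : ℕ} {g : A} (hg : g ∈ 𝒜 d)
variable (hh : ∀ i, h i ∈ 𝒜 (δ i)) {κ : Type u} {mm : κ → M} {dm : κ → ℕ}
  (hmm : ∀ l, mm l ∈ ℳ (dm l))

theorem fracΓ_congr {n : ℤ} {i e k k' : ℕ} (hk : k = k') (hi : (i : ℤ) = k * e + n)
    (hi' : (i : ℤ) = k' * e + n) {m : M} (hm hm' : m ∈ ℳ i) {g : A} (hg : g ∈ 𝒜 e) :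
    fracΓ 𝒜 ℳ hi hm hg = fracΓ 𝒜 ℳ hi' hm' hg := by
  subst hk
  rfl

/-- the finite generating family of sections of `M~` over `D₊(g)` -/
noncomputable def genSec (p : (ι' → Fin d) × κ) :
    Γ(GrTilde.tilde 𝒜 ℳ 0, Proj.basicOpen 𝒜 g) :=
  if hk : d ∣ (monoDeg δ (fun i => (p.1 i : ℕ)) + dm p.2) then
    fracΓ 𝒜 ℳ (i := monoDeg δ (fun i => (p.1 i : ℕ)) + dm p.2)
      (k := (monoDeg δ (fun i => (p.1 i : ℕ)) + dm p.2) / d) (by
        rw [add_zero]; exact_mod_cast (Nat.div_mul_cancel hk).symm)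
      (SetLike.GradedSMul.smul_mem (mono_mem 𝒜 hh _) (hmm p.2)) hg
  else 0

theorem goodAt_gen (hd : 0 < d) (β : ι' → ℕ) (hβ : ∀ i, β i < d) (l : κ) :
    GoodAt 𝒜 ℳ hg (Submodule.span Γ(Proj 𝒜, Proj.basicOpen 𝒜 g)
      (Set.range (genSec 𝒜 ℳ hg hh hmm))) (monoDeg δ β + dm l) (mono h β • mm l) := by
  refine ⟨SetLike.GradedSMul.smul_mem (mono_mem 𝒜 hh β) (hmm l), fun k hk => ?_⟩
  refine Submodule.subset_span ⟨(fun i => ⟨β i, hβ i⟩, l), ?_⟩
  have hdvd : d ∣ (monoDeg δ β + dm l) := ⟨k, by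
    have : ((monoDeg δ β + dm l : ℕ) : ℤ) = ((d * k : ℕ) : ℤ) := by
      rw [hk]; push_cast; ring
    exact_mod_cast this⟩
  unfold genSec
  rw [dif_pos hdvd]
  refine fracΓ_congr 𝒜 ℳ ?_ _ _ _ _ hg
  have : ((monoDeg δ β + dm l : ℕ) : ℤ) = ((k * d : ℕ) : ℤ) := by
    rw [hk]; push_cast; ring
  have h2 : monoDeg δ β + dm l = k * d := by exact_mod_cast this
  change (monoDeg δ β + dm l) / d = k
  rw [h2, Nat.mul_div_cancel _ hd]

theorem span_genSec_eq_top (hd : 0 < d) (hδ : ∀ i, 0 < δ i)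
    (hspan : (HomogeneousIdeal.irrelevant 𝒜).toIdeal = Ideal.span (Set.range h))
    (n : ℕ) (hN : ∀ e, n ≤ e → ∀ μ ∈ ℳ e, μ ∈ Submodule.span A (Set.range mm)) :
    Submodule.span Γ(Proj 𝒜, Proj.basicOpen 𝒜 g) (Set.range (genSec 𝒜 ℳ hg hh hmm)) = ⊤ := by
  rw [eq_top_iff]
  intro s _
  obtain ⟨k, i, μ, hi, hval⟩ := Groth.Agent.S3586.result 𝒜 ℳ 0 hd hg
    (s : GrTilde.sect 𝒜 ℳ 0 (op (ProjectiveSpectrum.basicOpen 𝒜 g)))
  have hs : s = fracΓ 𝒜 ℳ hi μ.2 hg :=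
    sect_ext 𝒜 ℳ 0 _ _ _ (fun x => (hval x).trans (fracSection_val 𝒜 ℳ hi μ.2 hg x).symm)
  have hi' : ((n • d + i : ℕ) : ℤ) = ((n + k : ℕ) : ℤ) * d + 0 := by
    rw [smul_eq_mul]; push_cast; rw [hi]; ring
  rw [hs, ← fracΓ_raise 𝒜 ℳ hi μ.2 hg n hi']
  set S := Submodule.span Γ(Proj 𝒜, Proj.basicOpen 𝒜 g) (Set.range (genSec 𝒜 ℳ hg hh hmm))
  have hP := goodAt_smul_mono_smul 𝒜 ℳ hg S hd hh hδ hspan mm dm
    (fun β hβ l => goodAt_gen 𝒜 ℳ hg hh hmm hd β hβ l)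
  have hμ' : g ^ n • μ.1 ∈ ℳ (n • d + i) :=
    SetLike.GradedSMul.smul_mem (SetLike.pow_mem_graded n hg) μ.2
  have hge : n ≤ n • d + i := by
    rw [smul_eq_mul]
    nlinarith
  obtain ⟨F, c, hF, hc, hsum⟩ := exists_homogeneous_combination_module 𝒜 ℳ mm dm hmm hμ'
    (hN _ hge _ hμ')
  have hgood : GoodAt 𝒜 ℳ hg S (n • d + i) (g ^ n • μ.1) := by
    rw [hsum]
    refine GoodAt.sum 𝒜 ℳ hg S F _ fun l hl => ?_
    have h0 : ∀ i : ι', (fun _ : ι' => 0) i < d := fun _ => hd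
    have := hP (n • d + i - dm l) (c l) (hc l) (fun _ => 0) h0 l
    refine GoodAt.congr 𝒜 ℳ hg S ?_ ?_ this
    · have : monoDeg δ (fun _ : ι' => 0) = 0 := by simp [monoDeg]
      rw [this]
      have := hF l hl
      omega
    · have : mono h (fun _ : ι' => 0) = 1 := by simp [mono]
      rw [this, one_smul]
  obtain ⟨_, hgood⟩ := hgood
  exact hgood (n + k) hi'

end Gen

section Extract

theorem exists_finite_homogeneous_generators
    (hfg : (HomogeneousIdeal.irrelevant 𝒜).toIdeal.FG) :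
    ∃ (T : Finset (ℕ × A)), (∀ p ∈ T, 0 < p.1 ∧ p.2 ∈ 𝒜 p.1) ∧
      (HomogeneousIdeal.irrelevant 𝒜).toIdeal =
        Ideal.span ((fun p : ℕ × A => p.2) '' (T : Set (ℕ × A))) := by
  classical
  obtain ⟨S₀, hS₀⟩ := hfg
  refine ⟨S₀.biUnion fun s => ((DirectSum.decompose 𝒜 s).support.filter (0 < ·)).image
    fun i => (i, ((DirectSum.decompose 𝒜 s i : 𝒜 i) : A)), ?_, ?_⟩
  · intro p hp
    simp only [Finset.mem_biUnion, Finset.mem_image, Finset.mem_filter] at hp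
    obtain ⟨s, _, i, ⟨_, hi0⟩, rfl⟩ := hp
    exact ⟨hi0, Subtype.prop _⟩
  · apply le_antisymm
    · rw [← hS₀, Ideal.span_le]
      intro s hs
      have hsI : s ∈ (HomogeneousIdeal.irrelevant 𝒜).toIdeal := hS₀ ▸ Ideal.subset_span hs
      rw [SetLike.mem_coe, ← DirectSum.sum_support_decompose 𝒜 s]
      refine Ideal.sum_mem _ fun i hi => Ideal.subset_span ?_
      have hi0 : 0 < i := by
        rcases Nat.eq_zero_or_pos i with h0 | h0
        · exfalso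
          subst h0
          rw [DFinsupp.mem_support_iff] at hi
          apply hi
          ext
          simpa using hsI
        · exact h0
      refine ⟨(i, ((DirectSum.decompose 𝒜 s i : 𝒜 i) : A)), ?_, rfl⟩
      simp only [Finset.coe_biUnion, Set.mem_iUnion, Finset.mem_coe, Finset.mem_image,
        Finset.mem_filter]
      exact ⟨s, hs, i, ⟨hi, hi0⟩, rfl⟩
    · rw [Ideal.span_le]
      rintro _ ⟨p, hp, rfl⟩
      simp only [Finset.coe_biUnion, Set.mem_iUnion, Finset.mem_coe, Finset.mem_image,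
        Finset.mem_filter] at hp
      obtain ⟨s, hs, i, _, rfl⟩ := hp
      have hsI : s ∈ (HomogeneousIdeal.irrelevant 𝒜).toIdeal := hS₀ ▸ Ideal.subset_span hs
      exact (HomogeneousIdeal.irrelevant 𝒜).isHomogeneous i hsI

theorem exists_finite_homogeneous_module_generators (n : ℕ)
    (hTF : (Submodule.span A (⋃ k ∈ Set.Ici n, (ℳ k : Set M))).FG) :
    ∃ (G : Finset (ℕ × M)), (∀ p ∈ G, p.2 ∈ ℳ p.1) ∧
      ∀ e, n ≤ e → ∀ μ ∈ ℳ e,
        μ ∈ Submodule.span A ((fun p : ℕ × M => p.2) '' (G : Set (ℕ × M))) := by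
  classical
  obtain ⟨s', hs', hspan⟩ := (Submodule.fg_span_iff_fg_span_finset_subset _).mp hTF
  have hdeg : ∀ m ∈ s', ∃ k, m ∈ ℳ k := by
    intro m hm
    have := hs' hm
    simp only [Set.mem_iUnion, exists_prop] at this
    obtain ⟨k, _, hk⟩ := this
    exact ⟨k, hk⟩
  let deg : M → ℕ := fun m => if hm : ∃ k, m ∈ ℳ k then hm.choose else 0
  refine ⟨s'.image fun m => (deg m, m), ?_, ?_⟩
  · intro p hp
    simp only [Finset.mem_image] at hp
    obtain ⟨m, hm, rfl⟩ := hp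
    have h1 := hdeg m hm
    simp only [deg, dif_pos h1]
    exact h1.choose_spec
  · intro e he μ hμ
    have h1 : μ ∈ Submodule.span A (⋃ k ∈ Set.Ici n, (ℳ k : Set M)) :=
      Submodule.subset_span (by
        simp only [Set.mem_iUnion, exists_prop]
        exact ⟨e, he, hμ⟩)
    rw [hspan] at h1
    refine Submodule.span_mono ?_ h1
    intro m hm
    exact ⟨(deg m, m), Finset.mem_coe.mpr (Finset.mem_image.mpr ⟨m, Finset.mem_coe.mp hm, rfl⟩), rfl⟩

end Extract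

theorem tilde_isFiniteType (hfg : (HomogeneousIdeal.irrelevant 𝒜).toIdeal.FG)
    (hTF : ∃ n : ℕ, (Submodule.span A (⋃ k ∈ Set.Ici n, (ℳ k : Set M))).FG) :
    SheafOfModules.IsFiniteType (R := (Proj 𝒜).ringCatSheaf) (GrTilde.tilde 𝒜 ℳ 0) := by
  classical
  obtain ⟨T, hT, hTspan⟩ := exists_finite_homogeneous_generators 𝒜 hfg
  obtain ⟨n, hTF⟩ := hTF
  obtain ⟨G, hG, hGspan⟩ := exists_finite_homogeneous_module_generators ℳ n hTF
  have := tilde_isQuasicoherent 𝒜 ℳ 0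
  let ι : Type u := {p : ℕ × A // 0 < p.1 ∧ p.2 ∈ 𝒜 p.1}
  have hcov : IsOpenCover (fun p : ι => Proj.basicOpen 𝒜 p.1.2) := by
    refine IsOpenCover.mk (top_le_iff.mp ?_)
    intro x _
    obtain ⟨i, s, hi, hs, hsx⟩ := exists_pos_homogeneous_notMem 𝒜 x
    exact Opens.mem_iSup.mpr ⟨⟨(i, s), hi, hs⟩, hsx⟩
  let h : (↥T) → A := fun p => p.1.2
  let δ : (↥T) → ℕ := fun p => p.1.1
  have hh : ∀ i, h i ∈ 𝒜 (δ i) := fun p => (hT p.1 p.2).2
  have hδ : ∀ i, 0 < δ i := fun p => (hT p.1 p.2).1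
  have hrange : Set.range h = (fun p : ℕ × A => p.2) '' (T : Set (ℕ × A)) := by
    ext a
    simp only [Set.mem_range, Set.mem_image, Finset.mem_coe, h]
    constructor
    · rintro ⟨p, rfl⟩; exact ⟨p.1, p.2, rfl⟩
    · rintro ⟨p, hp, rfl⟩; exact ⟨⟨p, hp⟩, rfl⟩
  have hspan : (HomogeneousIdeal.irrelevant 𝒜).toIdeal = Ideal.span (Set.range h) := by
    rw [hrange]; exact hTspan
  let mm : (↥G) → M := fun p => p.1.2
  let dm : (↥G) → ℕ := fun p => p.1.1
  have hmm : ∀ l, mm l ∈ ℳ (dm l) := fun p => hG p.1 p.2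
  have hrange' : Set.range mm = (fun p : ℕ × M => p.2) '' (G : Set (ℕ × M)) := by
    ext a
    simp only [Set.mem_range, Set.mem_image, Finset.mem_coe, mm]
    constructor
    · rintro ⟨p, rfl⟩; exact ⟨p.1, p.2, rfl⟩
    · rintro ⟨p, hp, rfl⟩; exact ⟨⟨p, hp⟩, rfl⟩
  have hN : ∀ e, n ≤ e → ∀ μ ∈ ℳ e, μ ∈ Submodule.span A (Set.range mm) := by
    rw [hrange']; exact hGspan
  exact isFiniteType_of_isQuasicoherent_of_span_eq_top (GrTilde.tilde 𝒜 ℳ 0)
    (fun p : ι => Proj.basicOpen 𝒜 p.1.2) hcov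
    (fun p => Proj.isAffineOpen_basicOpen 𝒜 p.1.2 p.2.2 p.2.1)
    (fun p => ((↥T) → Fin p.1.1) × (↥G))
    (fun p => genSec 𝒜 ℳ p.2.2 hh hmm)
    (fun p => span_genSec_eq_top 𝒜 ℳ p.2.2 hh hmm p.2.1 hδ hspan n hN)

end
end Groth.Agent.H18
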