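import Groth.Agent.H18.GammaStarEval
import Groth.Agent.H18.GrTildeFT

set_option autoImplicit false
universe u

open CategoryTheory CategoryTheory.Limits AlgebraicGeometry TopologicalSpace Opposite
open HomogeneousLocalization

namespace Groth.Agent.H18

namespace GammaStar

section

variable {R A : Type u} [CommRing R] [CommRing A] [Algebra R A]
variable {𝒜 : ℕ → Submodule R A} [GradedAlgebra 𝒜]
variable (D : Charts 𝒜) (F : (Proj 𝒜).Modules)

/-- index type of the basis `D₊(f_j g')` -/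
abbrev BIdx : Type u := Σ (_ : D.I), Σ (e : ℕ), 𝒜 e

/-- the element `g = f_j g'` -/
abbrev bg (b : BIdx D) : A := D.f b.1 * (b.2.2 : A)

theorem bg_mem (b : BIdx D) : bg D b ∈ 𝒜 (1 + b.2.1) :=
  SetLike.mul_mem_graded (D.hf b.1) b.2.2.2

/-- the basic open `D₊(f_j g')` -/
abbrev B (b : BIdx D) : (Proj 𝒜).Opens := Proj.basicOpen 𝒜 (bg D b)

theorem B_le (b : BIdx D) : B D b ≤ U D b.1 := by
  intro x hx h
  exact hx (Ideal.mul_mem_right _ _ h)

/-- `M~` for `M = Γ_*(F)` -/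
noncomputable abbrev Mtilde : (Proj 𝒜).Modules := GrTilde.tilde 𝒜 (grading D F) 0

theorem exists_rep (b : BIdx D) (s : Γ(Mtilde D F, B D b)) :
    ∃ (n : ℕ) (t : A) (ht : t ∈ 𝒜 n)
      (hW : ∀ x : ProjectiveSpectrum 𝒜, x ∈ B D b → t ∉ x.asHomogeneousIdeal)
      (m : M D F) (_ : m ∈ grading D F n),
      ∀ (z : ProjectiveSpectrum 𝒜) (hz : z ∈ B D b),
        (((s : GrTilde.sect 𝒜 (grading D F) 0 (op (B D b))).1 ⟨z, hz⟩ :
          GrTilde.tildeAt 𝒜 (grading D F) 0 z) : GrTilde.LocMod 𝒜 (M := M D F) z) =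
          LocalizedModule.mk m ⟨t, hW z hz⟩ := by
  obtain ⟨k, i, μ, hi, hval⟩ := Groth.Agent.S3586.result 𝒜 (grading D F) 0
    (by omega : 0 < 1 + b.2.1) (bg_mem D b)
    (s : GrTilde.sect 𝒜 (grading D F) 0 (op (ProjectiveSpectrum.basicOpen 𝒜 (bg D b))))
  have hik : i = k • (1 + b.2.1) := by
    have : (i : ℤ) = ((k * (1 + b.2.1) : ℕ) : ℤ) := by rw [hi]; push_cast; ring
    rw [smul_eq_mul]
    exact_mod_cast this
  refine ⟨i, bg D b ^ k, hik ▸ SetLike.pow_mem_graded k (bg_mem D b),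
    fun x hx h => hx (x.isPrime.mem_of_pow_mem k h), μ.1, μ.2, fun z hz => hval ⟨z, hz⟩⟩

/-- the map `M~(D₊(g)) → F(D₊(g))`, `m / t ↦ (f_j ^ n / t) m_j` -/
noncomputable def alphaB (b : BIdx D) (s : Γ(Mtilde D F, B D b)) : Γ(F, B D b) :=
  evalFrac D F b.1 (B_le D b) (exists_rep D F b s).choose_spec.choose_spec.choose
    (exists_rep D F b s).choose_spec.choose_spec.choose_spec.choose
    (exists_rep D F b s).choose_spec.choose_spec.choose_spec.choose_spec.choose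

theorem alphaB_eq (b : BIdx D) (s : Γ(Mtilde D F, B D b)) {n : ℕ} {t : A} (ht : t ∈ 𝒜 n)
    (hW : ∀ x : ProjectiveSpectrum 𝒜, x ∈ B D b → t ∉ x.asHomogeneousIdeal)
    {m : M D F} (hm : m ∈ grading D F n)
    (hs : ∀ (z : ProjectiveSpectrum 𝒜) (hz : z ∈ B D b),
        (((s : GrTilde.sect 𝒜 (grading D F) 0 (op (B D b))).1 ⟨z, hz⟩ :
          GrTilde.tildeAt 𝒜 (grading D F) 0 z) : GrTilde.LocMod 𝒜 (M := M D F) z) =
          LocalizedModule.mk m ⟨t, hW z hz⟩) :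
    alphaB D F b s = evalFrac D F b.1 (B_le D b) ht hW m := by
  unfold alphaB
  obtain ⟨hm₀, hs₀⟩ := (exists_rep D F b s).choose_spec.choose_spec.choose_spec.choose_spec.choose_spec
  exact evalFrac_eq_of_frac_eq D F b.1 (B_le D b) _ ht _ hW hm₀ hm
    (fun z hz => (hs₀ z hz).symm.trans (hs z hz))

theorem evalFrac_smul (j : D.I) {W : (Proj 𝒜).Opens} (hWj : W ≤ U D j) {l n : ℕ} {a t₁ t : A}
    (ha : a ∈ 𝒜 l) (ht₁ : t₁ ∈ 𝒜 l) (ht : t ∈ 𝒜 n)
    (hW₁ : ∀ x : ProjectiveSpectrum 𝒜, x ∈ W → t₁ ∉ x.asHomogeneousIdeal)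
    (hW : ∀ x : ProjectiveSpectrum 𝒜, x ∈ W → t ∉ x.asHomogeneousIdeal) (m : M D F) :
    evalFrac D F j hWj (SetLike.mul_mem_graded ht₁ ht)
        (fun x hx h => (x.isPrime.mem_or_mem h).elim (hW₁ x hx) (hW x hx)) (a • m) =
      fracO 𝒜 ha ht₁ W hW₁ • evalFrac D F j hWj ht hW m := by
  unfold evalFrac
  rw [comp_smul D F ha, mres_smul, smul_smul, smul_smul]
  congr 1
  unfold coef
  rw [fracO_res, fracO_mul, fracO_mul]
  refine fracO_eq_of_mul_eq 𝒜 _ _ _ _ _ _ _ ?_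
  ring

theorem alphaB_add (b : BIdx D) (s s' : Γ(Mtilde D F, B D b)) :
    alphaB D F b (s + s') = alphaB D F b s + alphaB D F b s' := by
  obtain ⟨n, t, ht, hW, m, hm, hs⟩ := exists_rep D F b s
  obtain ⟨n', t', ht', hW', m', hm', hs'⟩ := exists_rep D F b s'
  have hT : t * t' ∈ 𝒜 (n + n') := SetLike.mul_mem_graded ht ht'
  have hWT : ∀ x : ProjectiveSpectrum 𝒜, x ∈ B D b → t * t' ∉ x.asHomogeneousIdeal :=
    fun x hx h => (x.isPrime.mem_or_mem h).elim (hW x hx) (hW' x hx)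
  have hm1 : t' • m ∈ grading D F (n + n') :=
    add_comm n' n ▸ SetLike.GradedSMul.smul_mem ht' hm
  have hm2 : t • m' ∈ grading D F (n + n') := SetLike.GradedSMul.smul_mem ht hm'
  have e1 : alphaB D F b (s + s') = evalFrac D F b.1 (B_le D b) hT hWT (t' • m + t • m') := by
    refine alphaB_eq D F b (s + s') hT hWT (add_mem hm1 hm2) (fun z hz => ?_)
    refine (congrArg₂ (· + ·) (hs z hz) (hs' z hz)).trans ?_
    rw [LocalizedModule.mk_add_mk]
    rfl
  have e2 : evalFrac D F b.1 (B_le D b) hT hWT (t' • m) = alphaB D F b s := by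
    rw [alphaB_eq D F b s ht hW hm hs]
    refine evalFrac_eq_of_frac_eq D F b.1 (B_le D b) hT ht hWT hW hm1 hm (fun z hz => ?_)
    rw [LocalizedModule.mk_eq]
    refine ⟨1, ?_⟩
    simp only [one_smul, Submonoid.smul_def, ← mul_smul]
  have e3 : evalFrac D F b.1 (B_le D b) hT hWT (t • m') = alphaB D F b s' := by
    rw [alphaB_eq D F b s' ht' hW' hm' hs']
    refine evalFrac_eq_of_frac_eq D F b.1 (B_le D b) hT ht' hWT hW' hm2 hm' (fun z hz => ?_)
    rw [LocalizedModule.mk_eq]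
    refine ⟨1, ?_⟩
    simp only [one_smul, Submonoid.smul_def, ← mul_smul]
    congr 1
    ring
  rw [e1, evalFrac_add, e2, e3]

theorem alphaB_smul (b : BIdx D) (r : Γ(Proj 𝒜, B D b)) (s : Γ(Mtilde D F, B D b)) :
    alphaB D F b (r • s) = r • alphaB D F b s := by
  obtain ⟨n, t, ht, hW, m, hm, hs⟩ := exists_rep D F b s
  have hd : 0 < 1 + b.2.1 := by omega
  have hbij : Function.Bijective (Proj.awayToSection 𝒜 (bg D b)).hom := by
    have := ConcreteCategory.bijective_of_isIso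
      (Proj.basicOpenIsoAway 𝒜 (bg D b) (bg_mem D b) hd).hom
    rwa [Proj.basicOpenIsoAway_hom] at this
  obtain ⟨a', rfl⟩ := hbij.2 r
  obtain ⟨l, a, ha, rfl⟩ := Away.mk_surjective 𝒜 (bg_mem D b) a'
  have hgl : bg D b ^ l ∈ 𝒜 (l • (1 + b.2.1)) := SetLike.pow_mem_graded l (bg_mem D b)
  have hWl : ∀ x : ProjectiveSpectrum 𝒜, x ∈ B D b → bg D b ^ l ∉ x.asHomogeneousIdeal :=
    fun x hx h => hx (x.isPrime.mem_of_pow_mem l h)
  have e1 : alphaB D F b ((Proj.awayToSection 𝒜 (bg D b)).hom (Away.mk 𝒜 (bg_mem D b) l a ha) • s) =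
      evalFrac D F b.1 (B_le D b) (SetLike.mul_mem_graded hgl ht)
        (fun x hx h => (x.isPrime.mem_or_mem h).elim (hWl x hx) (hW x hx)) (a • m) := by
    refine alphaB_eq D F b _ _ _ (SetLike.GradedSMul.smul_mem ha hm) (fun z hz => ?_)
    refine (tilde_smul_val 𝒜 (grading D F) 0 _ _ s ⟨z, hz⟩).trans ?_
    refine (congrArg₂ (· • ·) (awayToSection_apply_val 𝒜 (bg_mem D b) l a ha z hz)
      (hs z hz)).trans ?_
    rw [LocalizedModule.mk_smul_mk]
    rfl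
  rw [e1, evalFrac_smul D F b.1 (B_le D b) ha hgl ht hWl hW, alphaB_eq D F b s ht hW hm hs,
    awayToSection_eq_fracO]

theorem alphaB_res (b b' : BIdx D) (h : B D b' ≤ B D b) (s : Γ(Mtilde D F, B D b)) :
    alphaB D F b' (mres (Mtilde D F) h s) = mres F h (alphaB D F b s) := by
  obtain ⟨n, t, ht, hW, m, hm, hs⟩ := exists_rep D F b s
  rw [alphaB_eq D F b s ht hW hm hs, evalFrac_res]
  rw [alphaB_eq D F b' (mres (Mtilde D F) h s) ht (fun x hx => hW x (h hx)) hm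
    (fun z hz => hs z (h hz))]
  exact evalFrac_indep D F b.1 b'.1 _ _ ht _ hm

end

end GammaStar

end Groth.Agent.H18
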