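import Groth.Agent.H18.GammaStar
import Groth.Agent.H18.GrModBasic

set_option autoImplicit false
universe u

open CategoryTheory CategoryTheory.Limits AlgebraicGeometry TopologicalSpace Opposite
open HomogeneousLocalization

namespace Groth.Agent.H18

theorem modules_eq_of_locally_eq {X : Scheme.{u}} (F : X.Modules) {W : X.Opens} (s t : Γ(F, W))
    (h : ∀ x ∈ W, ∃ (V : X.Opens) (hV : V ≤ W), x ∈ V ∧ mres F hV s = mres F hV t) : s = t := by
  choose V hV hxV hst using h
  let Fs : TopCat.Sheaf AddCommGrpCat X.toTopCat := ⟨F.presheaf, F.isSheaf⟩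
  refine TopCat.Sheaf.eq_of_locally_eq' Fs (fun x : W => V x.1 x.2) W
    (fun x => homOfLE (hV x.1 x.2)) ?_ s t (fun x => hst x.1 x.2)
  intro x hx
  exact Opens.mem_iSup.mpr ⟨⟨x, hx⟩, hxV x hx⟩

namespace GammaStar

section

variable {R A : Type u} [CommRing R] [CommRing A] [Algebra R A]
variable {𝒜 : ℕ → Submodule R A} [GradedAlgebra 𝒜]
variable (D : Charts 𝒜) (F : (Proj 𝒜).Modules)

/-- the `j`-th entry of (the sum of the homogeneous components of) an element of `Γ_*(F)` -/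
noncomputable def comp (j : D.I) : M D F →+ Γ(F, U D j) :=
  DirectSum.toAddMonoid (β := fun n => Compat D F n) (fun n =>
    (Pi.evalAddMonoidHom (fun i : D.I => Γ(F, U D i)) j).comp (Compat D F n).subtype)

theorem comp_of (j : D.I) (n : ℕ) (x : Compat D F n) : comp D F j (of D F n x) = x.1 j :=
  DirectSum.toAddMonoid_of (β := fun n => Compat D F n) _ n x

@[elab_as_elim]
theorem M_induction {motive : M D F → Prop} (zero : motive 0)
    (of : ∀ n x, motive (of D F n x))
    (add : ∀ m m', motive m → motive m' → motive (m + m')) (m : M D F) : motive m :=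
  DirectSum.induction_on (β := fun n => Compat D F n) (motive := motive) m zero of add

theorem comp_smul {k : ℕ} {a : A} (ha : a ∈ 𝒜 k) (j : D.I) (m : M D F) :
    comp D F j (a • m) = coef D ha j • comp D F j m := by
  induction m using M_induction with
  | zero => rw [smul_zero, map_zero, smul_zero]
  | of n x =>
    rw [smul_of D F ha x, comp_of, comp_of]
    rfl
  | add m m' hm hm' => rw [smul_add, map_add, map_add, hm, hm', smul_add]

theorem comp_compat {n : ℕ} {m : M D F} (hm : m ∈ grading D F n) (i j : D.I) :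
    mres F (inf_le_right : U D i ⊓ U D j ≤ U D j) (comp D F j m) =
      trans D n i j • mres F (inf_le_left : U D i ⊓ U D j ≤ U D i) (comp D F i m) := by
  obtain ⟨x, rfl⟩ := hm
  rw [comp_of, comp_of]
  exact x.2 i j

/-- the section `m / t` of `F` over an open `W ⊆ D₊(f j)` where `t` does not vanish -/
noncomputable def evalFrac (j : D.I) {W : (Proj 𝒜).Opens} (hWj : W ≤ U D j) {n : ℕ} {t : A}
    (ht : t ∈ 𝒜 n) (hW : ∀ x : ProjectiveSpectrum 𝒜, x ∈ W → t ∉ x.asHomogeneousIdeal)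
    (m : M D F) : Γ(F, W) :=
  fracO 𝒜 (fpow_mem D j n) ht W hW • mres F hWj (comp D F j m)

theorem evalFrac_add (j : D.I) {W : (Proj 𝒜).Opens} (hWj : W ≤ U D j) {n : ℕ} {t : A}
    (ht : t ∈ 𝒜 n) (hW : ∀ x : ProjectiveSpectrum 𝒜, x ∈ W → t ∉ x.asHomogeneousIdeal)
    (m m' : M D F) :
    evalFrac D F j hWj ht hW (m + m') = evalFrac D F j hWj ht hW m + evalFrac D F j hWj ht hW m' := by
  unfold evalFrac
  rw [map_add, map_add, smul_add]

theorem evalFrac_res (j : D.I) {W W' : (Proj 𝒜).Opens} (hWj : W ≤ U D j) (h : W' ≤ W) {n : ℕ}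
    {t : A} (ht : t ∈ 𝒜 n)
    (hW : ∀ x : ProjectiveSpectrum 𝒜, x ∈ W → t ∉ x.asHomogeneousIdeal) (m : M D F) :
    mres F h (evalFrac D F j hWj ht hW m) =
      evalFrac D F j (h.trans hWj) ht (fun x hx => hW x (h hx)) m := by
  unfold evalFrac
  rw [mres_smul, mres_mres, fracO_res]

theorem evalFrac_indep (i j : D.I) {W : (Proj 𝒜).Opens} (hWi : W ≤ U D i) (hWj : W ≤ U D j)
    {n : ℕ} {t : A} (ht : t ∈ 𝒜 n)
    (hW : ∀ x : ProjectiveSpectrum 𝒜, x ∈ W → t ∉ x.asHomogeneousIdeal)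
    {m : M D F} (hm : m ∈ grading D F n) :
    evalFrac D F j hWj ht hW m = evalFrac D F i hWi ht hW m := by
  unfold evalFrac
  have hWij : W ≤ U D i ⊓ U D j := le_inf hWi hWj
  have h1 : mres F hWj (comp D F j m) =
      mres F hWij (mres F (inf_le_right : U D i ⊓ U D j ≤ U D j) (comp D F j m)) :=
    (mres_mres F _ _ _).symm
  have h2 : mres F hWi (comp D F i m) =
      mres F hWij (mres F (inf_le_left : U D i ⊓ U D j ≤ U D i) (comp D F i m)) :=
    (mres_mres F _ _ _).symm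
  rw [h1, h2, comp_compat D F hm i j, mres_smul, smul_smul]
  congr 1
  unfold trans
  rw [fracO_res, fracO_mul]
  refine fracO_eq_of_mul_eq 𝒜 _ _ _ _ _ _ _ ?_
  ring

theorem exists_homogeneous_notMem {z : ProjectiveSpectrum 𝒜} {u : A}
    (hu : u ∉ z.asHomogeneousIdeal) :
    ∃ c : ℕ, ((DirectSum.decompose 𝒜 u c : 𝒜 c) : A) ∉ z.asHomogeneousIdeal := by
  classical
  by_contra hcon
  push Not at hcon
  apply hu
  rw [← DirectSum.sum_support_decompose 𝒜 u]
  exact Ideal.sum_mem _ fun c _ => hcon c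

theorem evalFrac_eq_of_frac_eq (j : D.I) {W : (Proj 𝒜).Opens} (hWj : W ≤ U D j)
    {n n' : ℕ} {t t' : A} (ht : t ∈ 𝒜 n) (ht' : t' ∈ 𝒜 n')
    (hW : ∀ x : ProjectiveSpectrum 𝒜, x ∈ W → t ∉ x.asHomogeneousIdeal)
    (hW' : ∀ x : ProjectiveSpectrum 𝒜, x ∈ W → t' ∉ x.asHomogeneousIdeal)
    {m m' : M D F} (hm : m ∈ grading D F n) (hm' : m' ∈ grading D F n')
    (h : ∀ (z : ProjectiveSpectrum 𝒜) (hz : z ∈ W),
      (LocalizedModule.mk m (⟨t, hW z hz⟩ : z.asHomogeneousIdeal.toIdeal.primeCompl) :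
        GrTilde.LocMod 𝒜 (M := M D F) z) = LocalizedModule.mk m' ⟨t', hW' z hz⟩) :
    evalFrac D F j hWj ht hW m = evalFrac D F j hWj ht' hW' m' := by
  refine modules_eq_of_locally_eq F _ _ (fun z hz => ?_)
  obtain ⟨u, hu⟩ := LocalizedModule.mk_eq.mp (h z hz)
  simp only [Submonoid.smul_def] at hu
  have hy : t' • m - t • m' ∈ grading D F (n' + n) :=
    sub_mem (SetLike.GradedSMul.smul_mem ht' hm)
      (add_comm n n' ▸ SetLike.GradedSMul.smul_mem ht hm')
  have huy : (u : A) • (t' • m - t • m') = 0 := by rw [smul_sub, hu, sub_self]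
  obtain ⟨c, hc⟩ := exists_homogeneous_notMem (𝒜 := 𝒜) u.2
  set v : A := ((DirectSum.decompose 𝒜 (u : A) c : 𝒜 c) : A) with hv_def
  have hv : v ∈ 𝒜 c := Subtype.prop _
  have hvy : v • (t' • m - t • m') = 0 :=
    decompose_smul_eq_zero 𝒜 (grading D F) hy huy c
  have hvy' : v • t' • m = v • t • m' := by
    rwa [smul_sub, sub_eq_zero] at hvy
  have hcomp := congrArg (comp D F j) hvy'
  rw [comp_smul D F hv, comp_smul D F ht', comp_smul D F hv, comp_smul D F ht] at hcomp
  -- restrict to `V = W ⊓ D₊(v)`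
  let V : (Proj 𝒜).Opens := W ⊓ Proj.basicOpen 𝒜 v
  have hVW : V ≤ W := inf_le_left
  have hzV : z ∈ V := ⟨hz, hc⟩
  refine ⟨V, hVW, hzV, ?_⟩
  rw [evalFrac_res, evalFrac_res]
  unfold evalFrac
  have hres := congrArg (mres F (hVW.trans hWj)) hcomp
  rw [mres_smul, mres_smul, mres_smul, mres_smul] at hres
  unfold coef at hres
  rw [fracO_res, fracO_res, fracO_res] at hres
  have hVt : ∀ x : ProjectiveSpectrum 𝒜, x ∈ V → v * t * t' ∉ x.asHomogeneousIdeal := by
    intro x hx hmem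
    rcases x.isPrime.mem_or_mem hmem with h1 | h1
    · rcases x.isPrime.mem_or_mem h1 with h2 | h2
      · exact hx.2 h2
      · exact hW x hx.1 h2
    · exact hW' x hx.1 h1
  have hvtt : v * t * t' ∈ 𝒜 (c + n + n') :=
    SetLike.mul_mem_graded (SetLike.mul_mem_graded hv ht) ht'
  have key := congrArg (fun y => fracO 𝒜 (fpow_mem D j (c + n + n')) hvtt V hVt • y) hres
  simp only [smul_smul, fracO_mul] at key
  refine Eq.trans ?_ (key.trans ?_)
  · congr 1
    refine fracO_eq_of_mul_eq 𝒜 _ _ _ _ _ _ _ ?_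
    ring
  · congr 1
    refine fracO_eq_of_mul_eq 𝒜 _ _ _ _ _ _ _ ?_
    ring

end

end GammaStar

end Groth.Agent.H18
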