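import Groth.Agent.H18.GammaStarInj

set_option autoImplicit false
universe u

open CategoryTheory CategoryTheory.Limits AlgebraicGeometry TopologicalSpace Opposite
open HomogeneousLocalization

namespace Groth.Agent.H18

section

variable {R A : Type u} [CommRing R] [CommRing A] [Algebra R A]
variable (𝒜 : ℕ → Submodule R A) [GradedAlgebra 𝒜]
variable (F : (Proj 𝒜).Modules) [F.IsQuasicoherent]

/-- variant of `proj_qc_inj` over an open which is only propositionally `D₊(f)` -/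
theorem proj_qc_inj' {d : ℕ} (hd : 0 < d) {f : A} (hf : f ∈ 𝒜 d) (k : ℕ) {g : A}
    (hg : g ∈ 𝒜 (k • d)) (W : (Proj 𝒜).Opens) (hWf : W = Proj.basicOpen 𝒜 f)
    (x : Γ(F, W)) (hT : Proj.basicOpen 𝒜 (f * g) ≤ W) (hx : mres F hT x = 0) :
    ∃ (N : ℕ), fracO 𝒜 hg (SetLike.pow_mem_graded k hf) W
        (fun x hx h => (hWf ▸ hx : x ∈ Proj.basicOpen 𝒜 f) (x.isPrime.mem_of_pow_mem k h)) ^ N •
        x = 0 := by
  subst hWf
  exact proj_qc_inj 𝒜 F hd hf k hg x hx

end

namespace GammaStar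

section

variable {R A : Type u} [CommRing R] [CommRing A] [Algebra R A]
variable {𝒜 : ℕ → Submodule R A} [GradedAlgebra 𝒜]
variable (D : Charts 𝒜) (F : (Proj 𝒜).Modules)

/-- `f_j / f_l` on `D₊(f_l)` -/
noncomputable def phi (j l : D.I) : Γ(Proj 𝒜, U D l) :=
  fracO 𝒜 (D.hf j) (SetLike.pow_mem_graded 1 (D.hf l)) (U D l)
    (fun x hx h => hx (x.isPrime.mem_of_pow_mem 1 h))

/-- `D₊(f_l f_j)` -/
abbrev V (j l : D.I) : (Proj 𝒜).Opens := Proj.basicOpen 𝒜 (D.f l * D.f j)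

theorem V_le_left (j l : D.I) : V D j l ≤ U D l := basicOpen_mul_le_left 𝒜 _ _

theorem V_le_right (j l : D.I) : V D j l ≤ U D j := by
  intro x hx h
  exact hx (Ideal.mul_mem_left _ _ h)

variable [Fintype D.I] [F.IsQuasicoherent]

theorem exists_uniform_extension (j : D.I) (τ' : Γ(F, U D j)) :
    ∃ (n₀ : ℕ) (y : ∀ l : D.I, Γ(F, U D l)), ∀ l,
      (Proj 𝒜).presheaf.map (homOfLE (V_le_left D j l)).op (phi D j l) ^ n₀ •
        mres F (V_le_right D j l) τ' = mres F (V_le_left D j l) (y l) := by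
  classical
  have hfj1 : D.f j ∈ 𝒜 (1 • 1) := by simpa using D.hf j
  have h1 : ∀ l : D.I, ∃ (N : ℕ) (x : Γ(F, U D l)),
      (Proj 𝒜).presheaf.map (homOfLE (V_le_left D j l)).op (phi D j l) ^ N •
        mres F (V_le_right D j l) τ' = mres F (V_le_left D j l) x := by
    intro l
    obtain ⟨N, x, hx⟩ := proj_qc_surj 𝒜 F one_pos (D.hf l) 1 hfj1 (mres F (V_le_right D j l) τ')
    exact ⟨N, x, hx⟩
  choose nl yl hyl using h1
  refine ⟨Finset.univ.sup nl, fun l => phi D j l ^ (Finset.univ.sup nl - nl l) • yl l, fun l => ?_⟩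
  have hle : nl l ≤ Finset.univ.sup nl := Finset.le_sup (Finset.mem_univ l)
  rw [mres_smul, ← hyl l, smul_smul, map_pow, ← pow_add, Nat.sub_add_cancel hle]

theorem f2_mem (l l' : D.I) : D.f l * D.f l' ∈ 𝒜 (1 + 1) :=
  SetLike.mul_mem_graded (D.hf l) (D.hf l')

theorem g2_mem (j : D.I) : D.f j ^ 2 ∈ 𝒜 (1 • (1 + 1)) := by
  simpa using SetLike.pow_mem_graded 2 (D.hf j)

theorem W2_eq (l l' : D.I) : U D l ⊓ U D l' = Proj.basicOpen 𝒜 (D.f l * D.f l') :=
  (Proj.basicOpen_mul 𝒜 _ _).symm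

/-- `f_j ^ 2 / (f_l f_l')` on `D₊(f_l) ⊓ D₊(f_l')` -/
noncomputable def psi (j l l' : D.I) : Γ(Proj 𝒜, U D l ⊓ U D l') :=
  fracO 𝒜 (g2_mem D j) (SetLike.pow_mem_graded 1 (f2_mem D l l')) (U D l ⊓ U D l')
    (fun x hx h => ((W2_eq D l l') ▸ hx : x ∈ Proj.basicOpen 𝒜 (D.f l * D.f l'))
      (x.isPrime.mem_of_pow_mem 1 h))

/-- the defect of compatibility of a family `y` in degree `n₀` -/
noncomputable def delta (y : ∀ l : D.I, Γ(F, U D l)) (n₀ : ℕ) (l l' : D.I) :
    Γ(F, U D l ⊓ U D l') :=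
  mres F (inf_le_right : U D l ⊓ U D l' ≤ U D l') (y l') -
    trans D n₀ l l' • mres F (inf_le_left : U D l ⊓ U D l' ≤ U D l) (y l)

theorem exists_pow_smul_delta_eq_zero (j : D.I) (τ' : Γ(F, U D j)) (n₀ : ℕ)
    (y : ∀ l : D.I, Γ(F, U D l))
    (hy : ∀ l, (Proj 𝒜).presheaf.map (homOfLE (V_le_left D j l)).op (phi D j l) ^ n₀ •
        mres F (V_le_right D j l) τ' = mres F (V_le_left D j l) (y l)) (l l' : D.I) :
    ∃ N : ℕ, psi D j l l' ^ N • delta D F y n₀ l l' = 0 := by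
  have hT : Proj.basicOpen 𝒜 (D.f l * D.f l' * D.f j ^ 2) ≤ U D l ⊓ U D l' := by
    intro x hx
    exact ⟨fun h => hx (Ideal.mul_mem_right _ _ (Ideal.mul_mem_right _ _ h)),
      fun h => hx (Ideal.mul_mem_right _ _ (Ideal.mul_mem_left _ _ h))⟩
  have hTj : ∀ x : ProjectiveSpectrum 𝒜, x ∈ Proj.basicOpen 𝒜 (D.f l * D.f l' * D.f j ^ 2) →
      D.f j ∉ x.asHomogeneousIdeal := by
    intro x hx h
    exact hx (Ideal.mul_mem_left _ _ (Ideal.pow_mem_of_mem _ h 2 (by norm_num)))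
  have hTV : Proj.basicOpen 𝒜 (D.f l * D.f l' * D.f j ^ 2) ≤ V D j l := by
    intro x hx h
    rcases x.isPrime.mem_or_mem h with h | h
    · exact (hT hx).1 h
    · exact hTj x hx h
  have hTV' : Proj.basicOpen 𝒜 (D.f l * D.f l' * D.f j ^ 2) ≤ V D j l' := by
    intro x hx h
    rcases x.isPrime.mem_or_mem h with h | h
    · exact (hT hx).2 h
    · exact hTj x hx h
  refine proj_qc_inj' 𝒜 F (by norm_num : 0 < 1 + 1) (f2_mem D l l') 1 (g2_mem D j) _
    (W2_eq D l l') (delta D F y n₀ l l') hT ?_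
  unfold delta
  rw [map_sub, mres_smul, mres_mres, mres_mres]
  have e1 : mres F (hT.trans inf_le_right) (y l') =
      mres F hTV' (mres F (V_le_left D j l') (y l')) := (mres_mres F _ _ _).symm
  have e2 : mres F (hT.trans inf_le_left) (y l) =
      mres F hTV (mres F (V_le_left D j l) (y l)) := (mres_mres F _ _ _).symm
  rw [e1, e2, ← hy l, ← hy l', mres_smul, mres_smul, mres_mres, mres_mres, smul_smul,
    sub_eq_zero]
  congr 1
  unfold phi trans
  simp only [map_pow, fracO_res, fracO_pow, fracO_mul]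
  refine fracO_eq_of_mul_eq 𝒜 _ _ _ _ _ _ _ ?_
  simp only [pow_one]
  ring

theorem phi_self (j : D.I) : phi D j j = 1 := by
  unfold phi
  rw [← fracO_self 𝒜 (D.hf j) (U D j) (fun x hx => hx)]
  refine fracO_eq_of_mul_eq 𝒜 _ _ _ _ _ _ _ ?_
  simp only [pow_one]

theorem exists_extension (j : D.I) (τ' : Γ(F, U D j)) :
    ∃ (n : ℕ) (m : M D F), m ∈ grading D F n ∧ comp D F j m = τ' := by
  classical
  obtain ⟨n₀, y, hy⟩ := exists_uniform_extension D F j τ'
  choose Nll hNll using fun l l' => exists_pow_smul_delta_eq_zero D F j τ' n₀ y hy l l'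
  set N := Finset.univ.sup (fun l => Finset.univ.sup (Nll l)) with hNdef
  have hN : ∀ l l', psi D j l l' ^ N • delta D F y n₀ l l' = 0 := by
    intro l l'
    have h1 : Nll l l' ≤ Finset.univ.sup (Nll l) := Finset.le_sup (Finset.mem_univ l')
    have h2 : Finset.univ.sup (Nll l) ≤ N :=
      Finset.le_sup (f := fun l => Finset.univ.sup (Nll l)) (Finset.mem_univ l)
    obtain ⟨c, hc⟩ := Nat.exists_eq_add_of_le (h1.trans h2)
    rw [hc, add_comm, pow_add, mul_smul, hNll l l', smul_zero]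
  let q : Q D F := fun l => phi D j l ^ (2 * N) • y l
  have hq : q ∈ Compat D F (2 * N + n₀) := by
    intro l l'
    rw [← sub_eq_zero]
    have hA : trans D (2 * N + n₀) l l' *
        (Proj 𝒜).presheaf.map (homOfLE (inf_le_left : U D l ⊓ U D l' ≤ U D l)).op
          (phi D j l ^ (2 * N)) =
        (Proj 𝒜).presheaf.map (homOfLE (inf_le_right : U D l ⊓ U D l' ≤ U D l')).op
          (phi D j l' ^ (2 * N)) * trans D n₀ l l' := by
      unfold phi trans
      simp only [fracO_pow, fracO_res, fracO_mul]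
      refine fracO_eq_of_mul_eq 𝒜 _ _ _ _ _ _ _ ?_
      simp only [pow_one]
      ring
    have hB : (Proj 𝒜).presheaf.map (homOfLE (inf_le_right : U D l ⊓ U D l' ≤ U D l')).op
          (phi D j l' ^ (2 * N)) =
        fracO 𝒜 (fpow_mem D l N) (fpow_mem D l' N) (U D l ⊓ U D l')
          (fun _ hx => notMem_of_mem_U D hx.2 N) * psi D j l l' ^ N := by
      unfold phi psi
      simp only [fracO_pow, fracO_res, fracO_mul]
      refine fracO_eq_of_mul_eq 𝒜 _ _ _ _ _ _ _ ?_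
      simp only [pow_one]
      ring
    change mres F _ (phi D j l' ^ (2 * N) • y l') -
      trans D (2 * N + n₀) l l' • mres F _ (phi D j l ^ (2 * N) • y l) = 0
    rw [mres_smul, mres_smul, smul_smul, hA, ← smul_smul, ← smul_sub]
    change _ • delta D F y n₀ l l' = 0
    rw [hB, ← smul_smul, hN l l', smul_zero]
  refine ⟨2 * N + n₀, of D F (2 * N + n₀) ⟨q, hq⟩, ⟨⟨q, hq⟩, rfl⟩, ?_⟩
  rw [comp_of]
  change phi D j j ^ (2 * N) • y j = τ'
  rw [phi_self, one_pow, one_smul]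
  have hVU : V D j j = U D j := by
    change Proj.basicOpen 𝒜 (D.f j * D.f j) = _
    rw [Proj.basicOpen_mul, inf_idem]
  have h1 := hy j
  rw [phi_self, map_one, one_pow, one_smul] at h1
  exact (mres_injective_of_eq F hVU h1).symm

end

end GammaStar

end Groth.Agent.H18
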