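import Groth.Agent.H18.GammaStarAlpha
import Mathlib.Topology.Sheaves.SheafCondition.Sites

set_option autoImplicit false
universe u

open CategoryTheory CategoryTheory.Limits AlgebraicGeometry TopologicalSpace Opposite
open HomogeneousLocalization

namespace Groth.Agent.H18

namespace GammaStar

section

variable {R A : Type u} [CommRing R] [CommRing A] [Algebra R A]
variable {𝒜 : ℕ → Submodule R A} [GradedAlgebra 𝒜]
variable (D : Charts 𝒜) (F : (Proj 𝒜).Modules)

theorem exists_B_le (hcov : ∀ x : ProjectiveSpectrum 𝒜, ∃ j, D.f j ∉ x.asHomogeneousIdeal)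
    {V : (Proj 𝒜).Opens} {x : ProjectiveSpectrum 𝒜} (hx : x ∈ V) :
    ∃ b : BIdx D, x ∈ B D b ∧ B D b ≤ V := by
  obtain ⟨j, hj⟩ := hcov x
  obtain ⟨l, a, ha, hax, hsub⟩ := exists_homogeneous_basicOpen_subset 𝒜 x V.2 hx
  refine ⟨⟨j, l, ⟨a, ha⟩⟩, ?_, ?_⟩
  · intro h
    exact (x.isPrime.mem_or_mem h).elim hj hax
  · intro y hy
    exact hsub y (fun h => hy (Ideal.mul_mem_left _ _ h))

theorem isBasis_B (hcov : ∀ x : ProjectiveSpectrum 𝒜, ∃ j, D.f j ∉ x.asHomogeneousIdeal) :
    Opens.IsBasis (Set.range (B D)) := by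
  rw [Opens.isBasis_iff_nbhd]
  intro V x hx
  obtain ⟨b, hxb, hbV⟩ := exists_B_le D hcov (V := V) hx
  exact ⟨B D b, ⟨b, rfl⟩, hxb, hbV⟩

/-- `alphaB` as a natural transformation on the basis -/
noncomputable def alphaNat :
    (inducedFunctor (B D)).op ⋙ (Mtilde D F).presheaf ⟶
      (inducedFunctor (B D)).op ⋙ F.presheaf where
  app b := AddCommGrpCat.ofHom
    { toFun := alphaB D F b.unop
      map_zero' := by
        have := alphaB_add D F b.unop 0 0
        rw [add_zero] at this
        exact left_eq_add.mp this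
      map_add' := alphaB_add D F b.unop }
  naturality := by
    intro b b' φ
    ext s
    exact alphaB_res D F b.unop b'.unop (leOfHom φ.unop.hom) s

variable (hcov : ∀ x : ProjectiveSpectrum 𝒜, ∃ j, D.f j ∉ x.asHomogeneousIdeal)

/-- the comparison map `M~ → F` on underlying abelian presheaves -/
noncomputable def alphaPre : (Mtilde D F).presheaf ⟶ F.presheaf :=
  TopCat.Sheaf.restrictHomEquivHom (Mtilde D F).presheaf
    (⟨F.presheaf, F.isSheaf⟩ : TopCat.Sheaf AddCommGrpCat (Proj 𝒜).toTopCat)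
    (isBasis_B D hcov) (alphaNat D F)

theorem alphaPre_app_B (b : BIdx D) (s : Γ(Mtilde D F, B D b)) :
    (alphaPre D F hcov).app (op (B D b)) s = alphaB D F b s := by
  have := TopCat.Sheaf.extend_hom_app (Mtilde D F).presheaf
    (⟨F.presheaf, F.isSheaf⟩ : TopCat.Sheaf AddCommGrpCat (Proj 𝒜).toTopCat)
    (isBasis_B D hcov) (alphaNat D F) b
  exact ConcreteCategory.congr_hom this s

theorem alphaPre_res {V V' : (Proj 𝒜).Opens} (h : V' ≤ V) (s : Γ(Mtilde D F, V)) :
    (alphaPre D F hcov).app (op V') (mres (Mtilde D F) h s) =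
      mres F h ((alphaPre D F hcov).app (op V) s) :=
  ConcreteCategory.congr_hom ((alphaPre D F hcov).naturality (homOfLE h).op) s

theorem alphaPre_smul (V : (Proj 𝒜).Opens) (r : Γ(Proj 𝒜, V)) (s : Γ(Mtilde D F, V)) :
    (alphaPre D F hcov).app (op V) (r • s) = r • (alphaPre D F hcov).app (op V) s := by
  refine modules_eq_of_locally_eq F _ _ (fun x hx => ?_)
  obtain ⟨b, hxb, hbV⟩ := exists_B_le D hcov (V := V) hx
  refine ⟨B D b, hbV, hxb, ?_⟩
  rw [← alphaPre_res, mres_smul, mres_smul, alphaPre_app_B, alphaB_smul, ← alphaPre_app_B D F hcov,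
    alphaPre_res]

/-- the comparison morphism `M~ → F` -/
noncomputable def alpha : Mtilde D F ⟶ F :=
  ⟨PresheafOfModules.homMk (alphaPre D F hcov) (fun V r s => alphaPre_smul D F hcov V.unop r s)⟩

theorem alpha_app_B (b : BIdx D) (s : Γ(Mtilde D F, B D b)) :
    (alpha D F hcov).app (B D b) s = alphaB D F b s :=
  alphaPre_app_B D F hcov b s

end

end GammaStar

end Groth.Agent.H18
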