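import Groth.Agent.H18.ProjFracO
import Groth.Agent.H18.QCohLocalize
import Groth.Agent.H18.QCohCriterion

set_option autoImplicit false
universe u

open CategoryTheory CategoryTheory.Limits AlgebraicGeometry TopologicalSpace Opposite
open HomogeneousLocalization

namespace Groth.Agent.H18

section

variable {R A : Type u} [CommRing R] [CommRing A] [Algebra R A]
variable (𝒜 : ℕ → Submodule R A) [GradedAlgebra 𝒜]

theorem fracO_pow {n : ℕ} {a t : A} (ha : a ∈ 𝒜 n) (ht : t ∈ 𝒜 n) (W : (Proj 𝒜).Opens)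
    (hW : ∀ x : ProjectiveSpectrum 𝒜, x ∈ W → t ∉ x.asHomogeneousIdeal) (N : ℕ) :
    fracO 𝒜 ha ht W hW ^ N =
      fracO 𝒜 (SetLike.pow_mem_graded N ha) (SetLike.pow_mem_graded N ht) W
        (fun x hx h => hW x hx (x.isPrime.mem_of_pow_mem N h)) := by
  refine projSection_ext 𝒜 _ _ (fun x => ?_)
  change ((fracO 𝒜 ha ht W hW).1 x ^ N).val = _
  rw [HomogeneousLocalization.val_pow, fracO_val, fracO_val, Localization.mk_pow]
  rfl

theorem fracO_mul_inv {n : ℕ} {a t : A} (ha : a ∈ 𝒜 n) (ht : t ∈ 𝒜 n) (W : (Proj 𝒜).Opens)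
    (hW : ∀ x : ProjectiveSpectrum 𝒜, x ∈ W → t ∉ x.asHomogeneousIdeal)
    (hW' : ∀ x : ProjectiveSpectrum 𝒜, x ∈ W → a ∉ x.asHomogeneousIdeal) :
    fracO 𝒜 ht ha W hW' * fracO 𝒜 ha ht W hW = 1 := by
  rw [fracO_mul, ← fracO_self 𝒜 (SetLike.mul_mem_graded ht ha) W
    (fun x hx h => (x.isPrime.mem_or_mem h).elim (hW x hx) (hW' x hx))]
  refine fracO_eq_of_mul_eq 𝒜 _ _ _ _ _ _ _ ?_
  ring

variable (F : (Proj 𝒜).Modules) [F.IsQuasicoherent]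

theorem basicOpen_mul_le_left (f g : A) : Proj.basicOpen 𝒜 (f * g) ≤ Proj.basicOpen 𝒜 f := by
  intro x hx h
  exact hx (Ideal.mul_mem_right _ _ h)

theorem notMem_of_mem_basicOpen_mul {f g : A} (k : ℕ) {x : ProjectiveSpectrum 𝒜}
    (hx : x ∈ Proj.basicOpen 𝒜 (f * g)) : f ^ k ∉ x.asHomogeneousIdeal :=
  fun h => hx (Ideal.mul_mem_right _ _ (x.isPrime.mem_of_pow_mem k h))

/-- quasi-coherent modules on `Proj` localize: surjectivity -/
theorem proj_qc_surj {d : ℕ} (hd : 0 < d) {f : A} (hf : f ∈ 𝒜 d) (k : ℕ) {g : A}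
    (hg : g ∈ 𝒜 (k • d)) (y : Γ(F, Proj.basicOpen 𝒜 (f * g))) :
    ∃ (N : ℕ) (x : Γ(F, Proj.basicOpen 𝒜 f)),
      fracO 𝒜 hg (SetLike.pow_mem_graded k hf) (Proj.basicOpen 𝒜 (f * g))
        (fun _ hx => notMem_of_mem_basicOpen_mul 𝒜 k hx) ^ N • y =
        mres F (basicOpen_mul_le_left 𝒜 f g) x := by
  have hU : IsAffineOpen (Proj.basicOpen 𝒜 f) := Proj.isAffineOpen_basicOpen 𝒜 f hf hd
  set r := (Proj.awayToSection 𝒜 f).hom (Away.mk 𝒜 hf k g hg) with hr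
  have aux : ∀ (W : (Proj 𝒜).Opens) (_ : W = Proj.basicOpen 𝒜 (f * g))
      (hW : W ≤ Proj.basicOpen 𝒜 f) (y : Γ(F, W)),
      ∃ (N : ℕ) (x : Γ(F, Proj.basicOpen 𝒜 f)),
        ((Proj 𝒜).presheaf.map (homOfLE hW).op r) ^ N • y = mres F hW x := by
    intro W e hW y
    have e' : W = (Proj 𝒜).basicOpen r := e.trans (proj_basicOpen_awayToSection 𝒜 hf k g hg).symm
    subst e'
    exact exists_pow_smul_eq_res_of_isQuasicoherent F hU r y
  obtain ⟨N, x, hx⟩ := aux _ rfl (basicOpen_mul_le_left 𝒜 f g) y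
  refine ⟨N, x, ?_⟩
  rw [← hx, hr, awayToSection_eq_fracO, fracO_res]

/-- quasi-coherent modules on `Proj` localize: injectivity -/
theorem proj_qc_inj {d : ℕ} (hd : 0 < d) {f : A} (hf : f ∈ 𝒜 d) (k : ℕ) {g : A}
    (hg : g ∈ 𝒜 (k • d)) (x : Γ(F, Proj.basicOpen 𝒜 f))
    (hx : mres F (basicOpen_mul_le_left 𝒜 f g) x = 0) :
    ∃ (N : ℕ), fracO 𝒜 hg (SetLike.pow_mem_graded k hf) (Proj.basicOpen 𝒜 f)
        (fun x hx h => hx (x.isPrime.mem_of_pow_mem k h)) ^ N • x = 0 := by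
  have hU : IsAffineOpen (Proj.basicOpen 𝒜 f) := Proj.isAffineOpen_basicOpen 𝒜 f hf hd
  set r := (Proj.awayToSection 𝒜 f).hom (Away.mk 𝒜 hf k g hg) with hr
  have aux : ∀ (W : (Proj 𝒜).Opens) (_ : W = Proj.basicOpen 𝒜 (f * g))
      (hW : W ≤ Proj.basicOpen 𝒜 f), mres F hW x = 0 → ∃ (N : ℕ), r ^ N • x = 0 := by
    intro W e hW hx
    have e' : W = (Proj 𝒜).basicOpen r := e.trans (proj_basicOpen_awayToSection 𝒜 hf k g hg).symm
    subst e'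
    exact exists_pow_smul_eq_zero_of_isQuasicoherent F hU r x hx
  obtain ⟨N, hN⟩ := aux _ rfl (basicOpen_mul_le_left 𝒜 f g) hx
  refine ⟨N, ?_⟩
  rw [← hN, hr, awayToSection_eq_fracO]

end
end Groth.Agent.H18
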