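import Groth.Agent.H18.GammaStarHom
import Groth.Agent.H18.ProjQC

set_option autoImplicit false
universe u

open CategoryTheory CategoryTheory.Limits AlgebraicGeometry TopologicalSpace Opposite
open HomogeneousLocalization

namespace Groth.Agent.H18

namespace GammaStar

section

variable {R A : Type u} [CommRing R] [CommRing A] [Algebra R A]
variable {𝒜 : ℕ → Submodule R A} [GradedAlgebra 𝒜]
variable (D : Charts 𝒜) (F : (Proj 𝒜).Modules)

theorem eq_zero_of_comp_eq_zero {N : ℕ} {m : M D F} (hm : m ∈ grading D F N)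
    (h : ∀ l, comp D F l m = 0) : m = 0 := by
  obtain ⟨x, rfl⟩ := hm
  have : x = 0 := Subtype.ext (funext fun l => by rw [← comp_of D F l N x]; exact h l)
  rw [this, map_zero]

/-- `alphaB` as an additive map -/
noncomputable def alphaBHom (b : BIdx D) : Γ(Mtilde D F, B D b) →+ Γ(F, B D b) where
  toFun := alphaB D F b
  map_zero' := by
    have := alphaB_add D F b 0 0
    rw [add_zero] at this
    exact left_eq_add.mp this
  map_add' := alphaB_add D F b

theorem coef_pow_eq (j l : D.I) (N : ℕ) :
    coef D (SetLike.pow_mem_graded N (D.hf j)) l =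
      fracO 𝒜 (D.hf j) (SetLike.pow_mem_graded 1 (D.hf l)) (U D l)
        (fun x hx h => hx (x.isPrime.mem_of_pow_mem 1 h)) ^ N := by
  rw [fracO_pow]
  unfold coef
  refine fracO_eq_of_mul_eq 𝒜 _ _ _ _ _ _ _ ?_
  simp only [smul_eq_mul, mul_one, pow_one]

theorem alphaB_injective [Fintype D.I] [F.IsQuasicoherent] (b : BIdx D) :
    Function.Injective (alphaB D F b) := by
  classical
  have hinj : Function.Injective (alphaBHom D F b) := by
    rw [injective_iff_map_eq_zero]
    intro s hs0
    change alphaB D F b s = 0 at hs0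
    obtain ⟨n, t, ht, hW, m, hm, hs⟩ := exists_rep D F b s
    set j := b.1 with hj
    set e := b.2.1 with he
    have hg' : (b.2.2 : A) ∈ 𝒜 (e • 1) := by simp [he]
    -- step 1: `m_j` vanishes on `W`
    rw [alphaB_eq D F b s ht hW hm hs] at hs0
    have hfj : ∀ x : ProjectiveSpectrum 𝒜, x ∈ B D b → D.f j ^ n ∉ x.asHomogeneousIdeal :=
      fun x hx h => hx (Ideal.mul_mem_right _ _ (x.isPrime.mem_of_pow_mem n h))
    have h1 : mres F (B_le D b) (comp D F j m) = 0 := by
      have := congrArg (fun y => fracO 𝒜 ht (fpow_mem D j n) (B D b) hfj • y) hs0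
      unfold evalFrac at this
      simp only [smul_smul, smul_zero] at this
      rwa [fracO_mul_inv 𝒜 (fpow_mem D j n) ht (B D b) hW hfj, one_smul] at this
    -- step 2: a power of `g' / f_j ^ e` kills `m_j`
    obtain ⟨N₁, hN₁⟩ := proj_qc_inj 𝒜 F one_pos (D.hf j) e hg' (comp D F j m) h1
    -- step 3: for each `l`, `y_l = (g ^ N₁ / f_l ^ _) m_l` vanishes on `D₊(f_l f_j)`
    have hgN : bg D b ^ N₁ ∈ 𝒜 (N₁ • (1 + e)) := SetLike.pow_mem_graded N₁ (bg_mem D b)
    have hfj1 : D.f j ∈ 𝒜 (1 • 1) := by simpa using D.hf j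
    have hstep : ∀ l : D.I, ∃ N : ℕ,
        fracO 𝒜 (D.hf j) (SetLike.pow_mem_graded 1 (D.hf l)) (U D l)
          (fun x hx h => hx (x.isPrime.mem_of_pow_mem 1 h)) ^ N •
          (coef D hgN l • comp D F l m) = 0 := by
      intro l
      have hV : Proj.basicOpen 𝒜 (D.f l * D.f j) ≤ U D j ⊓ U D l := by
        intro x hx
        exact ⟨fun h => hx (Ideal.mul_mem_left _ _ h), fun h => hx (Ideal.mul_mem_right _ _ h)⟩
      have hres : mres F (basicOpen_mul_le_left 𝒜 (D.f l) (D.f j))
          (coef D hgN l • comp D F l m) = 0 := by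
        rw [mres_smul]
        have e1 : mres F (basicOpen_mul_le_left 𝒜 (D.f l) (D.f j)) (comp D F l m) =
            mres F hV (mres F (inf_le_right : U D j ⊓ U D l ≤ U D l) (comp D F l m)) :=
          (mres_mres F _ _ _).symm
        rw [e1, comp_compat D F hm j l, mres_smul, mres_mres]
        have e2 := congrArg (mres F (hV.trans inf_le_left)) hN₁
        rw [mres_smul, map_zero, map_pow] at e2
        -- rewrite the coefficient as a multiple of the killing power
        have e3 : (Proj 𝒜).presheaf.map (homOfLE (basicOpen_mul_le_left 𝒜 (D.f l) (D.f j))).op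
            (coef D hgN l) =
            fracO 𝒜 (fpow_mem D j (N₁ • (1 + e))) (fpow_mem D l (N₁ • (1 + e)))
              (Proj.basicOpen 𝒜 (D.f l * D.f j))
              (fun x hx => notMem_of_mem_U D (hV hx).2 _) *
            (Proj 𝒜).presheaf.map (homOfLE (hV.trans inf_le_left)).op
              (fracO 𝒜 hg' (SetLike.pow_mem_graded e (D.hf j)) (Proj.basicOpen 𝒜 (D.f j))
                (fun x hx h => hx (x.isPrime.mem_of_pow_mem e h))) ^ N₁ := by
          unfold coef
          rw [fracO_res, fracO_res, fracO_pow, fracO_mul]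
          refine fracO_eq_of_mul_eq 𝒜 _ _ _ _ _ _ _ ?_
          simp only [smul_eq_mul, mul_one]
          ring
        rw [e3, ← smul_smul]
        have hcomm := smul_comm
          ((Proj 𝒜).presheaf.map (homOfLE (hV.trans inf_le_left)).op
            (fracO 𝒜 hg' (SetLike.pow_mem_graded e (D.hf j)) (Proj.basicOpen 𝒜 (D.f j))
              (fun x hx h => hx (x.isPrime.mem_of_pow_mem e h))) ^ N₁)
          ((Proj 𝒜).presheaf.map (homOfLE hV).op (trans D n j l))
          (mres F (hV.trans inf_le_left) (comp D F j m))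
        rw [hcomm, e2, smul_zero, smul_zero]
      exact proj_qc_inj 𝒜 F one_pos (D.hf l) 1 hfj1 _ hres
    choose Nl hNl using hstep
    set N := Finset.univ.sup Nl with hNdef
    have hNl' : ∀ l : D.I,
        fracO 𝒜 (D.hf j) (SetLike.pow_mem_graded 1 (D.hf l)) (U D l)
          (fun x hx h => hx (x.isPrime.mem_of_pow_mem 1 h)) ^ N •
          (coef D hgN l • comp D F l m) = 0 := by
      intro l
      have hle : Nl l ≤ N := Finset.le_sup (Finset.mem_univ l)
      obtain ⟨c, hc⟩ := Nat.exists_eq_add_of_le hle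
      rw [hc, add_comm, pow_add, mul_smul, hNl l, smul_zero]
    -- step 4: `u = f_j ^ N * g ^ N₁` kills `m`
    have hu : D.f j ^ N * bg D b ^ N₁ ∈ 𝒜 (N • 1 + N₁ • (1 + e)) :=
      SetLike.mul_mem_graded (SetLike.pow_mem_graded N (D.hf j)) hgN
    have hum : (D.f j ^ N * bg D b ^ N₁) • m = 0 := by
      refine eq_zero_of_comp_eq_zero D F (SetLike.GradedSMul.smul_mem hu hm) (fun l => ?_)
      rw [comp_smul D F hu, coef_mul D (SetLike.pow_mem_graded N (D.hf j)) hgN, mul_smul,
        coef_pow_eq]
      exact hNl' l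
    -- step 5: conclude
    refine sect_ext 𝒜 (grading D F) 0 _ _ _ (fun z => ?_)
    refine (hs z.1 z.2).trans ?_
    have hz : D.f j ^ N * bg D b ^ N₁ ∉ z.1.asHomogeneousIdeal := by
      intro h
      rcases z.1.isPrime.mem_or_mem h with h | h
      · exact z.2 (Ideal.mul_mem_right _ _ (z.1.isPrime.mem_of_pow_mem N h))
      · exact z.2 (z.1.isPrime.mem_of_pow_mem N₁ h)
    have h0 : (((0 : Γ(Mtilde D F, B D b)) : GrTilde.sect 𝒜 (grading D F) 0 (op (B D b))).1 z :
        GrTilde.LocMod 𝒜 (M := M D F) z.1) = 0 := rfl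
    rw [h0, ← LocalizedModule.zero_mk (1 : z.1.asHomogeneousIdeal.toIdeal.primeCompl),
      LocalizedModule.mk_eq]
    refine ⟨⟨_, hz⟩, ?_⟩
    simp only [Submonoid.smul_def, one_smul, smul_zero]
    exact hum
  exact hinj

end

end GammaStar

end Groth.Agent.H18
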