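import Groth.Agent.H18.GammaStarExt

set_option autoImplicit false
universe u

open CategoryTheory CategoryTheory.Limits AlgebraicGeometry TopologicalSpace Opposite
open HomogeneousLocalization

namespace Groth.Agent.H18

section

variable {R A : Type u} [CommRing R] [CommRing A] [Algebra R A]
variable (𝒜 : ℕ → Submodule R A) [GradedAlgebra 𝒜]
variable {M : Type u} [AddCommGroup M] [Module R M] [Module A M]
  (ℳ : ℕ → Submodule R M) [SetLike.GradedSMul 𝒜 ℳ]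

/-- the section `m / t` of `M~` over an open where `t` does not vanish -/
noncomputable def fracSect {W : (Proj 𝒜).Opens} {n : ℕ} {t : A} (ht : t ∈ 𝒜 n)
    (hW : ∀ x : ProjectiveSpectrum 𝒜, x ∈ W → t ∉ x.asHomogeneousIdeal)
    {m : M} (hm : m ∈ ℳ n) : Γ(GrTilde.tilde 𝒜 ℳ 0, W) :=
  (⟨fun x => ⟨LocalizedModule.mk m ⟨t, hW x.1 x.2⟩,
      Submodule.subset_span ⟨n, n, ⟨m, hm⟩, ⟨t, ht⟩, hW x.1 x.2, by simp, rfl⟩⟩,
    fun x => ⟨W, x.2, 𝟙 _, n, n, ⟨m, hm⟩, ⟨t, ht⟩, fun y => hW y.1 y.2, Or.inl (by simp),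
      fun _ => rfl⟩⟩ : GrTilde.sect 𝒜 ℳ 0 (op W))

theorem fracSect_val {W : (Proj 𝒜).Opens} {n : ℕ} {t : A} (ht : t ∈ 𝒜 n)
    (hW : ∀ x : ProjectiveSpectrum 𝒜, x ∈ W → t ∉ x.asHomogeneousIdeal)
    {m : M} (hm : m ∈ ℳ n) (z : ProjectiveSpectrum 𝒜) (hz : z ∈ W) :
    ((((fracSect 𝒜 ℳ ht hW hm : Γ(GrTilde.tilde 𝒜 ℳ 0, W)) :
      GrTilde.sect 𝒜 ℳ 0 (op W)).1 ⟨z, hz⟩ : GrTilde.tildeAt 𝒜 ℳ 0 z) :
        GrTilde.LocMod 𝒜 (M := M) z) = LocalizedModule.mk m ⟨t, hW z hz⟩ := rfl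

end

namespace GammaStar

section

variable {R A : Type u} [CommRing R] [CommRing A] [Algebra R A]
variable {𝒜 : ℕ → Submodule R A} [GradedAlgebra 𝒜]
variable (D : Charts 𝒜) (F : (Proj 𝒜).Modules) [Fintype D.I] [F.IsQuasicoherent]

theorem alphaB_surjective (b : BIdx D) : Function.Surjective (alphaB D F b) := by
  intro τ
  set j := b.1 with hj
  set e := b.2.1 with he
  have hg' : (b.2.2 : A) ∈ 𝒜 (e • 1) := by simp [he]
  obtain ⟨N₁, τ', hτ'⟩ := proj_qc_surj 𝒜 F one_pos (D.hf j) e hg' τ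
  obtain ⟨n, m, hm, hcomp⟩ := exists_extension D F j τ'
  have hfj : ∀ (k : ℕ) (x : ProjectiveSpectrum 𝒜), x ∈ B D b → D.f j ^ k ∉ x.asHomogeneousIdeal :=
    fun k x hx h => hx (Ideal.mul_mem_right _ _ (x.isPrime.mem_of_pow_mem k h))
  have hgW : ∀ x : ProjectiveSpectrum 𝒜, x ∈ B D b → (b.2.2 : A) ∉ x.asHomogeneousIdeal :=
    fun x hx h => hx (Ideal.mul_mem_left _ _ h)
  let s₀ : Γ(Mtilde D F, B D b) := fracSect 𝒜 (grading D F) (fpow_mem D j n) (hfj n) hm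
  let ω : Γ(Proj 𝒜, B D b) :=
    fracO 𝒜 (SetLike.pow_mem_graded e (D.hf j)) hg' (B D b) hgW ^ N₁
  refine ⟨ω • s₀, ?_⟩
  rw [alphaB_smul, alphaB_eq D F b s₀ (fpow_mem D j n) (hfj n) hm (fun z hz => rfl)]
  unfold evalFrac
  rw [fracO_self, one_smul, hcomp]
  have h2 : mres F (B_le D b) τ' = mres F (basicOpen_mul_le_left 𝒜 (D.f j) (b.2.2 : A)) τ' := rfl
  rw [h2, ← hτ', smul_smul, ← mul_pow, fracO_mul_inv, one_pow, one_smul]

theorem toPresheaf_map_alpha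
    (hcov : ∀ x : ProjectiveSpectrum 𝒜, ∃ j, D.f j ∉ x.asHomogeneousIdeal) :
    (Scheme.Modules.toPresheaf (Proj 𝒜)).map (alpha D F hcov) = alphaPre D F hcov := by
  ext U s
  rfl

theorem isIso_alpha (hcov : ∀ x : ProjectiveSpectrum 𝒜, ∃ j, D.f j ∉ x.asHomogeneousIdeal) :
    IsIso (alpha D F hcov) := by
  let Ms : TopCat.Sheaf AddCommGrpCat (Proj 𝒜).toTopCat :=
    ⟨(Mtilde D F).presheaf, (Mtilde D F).isSheaf⟩
  let Fs : TopCat.Sheaf AddCommGrpCat (Proj 𝒜).toTopCat := ⟨F.presheaf, F.isSheaf⟩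
  let φ : Ms ⟶ Fs := ⟨alphaPre D F hcov⟩
  have hφ : IsIso φ := by
    refine TopCat.Sheaf.isIso_iff_isIso_basis (isBasis_B D hcov) (fun b => ?_)
    rw [ConcreteCategory.isIso_iff_bijective]
    have : ⇑(ConcreteCategory.hom (φ.hom.app (op (B D b)))) = alphaB D F b := by
      funext s
      exact alphaPre_app_B D F hcov b s
    rw [this]
    exact ⟨alphaB_injective D F b, alphaB_surjective D F b⟩
  have h2 : IsIso (alphaPre D F hcov) := by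
    refine ⟨(inv φ).hom, ?_, ?_⟩
    · exact congrArg (fun ψ => ψ.hom) (IsIso.hom_inv_id φ)
    · exact congrArg (fun ψ => ψ.hom) (IsIso.inv_hom_id φ)
  have h3 : IsIso ((Scheme.Modules.toPresheaf (Proj 𝒜)).map (alpha D F hcov)) := by
    rw [toPresheaf_map_alpha]; exact h2
  exact isIso_of_reflects_iso (alpha D F hcov) (Scheme.Modules.toPresheaf (Proj 𝒜))

end

end GammaStar

end Groth.Agent.H18
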