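import Mathlib.AlgebraicGeometry.ProjectiveSpectrum.Topology
import Groth.Agent.H18.GrModBasic
import Groth.Agent.H18.GrCover

set_option autoImplicit false
universe u

namespace Groth.Agent.H18

open DirectSum

section
variable {R A : Type u} [CommRing R] [CommRing A] [Algebra R A] (𝒜 : ℕ → Submodule R A) [GradedAlgebra 𝒜]
variable {M : Type u} [AddCommGroup M] [Module R M] [Module A M]
  (ℳ : ℕ → Submodule R M) [DirectSum.Decomposition ℳ] [SetLike.GradedSMul 𝒜 ℳ]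

/-- localized module at a point of `Proj`. -/
abbrev LocM (x : ProjectiveSpectrum 𝒜) : Type u :=
  LocalizedModule x.asHomogeneousIdeal.toIdeal.primeCompl M

/-- every neighbourhood of `x` contains a homogeneous basic open around `x`. -/
theorem exists_homogeneous_basicOpen_subset (x : ProjectiveSpectrum 𝒜)
    {V : Set (ProjectiveSpectrum 𝒜)} (hV : IsOpen V) (hx : x ∈ V) :
    ∃ (l : ℕ) (a : A), a ∈ 𝒜 l ∧ a ∉ x.asHomogeneousIdeal ∧
      ∀ y : ProjectiveSpectrum 𝒜, a ∉ y.asHomogeneousIdeal → y ∈ V := by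
  classical
  obtain ⟨_, ⟨a, rfl⟩, hxa, haV⟩ :=
    (ProjectiveSpectrum.isTopologicalBasis_basic_opens 𝒜).exists_subset_of_mem_open hx hV
  have hxa' : a ∉ x.asHomogeneousIdeal := hxa
  have : ∃ l, (DirectSum.decompose 𝒜 a l : A) ∉ x.asHomogeneousIdeal := by
    by_contra hcon
    push Not at hcon
    apply hxa'
    rw [← DirectSum.sum_support_decompose 𝒜 a]
    exact Ideal.sum_mem _ fun l _ => hcon l
  obtain ⟨l, hl⟩ := this
  refine ⟨l, DirectSum.decompose 𝒜 a l, Subtype.prop _, hl, fun y hy => haV ?_⟩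
  change a ∉ y.asHomogeneousIdeal
  intro hay
  exact hy (y.asHomogeneousIdeal.isHomogeneous l hay)


/-- The hypothesis "locally one fraction" in the form used below. -/
def IsLocFracOn (n : ℤ) (f : A)
    (σ : ∀ x : ProjectiveSpectrum 𝒜, f ∉ x.asHomogeneousIdeal → LocM 𝒜 (M := M) x) : Prop :=
  ∀ (x : ProjectiveSpectrum 𝒜) (_ : f ∉ x.asHomogeneousIdeal),
    ∃ V : Set (ProjectiveSpectrum 𝒜), IsOpen V ∧ x ∈ V ∧ ∃ (i j : ℕ) (m : M) (t : A),
      m ∈ ℳ i ∧ t ∈ 𝒜 j ∧ ((i : ℤ) = j + n ∨ m = 0) ∧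
      ∀ (y : ProjectiveSpectrum 𝒜) (hy : f ∉ y.asHomogeneousIdeal), y ∈ V →
        ∃ ht : t ∉ y.asHomogeneousIdeal, σ y hy = LocalizedModule.mk m ⟨t, ht⟩

omit [DirectSum.Decomposition ℳ] in
variable {𝒜 ℳ} in
theorem IsLocFracOn.normal_form {n : ℤ} {d : ℕ} (hd : 0 < d) {f : A} (hf : f ∈ 𝒜 d)
    {σ : ∀ x : ProjectiveSpectrum 𝒜, f ∉ x.asHomogeneousIdeal → LocM 𝒜 (M := M) x}
    (hσ : IsLocFracOn 𝒜 ℳ n f σ) (x : ProjectiveSpectrum 𝒜) (hx : f ∉ x.asHomogeneousIdeal) :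
    ∃ (e : ℕ) (h : A) (i : ℕ) (m : M), 0 < e ∧ h ∈ 𝒜 e ∧ h ∉ x.asHomogeneousIdeal ∧ m ∈ ℳ i ∧
      (i : ℤ) = e + n ∧ (∀ y : ProjectiveSpectrum 𝒜, h ∉ y.asHomogeneousIdeal →
        f ∉ y.asHomogeneousIdeal) ∧
      ∀ (y : ProjectiveSpectrum 𝒜) (hy : f ∉ y.asHomogeneousIdeal)
        (hh : h ∉ y.asHomogeneousIdeal), σ y hy = LocalizedModule.mk m ⟨h, hh⟩ := by
  obtain ⟨V, hV, hxV, i, j, m, t, hm, ht, hdeg, hval⟩ := hσ x hx
  obtain ⟨l, a, ha, hax, haV⟩ := exists_homogeneous_basicOpen_subset 𝒜 x hV hxV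
  obtain ⟨htx, -⟩ := hval x hx hxV
  -- h₀ = (a * f) * t
  have haf : a * f ∈ 𝒜 (l + d) := SetLike.mul_mem_graded ha hf
  have hh₀ : (a * f) * t ∈ 𝒜 (l + d + j) := SetLike.mul_mem_graded haf ht
  have hh₀x : (a * f) * t ∉ x.asHomogeneousIdeal := fun hmem =>
    (x.isPrime.mem_or_mem hmem).elim (fun h1 => (x.isPrime.mem_or_mem h1).elim hax hx) htx
  have hsub : ∀ y : ProjectiveSpectrum 𝒜, (a * f) * t ∉ y.asHomogeneousIdeal →
      a ∉ y.asHomogeneousIdeal ∧ f ∉ y.asHomogeneousIdeal ∧ t ∉ y.asHomogeneousIdeal := by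
    intro y hy
    refine ⟨fun h1 => hy ?_, fun h1 => hy ?_, fun h1 => hy ?_⟩
    · exact Ideal.mul_mem_right _ _ (Ideal.mul_mem_right _ _ h1)
    · exact Ideal.mul_mem_right _ _ (Ideal.mul_mem_left _ _ h1)
    · exact Ideal.mul_mem_left _ _ h1
  rcases hdeg with hdeg | hm0
  · refine ⟨l + d + j, (a * f) * t, l + d + i, (a * f) • m, by omega, hh₀, hh₀x,
      SetLike.GradedSMul.smul_mem haf hm, by push_cast; omega, fun y hy => (hsub y hy).2.1, ?_⟩
    intro y hy hh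
    obtain ⟨hay, -, hty⟩ := hsub y hh
    obtain ⟨ht', hval'⟩ := hval y hy (haV y hay)
    rw [hval']
    have hafy : a * f ∉ y.asHomogeneousIdeal := fun h1 =>
      (y.isPrime.mem_or_mem h1).elim hay hy
    exact (LocalizedModule.mk_cancel_common_left
      (⟨a * f, hafy⟩ : y.asHomogeneousIdeal.toIdeal.primeCompl) ⟨t, ht'⟩ m).symm
  · subst hm0
    set N := n.natAbs + 1 with hN
    set e₀ := l + d + j with he₀
    have hpow : ((a * f) * t) ^ N ∈ 𝒜 (N * e₀) := by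
      have := SetLike.pow_mem_graded N hh₀
      simpa [smul_eq_mul] using this
    have hge : (0 : ℤ) ≤ (N * e₀ : ℕ) + n := by
      have h1 : N ≤ N * e₀ := Nat.le_mul_of_pos_right N (by omega)
      have h2 : (N : ℤ) ≤ ((N * e₀ : ℕ) : ℤ) := by exact_mod_cast h1
      omega
    refine ⟨N * e₀, ((a * f) * t) ^ N, ((N * e₀ : ℕ) + n).toNat, 0, ?_, hpow, ?_, zero_mem _, ?_,
      ?_, ?_⟩
    · have : 0 < N := by omega
      have : 0 < e₀ := by omega
      positivity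
    · intro hmem
      exact hh₀x (x.isPrime.mem_of_pow_mem N hmem)
    · rw [Int.toNat_of_nonneg hge]
    · intro y hy
      exact (hsub y fun h1 => hy (Ideal.pow_mem_of_mem _ h1 N (by omega))).2.1
    · intro y hy hh
      have hh' : (a * f) * t ∉ y.asHomogeneousIdeal :=
        fun h1 => hh (Ideal.pow_mem_of_mem _ h1 N (by omega))
      obtain ⟨hay, -, hty⟩ := hsub y hh'
      obtain ⟨ht', hval'⟩ := hval y hy (haV y hay)
      rw [hval', LocalizedModule.zero_mk, LocalizedModule.zero_mk]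


/-- two fractions `m₁/h₁ = m₂/h₂` agreeing at all points of `D₊(h₁ h₂)`; then
`(h₁ h₂)^N (h₂ m₁ - h₁ m₂) = 0`. -/
theorem exists_pow_smul_sub_eq_zero {e₁ e₂ i₁ i₂ : ℕ} (hi : e₂ + i₁ = e₁ + i₂) (he₁ : 0 < e₁)
    {h₁ h₂ : A} (hh₁ : h₁ ∈ 𝒜 e₁) (hh₂ : h₂ ∈ 𝒜 e₂) {m₁ m₂ : M} (hm₁ : m₁ ∈ ℳ i₁) (hm₂ : m₂ ∈ ℳ i₂)
    (heq : ∀ (z : ProjectiveSpectrum 𝒜) (hz₁ : h₁ ∉ z.asHomogeneousIdeal)
      (hz₂ : h₂ ∉ z.asHomogeneousIdeal),
      (LocalizedModule.mk m₁ ⟨h₁, hz₁⟩ : LocM 𝒜 (M := M) z) = LocalizedModule.mk m₂ ⟨h₂, hz₂⟩) :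
    ∃ N : ℕ, (h₁ * h₂) ^ N • (h₂ • m₁ - h₁ • m₂) = 0 := by
  have hw : h₂ • m₁ - h₁ • m₂ ∈ ℳ (e₂ + i₁) := by
    refine sub_mem (SetLike.GradedSMul.smul_mem hh₂ hm₁) ?_
    rw [hi]
    exact SetLike.GradedSMul.smul_mem hh₁ hm₂
  refine exists_pow_smul_eq_zero_of_forall_localized_eq_zero 𝒜 ℳ hw (d := e₁ + e₂) (by omega)
    (SetLike.mul_mem_graded hh₁ hh₂) ?_
  intro z hz
  have hz₁ : h₁ ∉ z.asHomogeneousIdeal := fun h => hz (Ideal.mul_mem_right _ _ h)
  have hz₂ : h₂ ∉ z.asHomogeneousIdeal := fun h => hz (Ideal.mul_mem_left _ _ h)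
  obtain ⟨u, hu⟩ := LocalizedModule.mk_eq.mp (heq z hz₁ hz₂)
  refine ⟨u.1, u.2, ?_⟩
  have hu' : u.1 • h₂ • m₁ = u.1 • h₁ • m₂ := hu
  rw [smul_sub, hu', sub_self]


/-- Final combination step: given a finite compatible family of fractions `m x / h x`
and a homogeneous partition `f^K = ∑ c x * h x`, the element `∑ c x • m x` restricts to
each `m y / h y`. -/
theorem smul_sum_eq_of_compat {ι : Type*} (F : Finset ι) (h c : ι → A) (m : ι → M) {f : A} {K : ℕ}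
    (hsum : f ^ K = ∑ x ∈ F, c x * h x)
    (hcompat : ∀ x ∈ F, ∀ y ∈ F, h y • m x = h x • m y) (y : ι) (hy : y ∈ F) :
    h y • (∑ x ∈ F, c x • m x) = f ^ K • m y := by
  rw [Finset.smul_sum, hsum, Finset.sum_smul]
  refine Finset.sum_congr rfl fun x hx => ?_
  rw [smul_comm, hcompat x hx y hy, ← mul_smul]

variable {𝒜 ℳ} in
/-- **Gluing**: a function on `D₊(f)` which is locally a homogeneous fraction of degree `n`
is globally of the form `m / f ^ k`. -/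
theorem IsLocFracOn.exists_global {n : ℤ} {d : ℕ} (hd : 0 < d) {f : A} (hf : f ∈ 𝒜 d)
    {σ : ∀ x : ProjectiveSpectrum 𝒜, f ∉ x.asHomogeneousIdeal → LocM 𝒜 (M := M) x}
    (hσ : IsLocFracOn 𝒜 ℳ n f σ) :
    ∃ (k i : ℕ) (m : M), m ∈ ℳ i ∧ (i : ℤ) = k * d + n ∧
      ∀ (x : ProjectiveSpectrum 𝒜) (hx : f ∉ x.asHomogeneousIdeal),
        σ x hx = LocalizedModule.mk m
          (⟨f ^ k, fun h => hx (x.isPrime.mem_of_pow_mem k h)⟩ :
            x.asHomogeneousIdeal.toIdeal.primeCompl) := by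
  classical
  -- Step A/B: local normal forms
  let ι := {x : ProjectiveSpectrum 𝒜 // f ∉ x.asHomogeneousIdeal}
  choose e h i m he_pos hh hhx hm hdeg hsub hval using
    fun x : ι => hσ.normal_form hd hf x.1 x.2
  obtain ⟨K₀, F, c₀, -, -, hsum₀⟩ := exists_pow_eq_sum_of_cover 𝒜 h e hh hd hf
    (fun y hy => ⟨⟨y, hy⟩, hhx ⟨y, hy⟩⟩)
  -- Step C: compatibilities up to a power
  have hC : ∀ x y : ι, ∃ N : ℕ, (h x * h y) ^ N • (h y • m x - h x • m y) = 0 := by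
    intro x y
    refine exists_pow_smul_sub_eq_zero 𝒜 ℳ (by have := hdeg x; have := hdeg y; omega) (he_pos x)
      (hh x) (hh y) (hm x) (hm y) ?_
    intro z hz₁ hz₂
    rw [← hval x z (hsub x z hz₁) hz₁, ← hval y z (hsub y z hz₂) hz₂]
  choose Nxy hNxy using hC
  set N := F.sup (fun x => F.sup (fun y => Nxy x y)) with hN
  have hNle : ∀ x ∈ F, ∀ y ∈ F, Nxy x y ≤ N := by
    intro x hx y hy
    exact le_trans (Finset.le_sup (f := fun y => Nxy x y) hy)
      (Finset.le_sup (f := fun x => F.sup (fun y => Nxy x y)) hx)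
  have hCN : ∀ x ∈ F, ∀ y ∈ F, (h x * h y) ^ N • (h y • m x - h x • m y) = 0 := by
    intro x hx y hy
    obtain ⟨r, hr⟩ := Nat.exists_eq_add_of_le (hNle x hx y hy)
    rw [hr, pow_add, mul_comm, mul_smul, hNxy, smul_zero]
  -- Step D: new data
  let h' : ι → A := fun x => h x ^ (N + 1)
  let e' : ι → ℕ := fun x => (N + 1) * e x
  let m' : ι → M := fun x => h x ^ N • m x
  let i' : ι → ℕ := fun x => N * e x + i x
  have hh' : ∀ x, h' x ∈ 𝒜 (e' x) := by
    intro x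
    have := SetLike.pow_mem_graded (N + 1) (hh x)
    simpa [smul_eq_mul] using this
  have hm' : ∀ x, m' x ∈ ℳ (i' x) := by
    intro x
    have h1 : h x ^ N ∈ 𝒜 (N * e x) := by
      have := SetLike.pow_mem_graded N (hh x)
      simpa [smul_eq_mul] using this
    exact SetLike.GradedSMul.smul_mem h1 (hm x)
  have hdeg' : ∀ x, (i' x : ℤ) = e' x + n := by
    intro x
    have := hdeg x
    simp only [i', e']
    push_cast
    rw [this]; ring
  have hcompat : ∀ x ∈ F, ∀ y ∈ F, h' y • m' x = h' x • m' y := by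
    intro x hx y hy
    have := hCN x hx y hy
    rw [← sub_eq_zero]
    rw [← this]
    simp only [h', m']
    module
  have hval' : ∀ (x : ι) (z : ProjectiveSpectrum 𝒜) (hz : f ∉ z.asHomogeneousIdeal)
      (hzh : h' x ∉ z.asHomogeneousIdeal), σ z hz = LocalizedModule.mk (m' x) ⟨h' x, hzh⟩ := by
    intro x z hz hzh
    have hzh0 : h x ∉ z.asHomogeneousIdeal := fun h1 => hzh (Ideal.pow_mem_of_mem _ h1 _ (by omega))
    have hzhN : h x ^ N ∉ z.asHomogeneousIdeal := fun h1 => hzh0 (z.isPrime.mem_of_pow_mem N h1)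
    rw [hval x z hz hzh0]
    have := (LocalizedModule.mk_cancel_common_left
      (⟨h x ^ N, hzhN⟩ : z.asHomogeneousIdeal.toIdeal.primeCompl) ⟨h x, hzh0⟩ (m x)).symm
    convert this using 2
    · rfl
    · apply Subtype.ext
      change h x ^ (N + 1) = h x ^ N * h x
      exact pow_succ _ _
  -- cover by the new finite family
  have hcov : ∀ z : ProjectiveSpectrum 𝒜, f ∉ z.asHomogeneousIdeal →
      ∃ x : {x // x ∈ F}, h' x.1 ∉ z.asHomogeneousIdeal := by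
    intro z hz
    by_contra hcon
    push Not at hcon
    apply hz
    apply z.isPrime.mem_of_pow_mem K₀
    rw [hsum₀]
    refine Ideal.sum_mem _ fun x hx => Ideal.mul_mem_left _ _ ?_
    exact z.isPrime.mem_of_pow_mem (N + 1) (hcon ⟨x, hx⟩)
  obtain ⟨K, F', c, hF', hc, hsum⟩ := exists_pow_eq_sum_of_cover 𝒜
    (fun x : {x // x ∈ F} => h' x.1) (fun x => e' x.1) (fun x => hh' x.1) hd hf hcov
  -- Step E
  rcases F'.eq_empty_or_nonempty with hempty | ⟨x₀, hx₀⟩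
  · have hfK : f ^ K = 0 := by rw [hsum, hempty, Finset.sum_empty]
    have hno : ∀ (x : ProjectiveSpectrum 𝒜), f ∈ x.asHomogeneousIdeal := by
      intro x
      apply x.isPrime.mem_of_pow_mem K
      rw [hfK]; exact Ideal.zero_mem _
    have hge : (0 : ℤ) ≤ ((n.natAbs * d : ℕ) : ℤ) + n := by
      have h1 : n.natAbs ≤ n.natAbs * d := Nat.le_mul_of_pos_right _ hd
      have h2 : (n.natAbs : ℤ) ≤ ((n.natAbs * d : ℕ) : ℤ) := by exact_mod_cast h1
      omega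
    refine ⟨n.natAbs, (((n.natAbs * d : ℕ) : ℤ) + n).toNat, 0, zero_mem _, ?_, ?_⟩
    · rw [Int.toNat_of_nonneg hge]; push_cast; ring
    · intro x hx
      exact absurd (hno x) hx
  · have hcm : ∀ x : {x // x ∈ F}, x ∈ F' → c x • m' x.1 ∈ ℳ (K * d - e' x₀.1 + i' x₀.1) := by
      intro x hx
      have h1 : c x • m' x.1 ∈ ℳ (K * d - e' x.1 + i' x.1) :=
        SetLike.GradedSMul.smul_mem (hc x) (hm' x.1)
      have h2 : K * d - e' x.1 + i' x.1 = K * d - e' x₀.1 + i' x₀.1 := by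
        have a1 := hF' x hx
        have a2 := hF' x₀ hx₀
        have a3 := hdeg' x.1
        have a4 := hdeg' x₀.1
        omega
      rw [← h2]; exact h1
    refine ⟨K, K * d - e' x₀.1 + i' x₀.1, ∑ x ∈ F', c x • m' x.1,
      Submodule.sum_mem _ fun x hx => hcm x hx, ?_, ?_⟩
    · have a2 := hF' x₀ hx₀
      have a4 := hdeg' x₀.1
      push_cast [Nat.cast_sub a2]
      rw [a4]; ring
    · intro z hz
      have hzK : f ^ K ∉ z.asHomogeneousIdeal := fun h1 => hz (z.isPrime.mem_of_pow_mem K h1)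
      have : ∃ y ∈ F', h' y.1 ∉ z.asHomogeneousIdeal := by
        by_contra hcon
        push Not at hcon
        apply hzK
        rw [hsum]
        exact Ideal.sum_mem _ fun x hx => Ideal.mul_mem_left _ _ (hcon x hx)
      obtain ⟨y, hyF', hyz⟩ := this
      rw [hval' y.1 z hz hyz]
      rw [LocalizedModule.mk_eq]
      refine ⟨1, ?_⟩
      rw [one_smul, one_smul]
      have key := smul_sum_eq_of_compat (M := M) F' (fun x : {x // x ∈ F} => h' x.1) c
        (fun x => m' x.1) hsum (fun x _ y _ => hcompat x.1 x.2 y.1 y.2) y hyF'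
      exact key.symm

end

end Groth.Agent.H18
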