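import Groth.Prelude.Def_GrMod3

/-!
# The morphism `M(n)~ ⟶ N(n+d)~` attached to a linear map raising degrees by `d`

A variant of the Prelude's `GrMod.map` for maps of graded modules of degree `d`.
-/

set_option autoImplicit false

noncomputable section

universe u

open CategoryTheory CategoryTheory.Limits AlgebraicGeometry TopologicalSpace Opposite TopCat

namespace Groth.Agent.H18

namespace GrShift

open GrMod

variable {A σ : Type u} [CommRing A] [SetLike σ A] [AddSubgroupClass σ A] {𝒜 : ℕ → σ} [GradedRing 𝒜]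
variable {M τ : Type u} [AddCommGroup M] [Module A M] [SetLike τ M] [AddSubgroupClass τ M] {ℳ : ℕ → τ}
variable {N τ' : Type u} [AddCommGroup N] [Module A N] [SetLike τ' N] [AddSubgroupClass τ' N] {𝒩 : ℕ → τ'}
variable (u : M →ₗ[A] N) (d : ℕ) (hu : ∀ (i : ℕ) (m : M), m ∈ ℳ i → u m ∈ 𝒩 (i + d)) (n n' : ℤ)
  (hn : n' = n + d)

omit [AddSubgroupClass τ M] [AddSubgroupClass τ' N] in
include hu hn in
theorem locMap_mem (x : ProjectiveSpectrum 𝒜) {q : LocMod 𝒜 (M := M) x} (hq : q ∈ tildeAt 𝒜 ℳ n x) :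
    locMap u x q ∈ tildeAt 𝒜 𝒩 n' x := by
  induction hq using Submodule.span_induction with
  | mem q h =>
    obtain ⟨i, j, m, s, hs, hij, rfl⟩ := h
    rw [locMap_mk]
    exact Submodule.subset_span ⟨i + d, j, ⟨u m, hu i m m.2⟩, s, hs, by push_cast; omega, rfl⟩
  | zero => rw [map_zero]; exact zero_mem _
  | add q q' _ _ h h' => rw [map_add]; exact add_mem h h'
  | smul c q _ h =>
    rw [a0_smul_def]
    change (LocalizedModule.map _ u) (c.val • q) ∈ _
    rw [LinearMap.map_smul, ← a0_smul_def]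
    exact Submodule.smul_mem _ c h

variable (U : (Opens (ProjectiveSpectrum.top 𝒜))ᵒᵖ)

/-- The map on dependent functions, pointwise. -/
def mapFn (f : ∀ x : U.unop, tildeAt 𝒜 ℳ n x.1) (x : U.unop) : tildeAt 𝒜 𝒩 n' x.1 :=
  ⟨locMap u x.1 (f x).1, locMap_mem u d hu n n' hn x.1 (f x).2⟩

omit [AddSubgroupClass τ M] [AddSubgroupClass τ' N] in
@[simp] theorem mapFn_coe (f : ∀ x : U.unop, tildeAt 𝒜 ℳ n x.1) (x : U.unop) :
    ((mapFn u d hu n n' hn U f x : tildeAt 𝒜 𝒩 n' x.1) : LocMod 𝒜 (M := N) x.1) =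
      locMap u x.1 (f x).1 := rfl

omit [AddSubgroupClass τ M] [AddSubgroupClass τ' N] in
theorem isLocFrac_mapFn (f : ∀ x : U.unop, tildeAt 𝒜 ℳ n x.1) (hf : (isLocFrac 𝒜 ℳ n).pred f) :
    (isLocFrac 𝒜 𝒩 n').pred (mapFn u d hu n n' hn U f) := fun x => by
  rcases hf x with ⟨V, mV, iV, i, j, m, s, nin, c, w⟩
  refine ⟨V, mV, iV, i + d, j, ⟨u m, hu i m m.2⟩, s, nin, ?_, fun y => ?_⟩
  · rcases c with c | c
    · exact Or.inl (by push_cast; omega)
    · exact Or.inr (show u (m : M) = 0 by rw [c, map_zero])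
  · change locMap u y.1 (f (iV y)).1 = _
    rw [w y, locMap_mk]

variable [SetLike.GradedSMul 𝒜 ℳ] [SetLike.GradedSMul 𝒜 𝒩]

/-- The map on sections over `U`, as an additive map. -/
def mapApp : sect 𝒜 ℳ n U →+ sect 𝒜 𝒩 n' U where
  toFun f := ⟨mapFn u d hu n n' hn U f.1, isLocFrac_mapFn u d hu n n' hn U f.1 f.2⟩
  map_zero' := by
    refine Subtype.ext (funext fun x => Subtype.ext ?_)
    rw [mapFn_coe]
    simp
  map_add' f g := by
    refine Subtype.ext (funext fun x => Subtype.ext ?_)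
    rw [mapFn_coe]
    simp only [AddMemClass.coe_add, Pi.add_apply, map_add, mapFn_coe]

theorem mapApp_smul (r : GrTwist.O (𝒜 := 𝒜) U) (f : sect 𝒜 ℳ n U) :
    mapApp u d hu n n' hn U (r • f) = r • mapApp u d hu n n' hn U f := by
  refine Subtype.ext (funext fun x => Subtype.ext ?_)
  change locMap u x.1 (((r • f : sect 𝒜 ℳ n U).1 x : tildeAt 𝒜 ℳ n x.1) : LocMod 𝒜 x.1) =
    (((r • mapApp u d hu n n' hn U f : sect 𝒜 𝒩 n' U).1 x : tildeAt 𝒜 𝒩 n' x.1) : LocMod 𝒜 x.1)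
  have h1 : (((r • f : sect 𝒜 ℳ n U).1 x : tildeAt 𝒜 ℳ n x.1) : LocMod 𝒜 x.1) = (r.1 x).val • ((f.1 x).1) :=
    coe_smul_val n x.1 (r.1 x) (f.1 x)
  have h2 : (((r • mapApp u d hu n n' hn U f : sect 𝒜 𝒩 n' U).1 x : tildeAt 𝒜 𝒩 n' x.1) : LocMod 𝒜 x.1) =
      (r.1 x).val • locMap u x.1 (f.1 x).1 :=
    coe_smul_val n' x.1 (r.1 x) _
  rw [h1, h2]
  exact LinearMap.map_smul (LocalizedModule.map _ u) (r.1 x).val (f.1 x).1

variable (𝒜) in
/-- The morphism `M(n)~ ⟶ N(n + d)~` attached to an `A`-linear map `u : M → N` raising degrees by `d`. -/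
def map : tilde 𝒜 ℳ n ⟶ tilde 𝒜 𝒩 n' :=
  ⟨PresheafOfModules.homMk
    { app := fun U => AddCommGrpCat.ofHom (mapApp u d hu n n' hn U)
      naturality := fun _ _ _ => rfl }
    fun U r s => mapApp_smul u d hu n n' hn U r s⟩

theorem map_app_val (V : (Proj 𝒜).Opens) (s : Γ(tilde 𝒜 ℳ n, V)) (y : V) :
    val ((map 𝒜 u d hu n n' hn).app V s) y = locMap u y.1 (val s y) := rfl

end GrShift

end Groth.Agent.H18

end
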