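import Groth.Prelude.Def_GrMod2
import Groth.Agent.H18.GrGlue

set_option autoImplicit false
universe u

namespace Groth.Agent.H18

open CategoryTheory CategoryTheory.Limits AlgebraicGeometry TopologicalSpace Opposite

section
variable {R A : Type u} [CommRing R] [CommRing A] [Algebra R A] (𝒜 : ℕ → Submodule R A) [GradedAlgebra 𝒜]
variable {M : Type u} [AddCommGroup M] [Module R M] [Module A M]
  (ℳ : ℕ → Submodule R M) [SetLike.GradedSMul 𝒜 ℳ]

theorem sect_ext (n : ℤ) (U : (Opens (ProjectiveSpectrum.top 𝒜))ᵒᵖ) (s t : GrTilde.sect 𝒜 ℳ n U)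
    (h : ∀ x : U.unop, ((s.1 x : GrTilde.tildeAt 𝒜 ℳ n x.1) : GrTilde.LocMod 𝒜 (M := M) x.1) =
      (t.1 x : GrTilde.tildeAt 𝒜 ℳ n x.1)) : s = t := by
  apply Subtype.ext
  funext x
  exact Subtype.ext (h x)

theorem isZero_tilde_iff (n : ℤ) :
    IsZero (GrTilde.tilde 𝒜 ℳ n) ↔
      ∀ (U : (Opens (ProjectiveSpectrum.top 𝒜))ᵒᵖ) (s : GrTilde.sect 𝒜 ℳ n U), s = 0 := by
  rw [IsZero.iff_id_eq_zero]
  constructor
  · intro h U s
    have h1 := congrArg (fun φ => Scheme.Modules.Hom.app φ U.unop) h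
    simp only [Scheme.Modules.Hom.id_app, Scheme.Modules.Hom.zero_app] at h1
    have h2 := congrArg (fun φ => (AddCommGrpCat.Hom.hom φ) s) h1
    exact h2
  · intro h
    apply Scheme.Modules.hom_ext
    intro U
    simp only [Scheme.Modules.Hom.id_app, Scheme.Modules.Hom.zero_app]
    ext s
    exact h (op U) s

end

end Groth.Agent.H18

namespace Groth.Agent.H18

open CategoryTheory CategoryTheory.Limits AlgebraicGeometry TopologicalSpace Opposite

section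
variable {R A : Type u} [CommRing R] [CommRing A] [Algebra R A] (𝒜 : ℕ → Submodule R A) [GradedAlgebra 𝒜]
variable {M : Type u} [AddCommGroup M] [Module R M] [Module A M]
  (ℳ : ℕ → Submodule R M) [SetLike.GradedSMul 𝒜 ℳ]

/-- When `S₊` is generated by degree one elements, every point of `Proj` misses some
degree-one element. -/
theorem exists_degree_one_notMem
    (hgen : (HomogeneousIdeal.irrelevant 𝒜).toIdeal = Ideal.span (𝒜 1 : Set A))
    (x : ProjectiveSpectrum 𝒜) : ∃ g ∈ 𝒜 1, g ∉ x.asHomogeneousIdeal := by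
  by_contra hcon
  push Not at hcon
  apply x.not_irrelevant_le
  change (HomogeneousIdeal.irrelevant 𝒜).toIdeal ≤ x.asHomogeneousIdeal.toIdeal
  rw [hgen, Ideal.span_le]
  exact fun g hg => hcon g hg

/-- The section `m / g ^ k` of `M(n)~` over `D₊(g)`, for `m ∈ ℳ i`, `g ∈ 𝒜 e`, `i = k e + n`. -/
noncomputable def fracSection {n : ℤ} {i e k : ℕ} (hi : (i : ℤ) = k * e + n) {m : M} (hm : m ∈ ℳ i)
    {g : A} (hg : g ∈ 𝒜 e) :
    GrTilde.sect 𝒜 ℳ n (op (ProjectiveSpectrum.basicOpen 𝒜 g)) :=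
  have hgk : g ^ k ∈ 𝒜 (k * e) := by
    have := SetLike.pow_mem_graded k hg
    simpa [smul_eq_mul] using this
  have hnin : ∀ x : ProjectiveSpectrum.basicOpen 𝒜 g, g ^ k ∉ x.1.asHomogeneousIdeal :=
    fun x h => (ProjectiveSpectrum.mem_basicOpen 𝒜 g x.1).mp x.2 (x.1.isPrime.mem_of_pow_mem k h)
  ⟨fun x => ⟨LocalizedModule.mk m ⟨g ^ k, hnin x⟩,
      Submodule.subset_span ⟨i, k * e, ⟨m, hm⟩, ⟨g ^ k, hgk⟩, hnin x, by push_cast; exact hi, rfl⟩⟩,
    fun x => ⟨ProjectiveSpectrum.basicOpen 𝒜 g, x.2, 𝟙 _, i, k * e, ⟨m, hm⟩, ⟨g ^ k, hgk⟩, hnin,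
      Or.inl (by push_cast; exact hi), fun _ => rfl⟩⟩

theorem fracSection_val {n : ℤ} {i e k : ℕ} (hi : (i : ℤ) = k * e + n) {m : M} (hm : m ∈ ℳ i)
    {g : A} (hg : g ∈ 𝒜 e) (x : ProjectiveSpectrum.basicOpen 𝒜 g) :
    (((fracSection 𝒜 ℳ hi hm hg).1 x : GrTilde.tildeAt 𝒜 ℳ n x.1) :
      GrTilde.LocMod 𝒜 (M := M) x.1) =
      LocalizedModule.mk m (⟨g ^ k, fun h => (ProjectiveSpectrum.mem_basicOpen 𝒜 g x.1).mp x.2
        (x.1.isPrime.mem_of_pow_mem k h)⟩ : x.1.asHomogeneousIdeal.toIdeal.primeCompl) := rfl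

end

end Groth.Agent.H18
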