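import Groth.Agent.H18.QCohCriterion
import Groth.Agent.H18.GrTildeZero
import Groth.Agent.H18.GrModBasic
import Groth.Agent.S3586

set_option autoImplicit false
universe u

open CategoryTheory CategoryTheory.Limits AlgebraicGeometry TopologicalSpace Opposite
open HomogeneousLocalization

namespace Groth.Agent.H18

section

variable {R A : Type u} [CommRing R] [CommRing A] [Algebra R A]
variable (𝒜 : ℕ → Submodule R A) [GradedAlgebra 𝒜]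

theorem awayToSection_apply_val {d : ℕ} {f : A} (hf : f ∈ 𝒜 d) (k : ℕ) (g : A)
    (hg : g ∈ 𝒜 (k • d)) (x : ProjectiveSpectrum 𝒜) (hx : x ∈ ProjectiveSpectrum.basicOpen 𝒜 f) :
    (((Proj.awayToSection 𝒜 f).hom (Away.mk 𝒜 hf k g hg)).1 ⟨x, hx⟩).val =
      Localization.mk g (⟨f ^ k, fun h => hx (x.isPrime.mem_of_pow_mem k h)⟩ :
        x.asHomogeneousIdeal.toIdeal.primeCompl) := rfl

theorem isUnit_awayToSection_apply_iff {d : ℕ} {f : A} (hf : f ∈ 𝒜 d) (k : ℕ) (g : A)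
    (hg : g ∈ 𝒜 (k • d)) (x : ProjectiveSpectrum 𝒜) (hx : x ∈ ProjectiveSpectrum.basicOpen 𝒜 f) :
    IsUnit (((Proj.awayToSection 𝒜 f).hom (Away.mk 𝒜 hf k g hg)).1 ⟨x, hx⟩) ↔
      g ∉ x.asHomogeneousIdeal := by
  refine (HomogeneousLocalization.isUnit_iff_isUnit_val 𝒜
    x.asHomogeneousIdeal.toIdeal _).symm.trans ?_
  rw [awayToSection_apply_val, Localization.mk_eq_mk', IsLocalization.AtPrime.isUnit_mk'_iff]
  rfl

theorem proj_basicOpen_awayToSection {d : ℕ} {f : A} (hf : f ∈ 𝒜 d) (k : ℕ) (g : A)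
    (hg : g ∈ 𝒜 (k • d)) :
    (Proj 𝒜).basicOpen ((Proj.awayToSection 𝒜 f).hom (Away.mk 𝒜 hf k g hg)) =
      Proj.basicOpen 𝒜 (f * g) := by
  ext x
  rw [Proj.basicOpen_mul]
  change x ∈ (Proj 𝒜).basicOpen _ ↔ x ∈ Proj.basicOpen 𝒜 f ∧ x ∈ Proj.basicOpen 𝒜 g
  rw [Scheme.mem_basicOpen'']
  have key : ∀ (m : x ∈ Proj.basicOpen 𝒜 f),
      IsUnit ((Proj 𝒜).presheaf.germ (Proj.basicOpen 𝒜 f) x m
        ((Proj.awayToSection 𝒜 f).hom (Away.mk 𝒜 hf k g hg))) ↔ x ∈ Proj.basicOpen 𝒜 g := by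
    intro m
    have h0 : x ∈ Proj.basicOpen 𝒜 g ↔ g ∉ ProjectiveSpectrum.asHomogeneousIdeal x := Iff.rfl
    rw [h0, ← isUnit_awayToSection_apply_iff 𝒜 hf k g hg x m]
    have h1 := AlgebraicGeometry.Proj.stalkIso'_germ 𝒜 (ProjectiveSpectrum.basicOpen 𝒜 f) x m
      ((Proj.awayToSection 𝒜 f).hom (Away.mk 𝒜 hf k g hg))
    have h2 := MulEquiv.isUnit_map (AlgebraicGeometry.Proj.stalkIso' 𝒜 x).toMulEquiv
      (x := (ProjectiveSpectrum.Proj.structureSheaf 𝒜).presheaf.germ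
        (ProjectiveSpectrum.basicOpen 𝒜 f) x m
        ((Proj.awayToSection 𝒜 f).hom (Away.mk 𝒜 hf k g hg)))
    refine h2.symm.trans ?_
    exact iff_of_eq (congrArg IsUnit h1)
  constructor
  · rintro ⟨m, hu⟩
    exact ⟨m, (key m).mp hu⟩
  · rintro ⟨m, hg'⟩
    exact ⟨m, (key m).mpr hg'⟩

variable {M : Type u} [AddCommGroup M] [Module R M] [Module A M] [IsScalarTower R A M]
  (ℳ : ℕ → Submodule R M) [DirectSum.Decomposition ℳ] [SetLike.GradedSMul 𝒜 ℳ]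

theorem exists_sect_extend (n : ℤ) {d : ℕ} (hd : 0 < d) {f : A} (hf : f ∈ 𝒜 d) (k : ℕ) (g : A)
    (hg : g ∈ 𝒜 (k • d))
    (y : GrTilde.sect 𝒜 ℳ n (op (ProjectiveSpectrum.basicOpen 𝒜 (f * g)))) :
    ∃ (N : ℕ) (x : GrTilde.sect 𝒜 ℳ n (op (ProjectiveSpectrum.basicOpen 𝒜 f))),
      ∀ (z : ProjectiveSpectrum 𝒜) (hz : z ∈ ProjectiveSpectrum.basicOpen 𝒜 (f * g))
        (hzf : z ∈ ProjectiveSpectrum.basicOpen 𝒜 f),
        (Localization.mk g (⟨f ^ k, fun h => hzf (z.isPrime.mem_of_pow_mem k h)⟩ :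
          z.asHomogeneousIdeal.toIdeal.primeCompl)) ^ N •
          ((y.1 ⟨z, hz⟩ : GrTilde.tildeAt 𝒜 ℳ n z) : GrTilde.LocMod 𝒜 (M := M) z) =
        ((x.1 ⟨z, hzf⟩ : GrTilde.tildeAt 𝒜 ℳ n z) : GrTilde.LocMod 𝒜 (M := M) z) := by
  have hfg : f * g ∈ 𝒜 (d + k • d) := SetLike.mul_mem_graded hf hg
  obtain ⟨K, i, m, hi, hval⟩ := Groth.Agent.S3586.result 𝒜 ℳ n (by omega : 0 < d + k • d) hfg y
  have hi' : (i : ℤ) = ((K * (k + 1) : ℕ) : ℤ) * d + n := by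
    rw [hi]; push_cast; simp only [smul_eq_mul]; push_cast; ring
  refine ⟨K, fracSection 𝒜 ℳ hi' m.2 hf, ?_⟩
  intro z hz hzf
  refine (congrArg (fun q => (Localization.mk g (⟨f ^ k, fun h => hzf (z.isPrime.mem_of_pow_mem k h)⟩ :
          z.asHomogeneousIdeal.toIdeal.primeCompl)) ^ K • q) (hval ⟨z, hz⟩)).trans ?_
  refine Eq.trans ?_ (fracSection_val 𝒜 ℳ hi' m.2 hf ⟨z, hzf⟩).symm
  rw [Localization.mk_pow, LocalizedModule.mk_smul_mk, LocalizedModule.mk_eq]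
  refine ⟨1, ?_⟩
  simp only [one_smul, Submonoid.smul_def, Submonoid.coe_mul, SubmonoidClass.coe_pow, ← mul_smul]
  congr 1
  ring

theorem exists_pow_smul_sect_eq_zero (n : ℤ) {d : ℕ} (hd : 0 < d) {f : A} (hf : f ∈ 𝒜 d) (k : ℕ)
    (g : A) (hg : g ∈ 𝒜 (k • d))
    (x : GrTilde.sect 𝒜 ℳ n (op (ProjectiveSpectrum.basicOpen 𝒜 f)))
    (hx : ∀ (z : ProjectiveSpectrum 𝒜) (_ : z ∈ ProjectiveSpectrum.basicOpen 𝒜 (f * g))
        (hzf : z ∈ ProjectiveSpectrum.basicOpen 𝒜 f),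
        ((x.1 ⟨z, hzf⟩ : GrTilde.tildeAt 𝒜 ℳ n z) : GrTilde.LocMod 𝒜 (M := M) z) = 0) :
    ∃ N : ℕ, ∀ (z : ProjectiveSpectrum 𝒜) (hzf : z ∈ ProjectiveSpectrum.basicOpen 𝒜 f),
        (Localization.mk g (⟨f ^ k, fun h => hzf (z.isPrime.mem_of_pow_mem k h)⟩ :
          z.asHomogeneousIdeal.toIdeal.primeCompl)) ^ N •
          ((x.1 ⟨z, hzf⟩ : GrTilde.tildeAt 𝒜 ℳ n z) : GrTilde.LocMod 𝒜 (M := M) z) = 0 := by
  have hfg : f * g ∈ 𝒜 (d + k • d) := SetLike.mul_mem_graded hf hg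
  obtain ⟨K, i, m, hi, hval⟩ := Groth.Agent.S3586.result 𝒜 ℳ n hd hf x
  obtain ⟨N, hN⟩ := exists_pow_smul_eq_zero_of_forall_localized_eq_zero 𝒜 ℳ m.2
    (by omega : 0 < d + k • d) hfg (by
      intro z hz
      have hzf : z ∈ ProjectiveSpectrum.basicOpen 𝒜 f := fun h => hz (Ideal.mul_mem_right _ _ h)
      have h1 := hx z hz hzf
      replace h1 := (hval ⟨z, hzf⟩).symm.trans h1
      rw [← LocalizedModule.zero_mk (1 : z.asHomogeneousIdeal.toIdeal.primeCompl),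
        LocalizedModule.mk_eq] at h1
      obtain ⟨u, hu⟩ := h1
      refine ⟨u.1, u.2, ?_⟩
      simpa [Submonoid.smul_def] using hu)
  refine ⟨N, fun z hzf => ?_⟩
  refine (congrArg (fun q => (Localization.mk g (⟨f ^ k, fun h => hzf (z.isPrime.mem_of_pow_mem k h)⟩ :
          z.asHomogeneousIdeal.toIdeal.primeCompl)) ^ N • q) (hval ⟨z, hzf⟩)).trans ?_
  rw [Localization.mk_pow, LocalizedModule.mk_smul_mk,
    ← LocalizedModule.zero_mk (1 : z.asHomogeneousIdeal.toIdeal.primeCompl), LocalizedModule.mk_eq]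
  refine ⟨⟨f ^ N, fun h => hzf (z.isPrime.mem_of_pow_mem N h)⟩, ?_⟩
  simp only [Submonoid.smul_def, one_smul, smul_zero, ← mul_smul]
  rw [← mul_pow, hN]

theorem tilde_smul_val (n : ℤ) (W : (Proj 𝒜).Opens) (r : Γ(Proj 𝒜, W))
    (s : Γ(GrTilde.tilde 𝒜 ℳ n, W)) (z : W) :
    ((((r • s : Γ(GrTilde.tilde 𝒜 ℳ n, W)) : GrTilde.sect 𝒜 ℳ n (op W)).1 z :
      GrTilde.tildeAt 𝒜 ℳ n z.1) : GrTilde.LocMod 𝒜 (M := M) z.1) =
    (r.1 z).val • (((s : GrTilde.sect 𝒜 ℳ n (op W)).1 z : GrTilde.tildeAt 𝒜 ℳ n z.1) :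
      GrTilde.LocMod 𝒜 (M := M) z.1) :=
  GrTilde.coe_smul_val n z.1 (r.1 z) ((s : GrTilde.sect 𝒜 ℳ n (op W)).1 z)

theorem tilde_isQuasicoherent (n : ℤ) : (GrTilde.tilde 𝒜 ℳ n).IsQuasicoherent := by
  let ι : Type u := {p : ℕ × A // 0 < p.1 ∧ p.2 ∈ 𝒜 p.1}
  have hcov : IsOpenCover (fun p : ι => Proj.basicOpen 𝒜 p.1.2) := by
    refine IsOpenCover.mk (top_le_iff.mp ?_)
    intro x _
    obtain ⟨i, s, hi, hs, hsx⟩ := exists_pos_homogeneous_notMem 𝒜 x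
    exact Opens.mem_iSup.mpr ⟨⟨(i, s), hi, hs⟩, hsx⟩
  refine isQuasicoherent_of_localizes (GrTilde.tilde 𝒜 ℳ n) _ hcov
    (fun p => Proj.isAffineOpen_basicOpen 𝒜 p.1.2 p.2.2 p.2.1) ?_ ?_
  · rintro ⟨⟨d, f⟩, hd, hf⟩ r y
    dsimp only at hd hf r y ⊢
    have hbij : Function.Bijective (Proj.awayToSection 𝒜 f).hom := by
      have := ConcreteCategory.bijective_of_isIso (Proj.basicOpenIsoAway 𝒜 f hf hd).hom
      rwa [Proj.basicOpenIsoAway_hom] at this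
    obtain ⟨a, rfl⟩ := hbij.2 r
    obtain ⟨k, g, hg, rfl⟩ := Away.mk_surjective 𝒜 hf a
    have aux : ∀ (W : (Proj 𝒜).Opens) (_ : W = Proj.basicOpen 𝒜 (f * g))
        (hW : W ≤ Proj.basicOpen 𝒜 f) (y : Γ(GrTilde.tilde 𝒜 ℳ n, W)),
        ∃ (N : ℕ) (x : Γ(GrTilde.tilde 𝒜 ℳ n, Proj.basicOpen 𝒜 f)),
          ((Proj 𝒜).presheaf.map (homOfLE hW).op
            ((Proj.awayToSection 𝒜 f).hom (Away.mk 𝒜 hf k g hg))) ^ N • y =
            mres (GrTilde.tilde 𝒜 ℳ n) hW x := by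
      intro W e hW y
      subst e
      obtain ⟨N, x, hx⟩ := exists_sect_extend 𝒜 ℳ n hd hf k g hg y
      refine ⟨N, x, sect_ext 𝒜 ℳ n _ _ _ (fun z => ?_)⟩
      refine (tilde_smul_val 𝒜 ℳ n _ _ y z).trans ?_
      refine Eq.trans ?_ (hx z.1 z.2 (hW z.2))
      congr 1
      exact HomogeneousLocalization.val_pow _ N
    exact aux _ (proj_basicOpen_awayToSection 𝒜 hf k g hg) _ y
  · rintro ⟨⟨d, f⟩, hd, hf⟩ r x hx
    dsimp only at hd hf r x hx ⊢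
    have hbij : Function.Bijective (Proj.awayToSection 𝒜 f).hom := by
      have := ConcreteCategory.bijective_of_isIso (Proj.basicOpenIsoAway 𝒜 f hf hd).hom
      rwa [Proj.basicOpenIsoAway_hom] at this
    obtain ⟨a, rfl⟩ := hbij.2 r
    obtain ⟨k, g, hg, rfl⟩ := Away.mk_surjective 𝒜 hf a
    have aux : ∀ (W : (Proj 𝒜).Opens) (_ : W = Proj.basicOpen 𝒜 (f * g))
        (hW : W ≤ Proj.basicOpen 𝒜 f) (x : Γ(GrTilde.tilde 𝒜 ℳ n, Proj.basicOpen 𝒜 f)),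
        mres (GrTilde.tilde 𝒜 ℳ n) hW x = 0 →
        ∃ (N : ℕ), ((Proj.awayToSection 𝒜 f).hom (Away.mk 𝒜 hf k g hg)) ^ N • x = 0 := by
      intro W e hW x hx
      subst e
      obtain ⟨N, hN⟩ := exists_pow_smul_sect_eq_zero 𝒜 ℳ n hd hf k g hg x (fun z hz hzf =>
        congrArg (fun s : GrTilde.sect 𝒜 ℳ n (op (Proj.basicOpen 𝒜 (f * g))) =>
          ((s.1 ⟨z, hz⟩ : GrTilde.tildeAt 𝒜 ℳ n z) : GrTilde.LocMod 𝒜 (M := M) z)) hx)
      refine ⟨N, sect_ext 𝒜 ℳ n _ _ _ (fun z => ?_)⟩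
      refine (tilde_smul_val 𝒜 ℳ n _ _ x z).trans ?_
      refine Eq.trans ?_ (hN z.1 z.2)
      congr 1
      exact HomogeneousLocalization.val_pow _ N
    exact aux _ (proj_basicOpen_awayToSection 𝒜 hf k g hg) _ x hx

end
end Groth.Agent.H18
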