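import Groth.Prelude.Def_GrMod2
import Groth.Agent.H18.ProjBasic

set_option autoImplicit false
universe u

namespace Groth.Agent.H18

open CategoryTheory CategoryTheory.Limits AlgebraicGeometry TopologicalSpace Opposite

section
variable {R A : Type u} [CommRing R] [CommRing A] [Algebra R A] (𝒜 : ℕ → Submodule R A) [GradedAlgebra 𝒜]
variable {M : Type u} [AddCommGroup M] [Module R M] [Module A M]
  (ℳ : ℕ → Submodule R M) [SetLike.GradedSMul 𝒜 ℳ]

/-- Every element of the module of degree-`n` fractions at `x` is a single fraction. -/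
theorem tildeAt_eq_fraction (n : ℤ) (x : ProjectiveSpectrum 𝒜) (t : GrTilde.LocMod 𝒜 (M := M) x)
    (ht : t ∈ GrTilde.tildeAt 𝒜 ℳ n x) :
    ∃ (i j : ℕ) (m : M) (s : A) (_ : m ∈ ℳ i) (_ : s ∈ 𝒜 j) (hs : s ∉ x.asHomogeneousIdeal),
      (i : ℤ) = j + n ∧ t = LocalizedModule.mk m ⟨s, hs⟩ := by
  unfold GrTilde.tildeAt at ht
  induction ht using Submodule.span_induction with
  | mem t ht =>
    obtain ⟨i, j, m, s, hs, hdeg, rfl⟩ := ht
    exact ⟨i, j, m.1, s.1, m.2, s.2, hs, hdeg, rfl⟩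
  | zero =>
    obtain ⟨e, g, he, hg, hgx⟩ := exists_pos_homogeneous_notMem 𝒜 x
    have hpow : g ^ n.natAbs ∈ 𝒜 (n.natAbs * e) := by
      have := SetLike.pow_mem_graded n.natAbs hg
      simpa [smul_eq_mul] using this
    have hge : (0 : ℤ) ≤ ((n.natAbs * e : ℕ) : ℤ) + n := by
      have h1 : n.natAbs ≤ n.natAbs * e := Nat.le_mul_of_pos_right _ he
      have h2 : (n.natAbs : ℤ) ≤ ((n.natAbs * e : ℕ) : ℤ) := by exact_mod_cast h1
      omega
    refine ⟨(((n.natAbs * e : ℕ) : ℤ) + n).toNat, n.natAbs * e, 0, g ^ n.natAbs, zero_mem _, hpow,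
      fun h => hgx (x.isPrime.mem_of_pow_mem _ h), ?_, ?_⟩
    · rw [Int.toNat_of_nonneg hge]
    · rw [LocalizedModule.zero_mk]
  | add t t' _ _ iht iht' =>
    obtain ⟨i, j, m, s, hm, hs, hsx, hdeg, rfl⟩ := iht
    obtain ⟨i', j', m', s', hm', hs', hsx', hdeg', rfl⟩ := iht'
    refine ⟨j' + i, j + j', s' • m + s • m', s * s', ?_, SetLike.mul_mem_graded hs hs',
      fun h => (x.isPrime.mem_or_mem h).elim hsx hsx', by push_cast; omega, ?_⟩
    · refine add_mem (SetLike.GradedSMul.smul_mem hs' hm) ?_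
      have e : j' + i = j + i' := by omega
      rw [e]
      exact SetLike.GradedSMul.smul_mem hs hm'
    · rw [LocalizedModule.mk_add_mk]
      rfl
  | smul c t _ iht =>
    obtain ⟨i, j, m, s, hm, hs, hsx, hdeg, rfl⟩ := iht
    obtain ⟨⟨k, ⟨a, ha⟩, ⟨b, hb⟩, hbx⟩, rfl⟩ := HomogeneousLocalization.mk_surjective c
    refine ⟨k + i, k + j, a • m, b * s, SetLike.GradedSMul.smul_mem ha hm,
      SetLike.mul_mem_graded hb hs, fun h => (x.isPrime.mem_or_mem h).elim hbx hsx,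
      by push_cast; omega, ?_⟩
    rw [GrTilde.a0_smul_def, HomogeneousLocalization.val_mk, LocalizedModule.mk_smul_mk]
    rfl


omit [SetLike.GradedSMul 𝒜 ℳ] in
/-- Unpacking the local predicate in a form without inclusion maps. -/
theorem exists_local_fraction (n : ℤ) {U : Opens (ProjectiveSpectrum.top 𝒜)}
    (f : ∀ y : U, GrTilde.tildeAt 𝒜 ℳ n y.1) (hf : (GrTilde.isLocFrac 𝒜 ℳ n).pred f)
    (x : ProjectiveSpectrum 𝒜) (hx : x ∈ U) :
    ∃ (U' : Opens (ProjectiveSpectrum.top 𝒜)) (_ : x ∈ U') (_ : U' ≤ U) (i j : ℕ) (m : M) (s : A)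
      (_ : m ∈ ℳ i) (_ : s ∈ 𝒜 j) (nin : ∀ y ∈ U', s ∉ y.asHomogeneousIdeal),
      ((i : ℤ) = j + n ∨ m = 0) ∧
      ∀ (y : ProjectiveSpectrum 𝒜) (hy : y ∈ U') (hyU : y ∈ U),
        ((f ⟨y, hyU⟩ : GrTilde.tildeAt 𝒜 ℳ n y) : GrTilde.LocMod 𝒜 (M := M) y) =
          LocalizedModule.mk m ⟨s, nin y hy⟩ := by
  obtain ⟨U', hxU', iU', i, j, m, s, nin, hdeg, hval⟩ := hf ⟨x, hx⟩
  refine ⟨U', hxU', leOfHom iU', i, j, m.1, s.1, m.2, s.2, fun y hy => nin ⟨y, hy⟩, hdeg, ?_⟩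
  intro y hy hyU
  exact hval ⟨y, hy⟩

end

end Groth.Agent.H18
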