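import Groth.Agent.H18.ProjReduced
import Mathlib.RingTheory.GradedAlgebra.RingHom

set_option autoImplicit false
universe u

open HomogeneousLocalization DirectSum

namespace Groth.Agent.H18

section

variable {R A : Type u} [CommRing R] [CommRing A] [Algebra R A]
variable (𝒜 : ℕ → Submodule R A) [GradedAlgebra 𝒜] (I : Ideal A)

/-- The grading on the quotient by an ideal: images of the graded pieces. -/
def quotGrading (n : ℕ) : Submodule R (A ⧸ I) :=
  (𝒜 n).map (Ideal.Quotient.mkₐ R I).toLinearMap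

omit [GradedAlgebra 𝒜] in
theorem mk_mem_quotGrading {n : ℕ} {a : A} (ha : a ∈ 𝒜 n) :
    Ideal.Quotient.mk I a ∈ quotGrading 𝒜 I n :=
  ⟨a, ha, rfl⟩

omit [GradedAlgebra 𝒜] in
theorem exists_of_mem_quotGrading {n : ℕ} {b : A ⧸ I} (hb : b ∈ quotGrading 𝒜 I n) :
    ∃ a ∈ 𝒜 n, Ideal.Quotient.mk I a = b := by
  obtain ⟨a, ha, rfl⟩ := hb
  exact ⟨a, ha, rfl⟩

instance quotGrading_gradedMonoid : SetLike.GradedMonoid (quotGrading 𝒜 I) where
  one_mem := ⟨1, SetLike.GradedOne.one_mem, map_one (Ideal.Quotient.mk I)⟩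
  mul_mem := by
    rintro i j _ _ ⟨a, ha, rfl⟩ ⟨b, hb, rfl⟩
    exact ⟨a * b, SetLike.GradedMul.mul_mem ha hb, map_mul (Ideal.Quotient.mk I) a b⟩

variable {I} in
theorem quotGrading_isInternal (hI : I.IsHomogeneous 𝒜) :
    DirectSum.IsInternal (quotGrading 𝒜 I) := by
  classical
  constructor
  · rw [injective_iff_map_eq_zero]
    intro x hx
    have hch : ∀ n : ℕ, ∃ a ∈ 𝒜 n, Ideal.Quotient.mk I a = (x n : A ⧸ I) :=
      fun n => exists_of_mem_quotGrading 𝒜 I (x n).2
    choose a ha hax using hch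
    have hsum : (DirectSum.coeAddMonoidHom (quotGrading 𝒜 I)) x =
        Ideal.Quotient.mk I (∑ n ∈ x.support, a n) := by
      rw [map_sum]
      conv_lhs => rw [← DirectSum.sum_support_of x]
      rw [map_sum]
      refine Finset.sum_congr rfl fun n _ => ?_
      rw [DirectSum.coeAddMonoidHom_of, hax]
    rw [hsum, Ideal.Quotient.eq_zero_iff_mem] at hx
    ext m
    by_cases hm : m ∈ x.support
    · have h1 := hI m hx
      rw [DirectSum.decompose_sum, DFinsupp.finsetSum_apply, AddSubmonoidClass.coe_finsetSum] at h1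
      have h2 : ∀ n ∈ x.support, ((DirectSum.decompose 𝒜 (a n)) m : A) = if n = m then a m else 0 := by
        intro n _
        split_ifs with h
        · subst h; rw [DirectSum.decompose_of_mem_same 𝒜 (ha n)]
        · rw [DirectSum.decompose_of_mem_ne 𝒜 (ha n) h]
      rw [Finset.sum_congr rfl h2, Finset.sum_ite_eq' x.support m, if_pos hm] at h1
      rw [DirectSum.zero_apply, ZeroMemClass.coe_zero, ← hax, Ideal.Quotient.eq_zero_iff_mem]
      exact h1
    · rw [DFinsupp.notMem_support_iff] at hm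
      rw [hm]; rfl
  · intro b
    obtain ⟨a, rfl⟩ := Ideal.Quotient.mk_surjective b
    refine ⟨∑ n ∈ (DirectSum.decompose 𝒜 a).support,
      DirectSum.of (fun n => quotGrading 𝒜 I n) n
        ⟨Ideal.Quotient.mk I (DirectSum.decompose 𝒜 a n), mk_mem_quotGrading 𝒜 I (Subtype.prop _)⟩, ?_⟩
    rw [map_sum]
    conv_rhs => rw [← DirectSum.sum_support_decompose 𝒜 a, map_sum]
    refine Finset.sum_congr rfl fun n _ => ?_
    rw [DirectSum.coeAddMonoidHom_of]

variable {I} in
/-- The quotient of a graded algebra by a homogeneous ideal is graded. -/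
@[reducible] noncomputable def quotGradedAlgebra (hI : I.IsHomogeneous 𝒜) :
    GradedAlgebra (quotGrading 𝒜 I) :=
  { quotGrading_gradedMonoid 𝒜 I with
    toDecomposition := (quotGrading_isInternal 𝒜 hI).chooseDecomposition }

variable {I} in
/-- The quotient map as a graded ring homomorphism. -/
noncomputable def quotGradedHom (hI : I.IsHomogeneous 𝒜) :
    letI := quotGradedAlgebra 𝒜 hI
    𝒜 →+*ᵍ quotGrading 𝒜 I :=
  letI := quotGradedAlgebra 𝒜 hI
  { toRingHom := Ideal.Quotient.mk I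
    map_mem := fun hx => mk_mem_quotGrading 𝒜 I hx }

variable {I} in
theorem quotGradedHom_apply (hI : I.IsHomogeneous 𝒜) (a : A) :
    letI := quotGradedAlgebra 𝒜 hI
    quotGradedHom 𝒜 hI a = Ideal.Quotient.mk I a := rfl

variable {I} in
theorem quotGradedHom_surjective (hI : I.IsHomogeneous 𝒜) :
    letI := quotGradedAlgebra 𝒜 hI
    Function.Surjective (quotGradedHom 𝒜 hI) :=
  Ideal.Quotient.mk_surjective

variable {I} in
/-- The kernel of the map on degree zero localizations induced by the quotient map. -/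
theorem awayMap_quot_eq_zero_iff (hI : I.IsHomogeneous 𝒜) {d : ℕ} {f : A} (hf : f ∈ 𝒜 d)
    (n : ℕ) (a : A) (ha : a ∈ 𝒜 (n • d)) :
    letI := quotGradedAlgebra 𝒜 hI
    Away.map (quotGradedHom 𝒜 hI) f (Away.mk 𝒜 hf n a ha) = 0 ↔ ∃ m : ℕ, f ^ m * a ∈ I := by
  letI := quotGradedAlgebra 𝒜 hI
  rw [Away.map_mk, away_mk_eq_zero_iff]
  refine exists_congr fun m => ?_
  rw [quotGradedHom_apply, quotGradedHom_apply, ← map_pow, ← map_mul,
    Ideal.Quotient.eq_zero_iff_mem]

end

end Groth.Agent.H18
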