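import Groth.Prelude.Def_Coh

/-!
`H^0(X, M)` is the module of global sections, linearly over the global functions (helper18).
-/

set_option autoImplicit false
universe u

open CategoryTheory CategoryTheory.Limits AlgebraicGeometry TopologicalSpace Opposite

namespace Groth.Agent.H18.HH0

variable {X : Scheme.{u}}

/-- `H^0(X, M) ≃+ Γ(X, M)` -/
noncomputable def equiv (M : X.Modules) : Coh.HH X M 0 ≃+ M.val.obj (op (⊤ : X.Opens)) :=
  Sheaf.H.equiv₀ (Coh.toAb M) (isTerminalTop : IsTerminal (⊤ : X.Opens))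

theorem resTop_top (r : Coh.Γtop X) : Coh.resTop X (op ⊤) r = r := by
  change (X.ringCatSheaf.obj.map (𝟙 (op (⊤ : Opens X)))).hom r = r
  rw [CategoryTheory.Functor.map_id]
  rfl

theorem equiv_smul (M : X.Modules) (r : Coh.Γtop X) (x : Coh.HH X M 0) :
    equiv M (r • x) = r • equiv M x := by
  change Sheaf.H.equiv₀ (Coh.toAb M) _ (Sheaf.H.map (Coh.smulAb M r) 0 x) = _
  rw [← Sheaf.H.equiv₀_naturality, Coh.smulAb_app, resTop_top]
  rfl

theorem smul_def' (A : Type u) [CommRing A] [X.Over (Spec (CommRingCat.of A))] (M : X.Modules)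
    (n : ℕ) (a : A) (x : Coh.HH X M n) :
    a • x = Coh.toGlobal (X ↘ Spec (CommRingCat.of A)) a • x := rfl

end Groth.Agent.H18.HH0
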