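import Groth.Agent.H18.TwistAmple2

set_option autoImplicit false
universe u

open CategoryTheory CategoryTheory.Limits AlgebraicGeometry TopologicalSpace Opposite

namespace Groth.Agent.H18

section

variable {R A : Type u} [CommRing R] [CommRing A] [Algebra R A]
variable (𝒜 : ℕ → Submodule R A) [GradedAlgebra 𝒜]

/-- if `A` is generated as an algebra by homogeneous elements `f i` of positive degrees, then every
point of `Proj` avoids some `f i` -/
theorem exists_notMem_of_adjoin_eq_top {ι : Type*} (f : ι → A)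
    (hgen : Algebra.adjoin R (Set.range f) = ⊤) (x : ProjectiveSpectrum 𝒜) :
    ∃ i, f i ∉ x.asHomogeneousIdeal := by
  classical
  by_contra hcon
  push Not at hcon
  have hI : Ideal.span (Set.range f) ≤ x.asHomogeneousIdeal.toIdeal := by
    rw [Ideal.span_le]
    rintro _ ⟨i, rfl⟩
    exact hcon i
  have key : ∀ a : A, ∃ r : R, a - algebraMap R A r ∈ Ideal.span (Set.range f) := by
    intro a
    have ha : a ∈ Algebra.adjoin R (Set.range f) := by rw [hgen]; trivial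
    induction ha using Algebra.adjoin_induction with
    | mem a ha => exact ⟨0, by rw [map_zero, sub_zero]; exact Ideal.subset_span ha⟩
    | algebraMap r => exact ⟨r, by rw [sub_self]; exact zero_mem _⟩
    | add a b _ _ ha hb =>
      obtain ⟨r, hr⟩ := ha
      obtain ⟨r', hr'⟩ := hb
      refine ⟨r + r', ?_⟩
      have : a + b - algebraMap R A (r + r') = (a - algebraMap R A r) + (b - algebraMap R A r') := by
        rw [map_add]; ring
      rw [this]
      exact add_mem hr hr'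
    | mul a b _ _ ha hb =>
      obtain ⟨r, hr⟩ := ha
      obtain ⟨r', hr'⟩ := hb
      refine ⟨r * r', ?_⟩
      have : a * b - algebraMap R A (r * r') =
          (a - algebraMap R A r) * b + algebraMap R A r * (b - algebraMap R A r') := by
        rw [map_mul]; ring
      rw [this]
      exact add_mem (Ideal.mul_mem_right _ _ hr) (Ideal.mul_mem_left _ _ hr')
  apply x.not_irrelevant_le
  rw [HomogeneousIdeal.irrelevant_le]
  intro d hd a ha
  obtain ⟨r, hr⟩ := key a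
  have hx : a - algebraMap R A r ∈ x.asHomogeneousIdeal.toIdeal := hI hr
  have hproj := x.asHomogeneousIdeal.isHomogeneous d hx
  have h0 : algebraMap R A r ∈ 𝒜 0 := SetLike.algebraMap_mem_graded 𝒜 r
  rw [DirectSum.decompose_sub, DirectSum.sub_apply, AddSubgroupClass.coe_sub,
    DirectSum.decompose_of_mem_same 𝒜 ha,
    DirectSum.decompose_of_mem_ne 𝒜 h0 (Nat.pos_iff_ne_zero.mp hd).symm, sub_zero] at hproj
  exact hproj

/-- local trivialisation of `O(n)` from a cover by degree one basic opens -/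
theorem locTriv_of_cover_one (hcov : ∀ x : ProjectiveSpectrum 𝒜, ∃ g : A, g ∈ 𝒜 1 ∧ g ∉ x.asHomogeneousIdeal)
    (n : ℕ) : TwMul.LocTriv 𝒜 (n : ℤ) := by
  intro x
  obtain ⟨g, hg, hgx⟩ := hcov x
  exact ⟨n, 0, g ^ n, 1, TwMul.fpow_mem_one 𝒜 hg n, SetLike.GradedOne.one_mem, by simp,
    fun h => hgx (x.isPrime.mem_of_pow_mem n h), GrMod.one_nin x⟩

/-- the sections `b / 1`, `b ∈ 𝒜 n`, generate `O(n)` if every point has a neighbourhood `D₊(b)` with
`b ∈ 𝒜 n` -/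
theorem generatedBy_globalOf (n : ℕ)
    (hcov : ∀ x : ProjectiveSpectrum 𝒜, ∃ b : A, b ∈ 𝒜 n ∧ b ∉ x.asHomogeneousIdeal) :
    ProjUP.GeneratedBy (Twist.twist 𝒜 (n : ℤ))
      (fun b : 𝒜 n => (Twist.globalOf 𝒜 b : ProjUP.Γm (Twist.twist 𝒜 (n : ℤ)))) := by
  refine generatedBy_of_locally_mem_span _ _ ?_
  intro V t x hx
  obtain ⟨b, hb, hbx⟩ := hcov x
  refine ⟨V ⊓ Proj.basicOpen 𝒜 b, inf_le_left, ⟨hx, hbx⟩, ?_⟩
  have he : ((n : ℕ) : ℤ) = ((0 : ℕ) : ℤ) + (n : ℤ) := by simp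
  have h1 : ∀ z : ProjectiveSpectrum 𝒜, z ∈ V ⊓ Proj.basicOpen 𝒜 b → (1 : A) ∉ z.asHomogeneousIdeal :=
    fun z _ => GrMod.one_nin z
  obtain ⟨r, hr⟩ := smul_fracTw_surjective 𝒜 hb (SetLike.GradedOne.one_mem : (1 : A) ∈ 𝒜 0) he
    (V ⊓ Proj.basicOpen 𝒜 b) (fun z hz => hz.2) h1
    (mres (Twist.twist 𝒜 (n : ℤ)) inf_le_left t)
  have hr' : r • fracTw 𝒜 hb (SetLike.GradedOne.one_mem : (1 : A) ∈ 𝒜 0) he
      (V ⊓ Proj.basicOpen 𝒜 b) h1 = mres (Twist.twist 𝒜 (n : ℤ)) inf_le_left t := hr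
  rw [← hr']
  exact Submodule.smul_mem _ r (Submodule.subset_span ⟨⟨b, hb⟩, rfl⟩)

/-- `O(n)`, `n > 0`, is ample if `Proj` is quasi-compact, `O(n)` is locally trivial, and every point
has an affine neighbourhood `D₊(b)` with `b ∈ 𝒜 n` -/
theorem isAmple_twist (n : ℕ) (hn : 0 < n) [CompactSpace (Proj 𝒜)]
    (hcov : ∀ x : ProjectiveSpectrum 𝒜, ∃ b : A, b ∈ 𝒜 n ∧ b ∉ x.asHomogeneousIdeal) :
    CohB1.IsAmple (Twist.twist 𝒜 (n : ℤ)) := by
  have hk : TwMul.LocTriv 𝒜 (n : ℤ) := by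
    intro x
    obtain ⟨b, hb, hbx⟩ := hcov x
    exact ⟨n, 0, b, 1, hb, SetLike.GradedOne.one_mem, by simp, hbx, GrMod.one_nin x⟩
  refine ⟨isInvertible_twist' 𝒜 _ hk, inferInstance, ?_⟩
  intro x
  obtain ⟨b, hb, hbx⟩ := hcov x
  obtain ⟨e⟩ := nonempty_twist_iso_tensorPow_one 𝒜 (n : ℤ) hk
  refine ⟨0, sectionHom (Twist.twist 𝒜 (n : ℤ)) (secN 𝒜 hb) ≫ e.hom, ?_⟩
  rw [genLocus_comp_iso, genLocus_sectionHom_secN 𝒜 hb hk]
  exact ⟨hbx, Proj.isAffineOpen_basicOpen 𝒜 b hb hn⟩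

end

end Groth.Agent.H18
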