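import Mathlib.Algebra.MvPolynomial.Basic
import Mathlib.RingTheory.MvPolynomial.Homogeneous

/-!
Laurent coefficients of a fraction `m / T^u` of a polynomial by a monomial
(helper18; used for the cohomology of line bundles on projective space).
-/

set_option autoImplicit false
universe u
open MvPolynomial

namespace Groth.Agent.H18.Lau

variable {σ : Type*} [Finite σ] {R : Type*} [CommRing R]

/-- the exponent `a + u`, truncated to natural numbers -/
noncomputable def shiftExp (a : σ → ℤ) (u : σ →₀ ℕ) : σ →₀ ℕ :=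
  Finsupp.equivFunOnFinite.symm (fun i => (a i + (u i : ℤ)).toNat)

@[simp] theorem shiftExp_apply (a : σ → ℤ) (u : σ →₀ ℕ) (i : σ) :
    shiftExp a u i = (a i + (u i : ℤ)).toNat := rfl

open Classical in
/-- the coefficient of `T^a` in the Laurent polynomial `m / T^u` -/
noncomputable def lau (m : MvPolynomial σ R) (u : σ →₀ ℕ) (a : σ → ℤ) : R :=
  if ∀ i, 0 ≤ a i + (u i : ℤ) then coeff (shiftExp a u) m else 0

theorem lau_of_nonneg (m : MvPolynomial σ R) (u : σ →₀ ℕ) (a : σ → ℤ)
    (h : ∀ i, 0 ≤ a i + (u i : ℤ)) : lau m u a = coeff (shiftExp a u) m := by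
  classical
  rw [lau, if_pos h]

theorem lau_of_not_nonneg (m : MvPolynomial σ R) (u : σ →₀ ℕ) (a : σ → ℤ)
    (h : ¬ ∀ i, 0 ≤ a i + (u i : ℤ)) : lau m u a = 0 := by
  classical
  rw [lau, if_neg h]

theorem lau_eq_of_mul_eq {m m' : MvPolynomial σ R} {u u' : σ →₀ ℕ}
    (h : monomial u' (1 : R) * m = monomial u (1 : R) * m') : lau m u = lau m' u' := by
  classical
  funext a
  by_cases hB : ∀ i, 0 ≤ a i + (u i : ℤ) + (u' i : ℤ)
  · have key := congrArg (coeff (shiftExp a (u + u'))) h
    rw [coeff_monomial_mul', coeff_monomial_mul', one_mul, one_mul] at key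
    have h1 : u' ≤ shiftExp a (u + u') ↔ ∀ i, 0 ≤ a i + (u i : ℤ) := by
      rw [Finsupp.le_def]
      refine forall_congr' fun i => ?_
      have := hB i
      simp only [shiftExp_apply, Finsupp.add_apply, Nat.cast_add]
      omega
    have h2 : u ≤ shiftExp a (u + u') ↔ ∀ i, 0 ≤ a i + (u' i : ℤ) := by
      rw [Finsupp.le_def]
      refine forall_congr' fun i => ?_
      have := hB i
      simp only [shiftExp_apply, Finsupp.add_apply, Nat.cast_add]
      omega
    have e1 : (∀ i, 0 ≤ a i + (u i : ℤ)) → shiftExp a (u + u') - u' = shiftExp a u := by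
      intro hu
      ext i
      have := hu i
      simp only [Finsupp.tsub_apply, shiftExp_apply, Finsupp.add_apply, Nat.cast_add]
      omega
    have e2 : (∀ i, 0 ≤ a i + (u' i : ℤ)) → shiftExp a (u + u') - u = shiftExp a u' := by
      intro hu
      ext i
      have := hu i
      simp only [Finsupp.tsub_apply, shiftExp_apply, Finsupp.add_apply, Nat.cast_add]
      omega
    by_cases c1 : ∀ i, 0 ≤ a i + (u i : ℤ)
    · by_cases c2 : ∀ i, 0 ≤ a i + (u' i : ℤ)
      · rw [if_pos (h1.mpr c1), if_pos (h2.mpr c2), e1 c1, e2 c2] at key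
        rw [lau_of_nonneg _ _ _ c1, lau_of_nonneg _ _ _ c2, key]
      · rw [if_pos (h1.mpr c1), if_neg (fun hh => c2 (h2.mp hh)), e1 c1] at key
        rw [lau_of_nonneg _ _ _ c1, lau_of_not_nonneg _ _ _ c2, key]
    · by_cases c2 : ∀ i, 0 ≤ a i + (u' i : ℤ)
      · rw [if_neg (fun hh => c1 (h1.mp hh)), if_pos (h2.mpr c2), e2 c2] at key
        rw [lau_of_not_nonneg _ _ _ c1, lau_of_nonneg _ _ _ c2, key]
      · rw [lau_of_not_nonneg _ _ _ c1, lau_of_not_nonneg _ _ _ c2]
  · have c1 : ¬ ∀ i, 0 ≤ a i + (u i : ℤ) := by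
      intro hh
      apply hB
      intro i
      have := hh i
      omega
    have c2 : ¬ ∀ i, 0 ≤ a i + (u' i : ℤ) := by
      intro hh
      apply hB
      intro i
      have := hh i
      omega
    rw [lau_of_not_nonneg _ _ _ c1, lau_of_not_nonneg _ _ _ c2]

theorem lau_add (m m' : MvPolynomial σ R) (u : σ →₀ ℕ) : lau (m + m') u = lau m u + lau m' u := by
  classical
  funext a
  by_cases c : ∀ i, 0 ≤ a i + (u i : ℤ)
  · simp only [Pi.add_apply, lau_of_nonneg _ _ _ c, coeff_add]
  · simp only [Pi.add_apply, lau_of_not_nonneg _ _ _ c, add_zero]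

theorem lau_zero (u : σ →₀ ℕ) : lau (0 : MvPolynomial σ R) u = 0 := by
  classical
  funext a
  by_cases c : ∀ i, 0 ≤ a i + (u i : ℤ)
  · simp only [Pi.zero_apply, lau_of_nonneg _ _ _ c, coeff_zero]
  · simp only [Pi.zero_apply, lau_of_not_nonneg _ _ _ c]

theorem eq_zero_of_lau_eq_zero {m : MvPolynomial σ R} {u : σ →₀ ℕ} (h : lau m u = 0) : m = 0 := by
  classical
  rw [MvPolynomial.eq_zero_iff]
  intro b
  have hc : ∀ i, 0 ≤ ((b i : ℤ) - (u i : ℤ)) + (u i : ℤ) := fun i => by omega
  have h1 := congrFun h (fun i => (b i : ℤ) - (u i : ℤ))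
  rw [lau_of_nonneg _ _ _ hc] at h1
  have h2 : shiftExp (fun i => (b i : ℤ) - (u i : ℤ)) u = b := by
    ext i
    simp only [shiftExp_apply]
    omega
  rw [h2] at h1
  exact h1


theorem eq_zero_of_monomial_mul_eq_zero {u : σ →₀ ℕ} {p : MvPolynomial σ R}
    (h : monomial u (1 : R) * p = 0) : p = 0 := by
  rw [MvPolynomial.eq_zero_iff]
  intro b
  have h1 := congrArg (coeff (u + b)) h
  rwa [coeff_monomial_mul, one_mul, coeff_zero] at h1

theorem lau_support_finite (m : MvPolynomial σ R) (u : σ →₀ ℕ) :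
    (Function.support (lau m u)).Finite := by
  classical
  refine Set.Finite.subset
    ((m.support.image (fun b : σ →₀ ℕ => fun i => (b i : ℤ) - (u i : ℤ))).finite_toSet) ?_
  intro a ha
  rw [Function.mem_support] at ha
  by_cases c : ∀ i, 0 ≤ a i + (u i : ℤ)
  · rw [lau_of_nonneg _ _ _ c] at ha
    simp only [Finset.coe_image, Set.mem_image, Finset.mem_coe]
    refine ⟨shiftExp a u, MvPolynomial.mem_support_iff.mpr ha, ?_⟩
    funext i
    have := c i
    simp only [shiftExp_apply]
    omega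
  · exact absurd (lau_of_not_nonneg _ _ _ c) ha

theorem shiftExp_injOn {u : σ →₀ ℕ} {a a' : σ → ℤ} (c : ∀ i, 0 ≤ a i + (u i : ℤ))
    (c' : ∀ i, 0 ≤ a' i + (u i : ℤ)) (h : shiftExp a u = shiftExp a' u) : a = a' := by
  funext i
  have h1 := DFunLike.congr_fun h i
  have := c i
  have := c' i
  simp only [shiftExp_apply] at h1
  omega

section Fintype

variable [Fintype σ]

theorem degree_shiftExp {u : σ →₀ ℕ} {a : σ → ℤ} (c : ∀ i, 0 ≤ a i + (u i : ℤ)) :
    ((shiftExp a u).degree : ℤ) = ∑ i, a i + (u.degree : ℤ) := by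
  rw [Finsupp.degree_eq_sum, Finsupp.degree_eq_sum]
  push_cast
  rw [← Finset.sum_add_distrib]
  refine Finset.sum_congr rfl fun i _ => ?_
  have := c i
  simp only [shiftExp_apply]
  omega

theorem lau_ne_zero_imp {m : MvPolynomial σ R} {N : ℕ} (hm : m.IsHomogeneous N) {u : σ →₀ ℕ}
    {a : σ → ℤ} (h : lau m u a ≠ 0) :
    (∑ i, a i = (N : ℤ) - (u.degree : ℤ)) ∧ ∀ i, a i < 0 → 0 < u i := by
  classical
  by_cases c : ∀ i, 0 ≤ a i + (u i : ℤ)
  · rw [lau_of_nonneg _ _ _ c] at h
    have hdeg : (shiftExp a u).degree = N := by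
      by_contra hne
      exact h (hm.coeff_eq_zero hne)
    have h2 := degree_shiftExp c
    rw [hdeg] at h2
    refine ⟨by omega, fun i hi => ?_⟩
    have := c i
    omega
  · exact absurd (lau_of_not_nonneg _ _ _ c) h

theorem exists_lau_eq (r : (σ → ℤ) → R) (hr : (Function.support r).Finite) (e : σ →₀ ℕ)
    (d : ℤ) (he : 0 ≤ d ∨ 0 < e.degree)
    (h : ∀ a, r a ≠ 0 → (∑ i, a i = d) ∧ ∀ i, a i < 0 → 0 < e i) :
    ∃ (k N : ℕ) (m : MvPolynomial σ R), (N : ℤ) = d + (k : ℤ) * (e.degree : ℤ) ∧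
      m.IsHomogeneous N ∧ lau m (k • e) = r := by
  classical
  set S := hr.toFinset with hS
  have hmemS : ∀ a, a ∈ S ↔ r a ≠ 0 := fun a => by rw [hS, Set.Finite.mem_toFinset]; rfl
  set K := S.sup (fun a => Finset.univ.sup (fun i => (-(a i)).toNat)) with hK
  set k := max K (-d).toNat with hk
  have hcond : ∀ a ∈ S, ∀ i, 0 ≤ a i + ((k • e) i : ℤ) := by
    intro a ha i
    by_cases hai : 0 ≤ a i
    · have : (0 : ℤ) ≤ ((k • e) i : ℤ) := Int.natCast_nonneg _
      omega
    · have hei : 0 < e i := (h a ((hmemS a).mp ha)).2 i (by omega)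
      have h1 : (-(a i)).toNat ≤ K := by
        rw [hK]
        exact (Finset.le_sup (f := fun i => (-(a i)).toNat) (Finset.mem_univ i)).trans
          (Finset.le_sup (f := fun a => Finset.univ.sup (fun i => (-(a i)).toNat)) ha)
      have h2 : K ≤ k := le_max_left _ _
      have h3 : k ≤ k * e i := Nat.le_mul_of_pos_right k hei
      have h4 : ((k • e) i : ℤ) = ((k * e i : ℕ) : ℤ) := by
        rw [Finsupp.smul_apply, smul_eq_mul]
      rw [h4]
      omega
  have hdk : 0 ≤ d + (k : ℤ) * (e.degree : ℤ) := by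
    rcases he with he | he
    · have : (0 : ℤ) ≤ (k : ℤ) * (e.degree : ℤ) := by positivity
      omega
    · have h1 : (-d).toNat ≤ k := le_max_right _ _
      have h3 : k ≤ k * e.degree := Nat.le_mul_of_pos_right k he
      have h4 : ((k * e.degree : ℕ) : ℤ) = (k : ℤ) * (e.degree : ℤ) := by push_cast; ring
      omega
  obtain ⟨N, hN⟩ := Int.eq_ofNat_of_zero_le hdk
  have hdegke : ((k • e).degree : ℤ) = (k : ℤ) * (e.degree : ℤ) := by
    rw [map_nsmul, smul_eq_mul]; push_cast; ring
  refine ⟨k, N, ∑ a ∈ S, monomial (shiftExp a (k • e)) (r a), hN.symm, ?_, ?_⟩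
  · refine IsHomogeneous.sum _ _ _ fun a ha => isHomogeneous_monomial _ ?_
    have h1 := degree_shiftExp (hcond a ha)
    rw [(h a ((hmemS a).mp ha)).1, hdegke, hN] at h1
    exact_mod_cast h1
  · funext a'
    by_cases c : ∀ i, 0 ≤ a' i + ((k • e) i : ℤ)
    · rw [lau_of_nonneg _ _ _ c, coeff_sum]
      simp only [coeff_monomial]
      have hsum : ∀ a ∈ S, (if shiftExp a (k • e) = shiftExp a' (k • e) then r a else 0) =
          if a = a' then r a' else 0 := by
        intro a ha
        by_cases haa : a = a'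
        · subst haa; simp
        · rw [if_neg haa, if_neg]
          intro hh
          exact haa (shiftExp_injOn (hcond a ha) c hh)
      rw [Finset.sum_congr rfl hsum, Finset.sum_ite_eq' S a']
      by_cases hm : a' ∈ S
      · rw [if_pos hm]
      · rw [if_neg hm]
        by_contra hne
        exact hm ((hmemS a').mpr (Ne.symm hne))
    · rw [lau_of_not_nonneg _ _ _ c]
      by_contra hne
      exact c (hcond a' ((hmemS a').mpr (Ne.symm hne)))

end Fintype

end Groth.Agent.H18.Lau
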