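import Mathlib.CategoryTheory.CofilteredSystem
import Mathlib.Algebra.Category.Grp.Basic
import Mathlib.Algebra.Group.Subgroup.Ker
import Mathlib.Algebra.Group.Subgroup.Lattice
import Mathlib.Tactic.Abel

set_option autoImplicit false
universe u

namespace Groth.Agent.H18

open CategoryTheory Opposite

variable (F : ℕᵒᵖ ⥤ AddCommGrpCat.{u})

/-- transition map `F_k → F_p` -/
noncomputable def tr {p k : ℕ} (h : p ≤ k) : F.obj (op k) →+ F.obj (op p) :=
  (F.map (homOfLE h).op).hom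

lemma tr_tr {p k l : ℕ} (h : p ≤ k) (h' : k ≤ l) (x : F.obj (op l)) :
    tr F h (tr F h' x) = tr F (h.trans h') x := by
  unfold tr
  have : (homOfLE (h.trans h')).op = (homOfLE h').op ≫ (homOfLE h).op := rfl
  rw [this, F.map_comp]
  rfl

lemma range_tr_anti {p k l : ℕ} (h : p ≤ k) (h' : k ≤ l) :
    (tr F (h.trans h')).range ≤ (tr F h).range := by
  rintro _ ⟨x, rfl⟩
  exact ⟨tr F h' x, tr_tr F h h' x⟩

lemma forget_map_eq_tr {p k : ℕ} (f : op k ⟶ op p) (h : p ≤ k) :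
    Set.range ((F ⋙ forget AddCommGrpCat).map f) = ((tr F h).range : Set (F.obj (op p))) := by
  obtain rfl : f = (homOfLE h).op := Subsingleton.elim _ _
  rfl

lemma mittagLeffler_iff_stable :
    (F ⋙ forget AddCommGrpCat).IsMittagLeffler ↔
      ∀ p : ℕ, ∃ k₀ : ℕ, ∃ h₀ : p ≤ k₀, ∀ (k : ℕ) (hk : k₀ ≤ k),
        (tr F (h₀.trans hk)).range = (tr F h₀).range := by
  constructor
  · intro h p
    obtain ⟨i, f, hf⟩ := h (op p)
    induction i using Opposite.rec with | _ i => ?_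
    have h₀ : p ≤ i := leOfHom f.unop
    refine ⟨i, h₀, fun k hk => le_antisymm (range_tr_anti F h₀ hk) ?_⟩
    have := hf (k := op k) (homOfLE (h₀.trans hk)).op
    rw [forget_map_eq_tr F f h₀, forget_map_eq_tr F _ (h₀.trans hk)] at this
    exact this
  · intro h j
    induction j using Opposite.rec with | _ p => ?_
    obtain ⟨k₀, h₀, hk₀⟩ := h p
    refine ⟨op k₀, (homOfLE h₀).op, ?_⟩
    intro k g
    induction k using Opposite.rec with | _ k => ?_
    have hg : p ≤ k := leOfHom g.unop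
    rw [forget_map_eq_tr F _ h₀, forget_map_eq_tr F g hg]
    rcases le_total k₀ k with hk | hk
    · exact (hk₀ k hk).symm.le
    · exact range_tr_anti F hg hk

/-- Key inductive criterion. -/
lemma stable_of_graded
    (h0 : ∃ k₀ : ℕ, ∀ (k : ℕ) (_ : k₀ ≤ k),
      (tr F (Nat.zero_le k)).range = (tr F (Nat.zero_le k₀)).range)
    (hS : ∀ p : ℕ, ∃ k₀ : ℕ, ∃ h₀ : p + 1 ≤ k₀, ∀ (k : ℕ) (hk : k₀ ≤ k),
      (tr F (h₀.trans hk)).range ⊓ (tr F (Nat.le_succ p)).ker =
        (tr F h₀).range ⊓ (tr F (Nat.le_succ p)).ker) :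
    ∀ p : ℕ, ∃ k₀ : ℕ, ∃ h₀ : p ≤ k₀, ∀ (k : ℕ) (hk : k₀ ≤ k),
        (tr F (h₀.trans hk)).range = (tr F h₀).range := by
  intro p
  induction p with
  | zero =>
    obtain ⟨k₀, hk₀⟩ := h0
    exact ⟨k₀, Nat.zero_le _, fun k hk => hk₀ k hk⟩
  | succ p ih =>
    obtain ⟨k₁, h₁, hk₁⟩ := ih
    obtain ⟨k₂, h₂, hk₂⟩ := hS p
    have h₀ : p + 1 ≤ max k₁ k₂ := h₂.trans (le_max_right _ _)
    refine ⟨max k₁ k₂, h₀, fun k hk => le_antisymm (range_tr_anti F h₀ hk) ?_⟩
    rintro _ ⟨y, rfl⟩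
    -- image in F_p
    have e1 : (tr F (h₁.trans ((le_max_left k₁ k₂).trans hk))).range = (tr F h₁).range :=
      hk₁ k ((le_max_left k₁ k₂).trans hk)
    have e2 : (tr F (h₁.trans (le_max_left k₁ k₂))).range = (tr F h₁).range :=
      hk₁ _ (le_max_left k₁ k₂)
    have hy : tr F (h₁.trans (le_max_left k₁ k₂)) y ∈
        (tr F (h₁.trans ((le_max_left k₁ k₂).trans hk))).range := by
      rw [e1, ← e2]; exact ⟨y, rfl⟩
    obtain ⟨z, hz⟩ := hy
    -- x' = image of z in F_{p+1}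
    have hk' : p + 1 ≤ k := h₀.trans hk
    have hdiff : tr F h₀ y - tr F hk' z ∈
        (tr F h₀).range ⊓ (tr F (Nat.le_succ p)).ker := by
      refine ⟨?_, ?_⟩
      · refine AddSubgroup.sub_mem _ ⟨y, rfl⟩ ?_
        exact range_tr_anti F h₀ hk ⟨z, rfl⟩
      · change tr F (Nat.le_succ p) _ = 0
        rw [map_sub, tr_tr, tr_tr, sub_eq_zero]
        exact hz.symm
    have e3 : (tr F h₀).range ⊓ (tr F (Nat.le_succ p)).ker =
        (tr F hk').range ⊓ (tr F (Nat.le_succ p)).ker := by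
      have a := hk₂ k ((le_max_right k₁ k₂).trans hk)
      have b := hk₂ _ (le_max_right k₁ k₂)
      rw [b, ← a]
    rw [e3] at hdiff
    have : tr F h₀ y = (tr F h₀ y - tr F hk' z) + tr F hk' z := by abel
    rw [this]
    exact AddSubgroup.add_mem _ hdiff.1 ⟨z, rfl⟩

end Groth.Agent.H18
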