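import Mathlib.AlgebraicGeometry.ProjectiveSpectrum.Basic
import Mathlib.Algebra.Polynomial.AlgebraMap
import Mathlib.RingTheory.GradedAlgebra.Homogeneous.Maps

set_option autoImplicit false
universe u

open HomogeneousLocalization

namespace Groth.Agent.H18

section

variable {R A : Type u} [CommRing R] [CommRing A] [Algebra R A]
variable (𝒜 : ℕ → Submodule R A) [GradedAlgebra 𝒜]
variable {B : Type u} [CommRing B] [Algebra R B] (ℬ : ℕ → Submodule R B) [GradedAlgebra ℬ]
variable [Algebra A B] (φ : 𝒜 →+*ᵍ ℬ) (hφ : ∀ a : A, φ a = algebraMap A B a)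
variable (z : B) (hz : z ∈ ℬ 1)

include hφ hz in
/-- In `B = A[z]` with `z` of degree one, a homogeneous element of degree `m` is
`∑_{k ≤ m} φ(q k) z ^ k` with `q k` homogeneous of degree `m - k`. -/
theorem exists_homogeneous_coeffs (hsurj : Function.Surjective (Polynomial.aeval (R := A) z))
    (m : ℕ) (b : B) (hb : b ∈ ℬ m) :
    ∃ q : ℕ → A, (∀ k, q k ∈ 𝒜 (m - k)) ∧
      b = ∑ k ∈ Finset.range (m + 1), φ (q k) * z ^ k := by
  classical
  obtain ⟨p, rfl⟩ := hsurj b
  refine ⟨fun k => DirectSum.decompose 𝒜 (p.coeff k) (m - k), fun k => Subtype.prop _, ?_⟩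
  have hzk : ∀ k, z ^ k ∈ ℬ k := fun k => by
    have := SetLike.pow_mem_graded k hz
    simpa using this
  set N := max (p.natDegree + 1) (m + 1) with hN
  have h1 : Polynomial.aeval z p = ∑ k ∈ Finset.range N, φ (p.coeff k) * z ^ k := by
    rw [Polynomial.aeval_eq_sum_range' (n := N) (by omega)]
    refine Finset.sum_congr rfl fun k _ => ?_
    rw [Algebra.smul_def, hφ]
  have h2 : Polynomial.aeval z p =
      ((DirectSum.decompose ℬ (Polynomial.aeval z p) m : ℬ m) : B) := by
    rw [DirectSum.decompose_of_mem_same ℬ hb]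
  rw [h2, h1, DirectSum.decompose_sum, DFinsupp.finsetSum_apply, AddSubmonoidClass.coe_finsetSum]
  have h3 : ∀ k, ((DirectSum.decompose ℬ (φ (p.coeff k) * z ^ k) m : ℬ m) : B) =
      if k ≤ m then φ (DirectSum.decompose 𝒜 (p.coeff k) (m - k)) * z ^ k else 0 := by
    intro k
    rw [DirectSum.coe_decompose_mul_of_right_mem ℬ m (hzk k)]
    split_ifs
    · rw [GradedRingHom.map_directSumDecompose]
    · rfl
  simp_rw [h3]
  rw [← Finset.sum_filter]
  congr 1
  ext k
  simp only [Finset.mem_filter, Finset.mem_range]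
  omega


variable (hhat : Function.Bijective (Polynomial.aeval (R := A) z))

/-- Evaluation at `z = 1` on `B = A[z]`. -/
noncomputable def evalOne : B →ₐ[A] A :=
  (Polynomial.aeval (1 : A)).comp (AlgEquiv.ofBijective (Polynomial.aeval z) hhat).symm.toAlgHom

theorem evalOne_z : evalOne z hhat z = 1 := by
  have h : (AlgEquiv.ofBijective (Polynomial.aeval z) hhat).symm z = Polynomial.X := by
    rw [AlgEquiv.symm_apply_eq]
    simp
  simp [evalOne, h]

omit [GradedAlgebra 𝒜] [GradedAlgebra ℬ] in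
include hφ in
theorem evalOne_φ (a : A) : evalOne z hhat (φ a) = a := by
  rw [hφ]
  exact (evalOne z hhat).commutes a

theorem isUnit_evalOne_z : IsUnit ((evalOne z hhat).toRingHom z) := by
  change IsUnit (evalOne z hhat z)
  rw [evalOne_z]
  exact isUnit_one

/-- The ring map `B_(z) → A`, `b / z ^ n ↦ b(1)`. -/
noncomputable def awayToBase : Away ℬ z →+* A :=
  (IsLocalization.Away.lift (S := Localization.Away z) z (isUnit_evalOne_z z hhat)).comp
    (algebraMap (Away ℬ z) (Localization.Away z))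

omit [Algebra R A] in
include hz in
theorem awayToBase_mk (n : ℕ) (b : B) (hb : b ∈ ℬ (n • 1)) :
    awayToBase ℬ z hhat (Away.mk ℬ hz n b hb) = evalOne z hhat b := by
  set L := IsLocalization.Away.lift (S := Localization.Away z) z (isUnit_evalOne_z z hhat) with hL
  have h1 : (Localization.mk b ⟨z ^ n, Submonoid.pow_mem _ (Submonoid.mem_powers z) n⟩ :
      Localization.Away z) * algebraMap B _ (z ^ n) = algebraMap B _ b := by
    rw [Localization.mk_eq_mk']
    exact IsLocalization.mk'_spec _ b ⟨z ^ n, Submonoid.pow_mem _ (Submonoid.mem_powers z) n⟩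
  have h2 := congrArg L h1
  rw [map_mul, IsLocalization.Away.lift_eq, IsLocalization.Away.lift_eq] at h2
  have h3 : (evalOne z hhat).toRingHom (z ^ n) = 1 := by
    change evalOne z hhat (z ^ n) = 1
    rw [map_pow, evalOne_z, one_pow]
  rw [h3, mul_one] at h2
  exact h2


include hφ hz in
theorem awayToBase_surjective : Function.Surjective (awayToBase ℬ z hhat) := by
  classical
  intro a
  have hmem : ∀ n : ℕ, φ (DirectSum.decompose 𝒜 a n : A) ∈ ℬ (n • 1) := fun n => by
    rw [smul_eq_mul, mul_one]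
    exact Graded.map_mem φ (Subtype.prop _)
  refine ⟨∑ n ∈ (DirectSum.decompose 𝒜 a).support,
    Away.mk ℬ hz n (φ (DirectSum.decompose 𝒜 a n : A)) (hmem n), ?_⟩
  rw [map_sum]
  conv_rhs => rw [← DirectSum.sum_support_decompose 𝒜 a]
  refine Finset.sum_congr rfl fun n _ => ?_
  rw [awayToBase_mk, evalOne_φ 𝒜 ℬ φ hφ]

include hφ hz in
theorem awayToBase_injective : Function.Injective (awayToBase ℬ z hhat) := by
  classical
  rw [injective_iff_map_eq_zero]
  intro x hx
  obtain ⟨n, b, hb, rfl⟩ := Away.mk_surjective ℬ hz x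
  rw [awayToBase_mk] at hx
  have hb' : b ∈ ℬ n := by simpa using hb
  obtain ⟨q, hq, hbq⟩ := exists_homogeneous_coeffs 𝒜 ℬ φ hφ z hz hhat.2 n b hb'
  have hsum : ∑ k ∈ Finset.range (n + 1), q k = 0 := by
    rw [← hx, hbq, map_sum]
    refine Finset.sum_congr rfl fun k _ => ?_
    rw [map_mul, map_pow, evalOne_z, one_pow, mul_one, evalOne_φ 𝒜 ℬ φ hφ]
  have hq0 : ∀ k ∈ Finset.range (n + 1), q k = 0 := by
    intro k hk
    have h1 : ((DirectSum.decompose 𝒜 (∑ j ∈ Finset.range (n + 1), q j) (n - k) : 𝒜 (n - k)) : A) = 0 := by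
      rw [hsum]
      simp
    rw [DirectSum.decompose_sum, DFinsupp.finsetSum_apply, AddSubmonoidClass.coe_finsetSum] at h1
    rw [Finset.sum_eq_single_of_mem k hk, DirectSum.decompose_of_mem_same 𝒜 (hq k)] at h1
    · exact h1
    · intro j hj hjk
      rw [DirectSum.decompose_of_mem_ne 𝒜 (hq j)]
      simp only [Finset.mem_range] at hj hk
      omega
  have hb0 : b = 0 := by
    rw [hbq]
    refine Finset.sum_eq_zero fun k hk => ?_
    rw [hq0 k hk, map_zero, zero_mul]
  subst hb0
  rw [HomogeneousLocalization.ext_iff_val, Away.val_mk, val_zero, Localization.mk_zero]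


section Retraction

variable (ψ : ℬ →+*ᵍ 𝒜) (hψφ : ∀ a : A, ψ (φ a) = a) (hψz : ψ z = 0)

omit [GradedAlgebra 𝒜] [GradedAlgebra ℬ] in
include hφ hψφ hψz in
/-- Every element of `B = A[z]` is congruent mod `z` to `φ (ψ b)`. -/
theorem exists_eq_add_z_mul (hsurj : Function.Surjective (Polynomial.aeval (R := A) z)) (b : B) :
    ∃ c : B, b = φ (ψ b) + z * c := by
  obtain ⟨p, rfl⟩ := hsurj b
  refine ⟨Polynomial.aeval z p.divX, ?_⟩
  have h1 : Polynomial.aeval z p = φ (p.coeff 0) + z * Polynomial.aeval z p.divX := by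
    conv_lhs => rw [← Polynomial.divX_mul_X_add p]
    rw [map_add, map_mul, Polynomial.aeval_X, Polynomial.aeval_C, hφ]
    ring
  have h2 : ψ (Polynomial.aeval z p) = p.coeff 0 := by
    rw [h1, map_add, map_mul, hψz, zero_mul, add_zero, hψφ]
  rw [h2]
  exact h1

end Retraction

end

end Groth.Agent.H18
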