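import Groth.Prelude.Def_PCone
import Groth.Agent.H18.Glue
import Groth.Agent.H18.ProjBasic

set_option autoImplicit false
universe u

open AlgebraicGeometry CategoryTheory CategoryTheory.Limits HomogeneousLocalization

namespace Groth.Agent.H18

section

variable {R A B : Type u} [CommRing R] [CommRing A] [Algebra R A] {𝒜 : ℕ → Submodule R A} [GradedAlgebra 𝒜]
  [CommRing B] [Algebra R B] {ℬ : ℕ → Submodule R B} [GradedAlgebra ℬ] (φ : 𝒜 →+*ᵍ ℬ)

/-- Naturality of `awayMap` with respect to a graded ring hom. -/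
theorem awayMap_comp_awayMap {d e : ℕ} {f g : A} (hf : f ∈ 𝒜 d) (hg : g ∈ 𝒜 e) {x : A} (hx : x = f * g) :
    (awayMap ℬ (Graded.map_mem φ hg) (show φ x = φ f * φ g by rw [hx, map_mul])).comp (Away.map φ f) =
      (Away.map φ x).comp (awayMap 𝒜 hg hx) := by
  ext y
  obtain ⟨n, a, ha, rfl⟩ := Away.mk_surjective 𝒜 hf y
  simp only [RingHom.comp_apply]
  rw [Away.map_mk, awayMap_mk, awayMap_mk, Away.map_mk]
  simp [map_mul, map_pow]

omit [GradedAlgebra 𝒜] in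
@[reassoc]
theorem pcone_chart_ι {d : ℕ} {f : A} (hf : f ∈ 𝒜 d) (hd : 0 < d) :
    PCone.chart φ hf hd ≫ (PCone.dom φ).ι = Proj.awayι ℬ (φ f) (φ.2 hf) hd :=
  IsOpenImmersion.lift_fac _ _ _

omit [GradedAlgebra 𝒜] in
instance isOpenImmersion_pcone_chart {d : ℕ} {f : A} (hf : f ∈ 𝒜 d) (hd : 0 < d) :
    IsOpenImmersion (PCone.chart φ hf hd) := by
  have : IsOpenImmersion (PCone.chart φ hf hd ≫ (PCone.dom φ).ι) := by
    rw [pcone_chart_ι]
    infer_instance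
  exact IsOpenImmersion.of_comp _ (PCone.dom φ).ι

omit [GradedAlgebra 𝒜] in
theorem range_pcone_chart {d : ℕ} {f : A} (hf : f ∈ 𝒜 d) (hd : 0 < d) :
    Set.range (PCone.chart φ hf hd) = (PCone.dom φ).ι ⁻¹' (Proj.basicOpen ℬ (φ f) : Set (Proj ℬ)) := by
  ext x
  have hr : ((PCone.dom φ).ι x ∈ (Proj.basicOpen ℬ (φ f) : Set (Proj ℬ))) ↔
      (PCone.dom φ).ι x ∈ Set.range (Proj.awayι ℬ (φ f) (φ.2 hf) hd) := by
    rw [← Proj.opensRange_awayι ℬ (φ f) (φ.2 hf) hd]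
    rfl
  rw [Set.mem_preimage, hr]
  constructor
  · rintro ⟨y, rfl⟩
    refine ⟨y, ?_⟩
    rw [← pcone_chart_ι φ hf hd]
    rfl
  · rintro ⟨y, hy⟩
    refine ⟨y, (PCone.dom φ).ι.isOpenEmbedding.injective ?_⟩
    rw [← hy, ← pcone_chart_ι φ hf hd]
    rfl

/-- The index type of the standard charts of `G(φ)`. -/
abbrev PConeIdx (𝒜 : ℕ → Submodule R A) : Type u := Σ d : ℕ, {f : A // 0 < d ∧ f ∈ 𝒜 d}

/-- The standard charts form an open cover of `G(φ)`. -/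
noncomputable def pconeCover : (PCone.dom φ : Scheme.{u}).OpenCover :=
  Scheme.Cover.mkOfCovers (PConeIdx 𝒜)
    (fun j => Spec (CommRingCat.of (Away ℬ (φ j.2.1))))
    (fun j => PCone.chart φ j.2.2.2 j.2.2.1)
    (by
      intro x
      have hx : x.1 ∈ PCone.dom φ := x.2
      obtain ⟨⟨f, d, hd, hf⟩, hxf⟩ := TopologicalSpace.Opens.mem_iSup.mp hx
      have : x ∈ Set.range (PCone.chart φ hf hd) := by
        rw [range_pcone_chart]
        exact hxf
      obtain ⟨y, hy⟩ := this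
      exact ⟨⟨d, f, hd, hf⟩, y, hy⟩)
    (fun j => isOpenImmersion_pcone_chart φ j.2.2.2 j.2.2.1)


/-- The chartwise morphisms to `Proj 𝒜` are compatible with passing to a smaller chart. -/
theorem pcone_compat {d e : ℕ} {f g : A} (hf : f ∈ 𝒜 d) (hd : 0 < d) (hg : g ∈ 𝒜 e) {x : A}
    (hx : x = f * g) {k : ℕ} (hk : d + e = k) (hxmem : x ∈ 𝒜 k) (hpos : 0 < k) :
    Spec.map (CommRingCat.ofHom (awayMap ℬ (Graded.map_mem φ hg)
        (show φ x = φ f * φ g by rw [hx, map_mul]))) ≫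
      Spec.map (CommRingCat.ofHom (Away.map φ f)) ≫ Proj.awayι 𝒜 f hf hd =
    Spec.map (CommRingCat.ofHom (Away.map φ x)) ≫ Proj.awayι 𝒜 x hxmem hpos := by
  subst hk
  rw [← Spec.map_comp_assoc, ← CommRingCat.ofHom_comp, awayMap_comp_awayMap φ hf hg hx,
    CommRingCat.ofHom_comp, Spec.map_comp_assoc, Proj.SpecMap_awayMap_awayι 𝒜 hf hd hg hx]

/-- Existence and uniqueness of the morphism `G(φ) ⟶ Proj 𝒜` given on charts. -/
theorem existsUnique_pcone_map :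
    ∃! p : (PCone.dom φ : Scheme.{u}) ⟶ Proj 𝒜,
      ∀ (d : ℕ) (f : A) (hd : 0 < d) (hf : f ∈ 𝒜 d),
        PCone.chart φ hf hd ≫ p =
          Spec.map (CommRingCat.ofHom (Away.map φ f)) ≫ Proj.awayι 𝒜 f hf hd := by
  have key := existsUnique_glue (pconeCover φ)
    (fun j => Spec.map (CommRingCat.ofHom (Away.map φ j.2.1)) ≫ Proj.awayι 𝒜 j.2.1 j.2.2.2 j.2.2.1) ?_
  · obtain ⟨p, hp, huniq⟩ := key
    refine ⟨p, fun d f hd hf => hp ⟨d, f, hd, hf⟩, fun p' hp' => huniq p' fun j => ?_⟩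
    exact hp' j.1 j.2.1 j.2.2.1 j.2.2.2
  · rintro ⟨d, f, hd, hf⟩ ⟨e, g, he, hg⟩
    have hfg : f * g ∈ 𝒜 (d + e) := SetLike.mul_mem_graded hf hg
    have hgf : f * g = g * f := mul_comm f g
    refine ⟨⟨d + e, f * g, by omega, hfg⟩,
      Spec.map (CommRingCat.ofHom (awayMap ℬ (Graded.map_mem φ hg)
        (show φ (f * g) = φ f * φ g by rw [map_mul]))),
      Spec.map (CommRingCat.ofHom (awayMap ℬ (Graded.map_mem φ hf)
        (show φ (f * g) = φ g * φ f by rw [map_mul, mul_comm]))), ?_, ?_, ?_, ?_⟩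
    · change _ ≫ PCone.chart φ hf hd = PCone.chart φ hfg _
      rw [← cancel_mono (PCone.dom φ).ι, Category.assoc, pcone_chart_ι, pcone_chart_ι]
      exact Proj.SpecMap_awayMap_awayι ℬ (Graded.map_mem φ hf) hd (Graded.map_mem φ hg) _
    · change _ ≫ PCone.chart φ hg he = PCone.chart φ hfg _
      rw [← cancel_mono (PCone.dom φ).ι, Category.assoc, pcone_chart_ι, pcone_chart_ι]
      exact Proj.SpecMap_awayMap_awayι ℬ (Graded.map_mem φ hg) he (Graded.map_mem φ hf) _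
    · change Set.range (PCone.chart φ hfg _) =
        Set.range (PCone.chart φ hf hd) ∩ Set.range (PCone.chart φ hg he)
      rw [range_pcone_chart, range_pcone_chart, range_pcone_chart, ← Set.preimage_inter, map_mul,
        Proj.basicOpen_mul]
      rfl
    · exact (pcone_compat φ hf hd hg rfl rfl hfg (by omega)).trans
        (pcone_compat φ hg he hf hgf (by omega) hfg (by omega)).symm


section Retraction

variable (p : (PCone.dom φ : Scheme.{u}) ⟶ Proj 𝒜)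
  (hp : ∀ (d : ℕ) (f : A) (hd : 0 < d) (hf : f ∈ 𝒜 d),
    PCone.chart φ hf hd ≫ p =
      Spec.map (CommRingCat.ofHom (Away.map φ f)) ≫ Proj.awayι 𝒜 f hf hd)

include hp in
/-- The preimage of `D₊(f)` under the retraction is the chart `D₊(φ f)`. -/
theorem pcone_preimage_basicOpen {d : ℕ} {f : A} (hd : 0 < d) (hf : f ∈ 𝒜 d) :
    p ⁻¹ᵁ Proj.basicOpen 𝒜 f = (PCone.dom φ).ι ⁻¹ᵁ Proj.basicOpen ℬ (φ f) := by
  ext x
  obtain ⟨⟨e, g, he, hg⟩, y, rfl⟩ := (pconeCover φ).exists_eq x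
  change (PCone.chart φ hg he ≫ p) y ∈ Proj.basicOpen 𝒜 f ↔
    (PCone.chart φ hg he ≫ (PCone.dom φ).ι) y ∈ Proj.basicOpen ℬ (φ f)
  rw [hp e g he hg, pcone_chart_ι]
  change y ∈ (Spec.map (CommRingCat.ofHom (Away.map φ g)) ≫ Proj.awayι 𝒜 g hg he) ⁻¹ᵁ
      Proj.basicOpen 𝒜 f ↔ y ∈ Proj.awayι ℬ (φ g) (φ.2 hg) he ⁻¹ᵁ Proj.basicOpen ℬ (φ f)
  rw [Scheme.Hom.comp_preimage, Proj.awayι_preimage_basicOpen 𝒜 hg he hf hd,
    Proj.awayι_preimage_basicOpen ℬ (Graded.map_mem φ hg) he (Graded.map_mem φ hf) hd]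
  have : (Away.map φ g) (Away.isLocalizationElem hg hf) =
      Away.isLocalizationElem (Graded.map_mem φ hg) (Graded.map_mem φ hf) := by
    rw [Away.isLocalizationElem, Away.map_mk]
    simp [Away.isLocalizationElem, map_pow]
  rw [← this]
  rfl

end Retraction

end

end Groth.Agent.H18
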