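import Groth.Agent.H18.PConeGlue

set_option autoImplicit false
universe u

open AlgebraicGeometry CategoryTheory CategoryTheory.Limits HomogeneousLocalization

namespace Groth.Agent.H18

section

variable {R A B : Type u} [CommRing R] [CommRing A] [Algebra R A] {𝒜 : ℕ → Submodule R A} [GradedAlgebra 𝒜]
  [CommRing B] [Algebra R B] {ℬ : ℕ → Submodule R B} [GradedAlgebra ℬ] (φ : 𝒜 →+*ᵍ ℬ)
  (ψ : ℬ →+*ᵍ 𝒜) (hψφ : ∀ a : A, ψ (φ a) = a)
  (hψ : HomogeneousIdeal.irrelevant 𝒜 ≤ (HomogeneousIdeal.irrelevant ℬ).map ψ)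

/-- The map `B_(φ f) → A_(f)` induced by a retraction `ψ` of `φ`. -/
noncomputable def retrAway (f t : A) (ht : ψ (φ f) = t) : Away ℬ (φ f) →+* Away 𝒜 t :=
  HomogeneousLocalization.map ψ (P := Submonoid.powers (φ f)) (Q := Submonoid.powers t) (by
    rintro _ ⟨n, rfl⟩
    exact ⟨n, by simp [ht]⟩)

theorem awayι_comp_map_retr {d : ℕ} (hd : 0 < d) {f : A} (hf : f ∈ 𝒜 d) (t : A) (ht : ψ (φ f) = t)
    (htm : t ∈ 𝒜 d) :
    Proj.awayι 𝒜 t htm hd ≫ Proj.map ψ hψ =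
      Spec.map (CommRingCat.ofHom (retrAway φ ψ f t ht)) ≫
        Proj.awayι ℬ (φ f) (Graded.map_mem φ hf) hd := by
  subst ht
  exact Proj.awayι_comp_map ψ hψ hd (φ f) (Graded.map_mem φ hf)

include hψφ in
theorem retrAway_comp_map (f : A) :
    (retrAway φ ψ f f (hψφ f)).comp (Away.map φ f) = RingHom.id _ := by
  have h1 : ψ.comp φ = GradedRingHom.id 𝒜 := by
    ext a
    simp [hψφ]
  rw [retrAway, Away.map, ← HomogeneousLocalization.map_comp]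
  conv_lhs =>
    enter [1]
    rw [h1]
  exact HomogeneousLocalization.map_id 𝒜 _


include hψφ in
theorem range_map_retr_subset :
    Set.range (Proj.map ψ hψ).base ⊆ Set.range (PCone.dom φ).ι.base := by
  rw [Scheme.Opens.range_ι]
  rintro _ ⟨x, rfl⟩
  obtain ⟨i, s, hi, hs, hsx⟩ := exists_pos_homogeneous_notMem 𝒜 x
  refine TopologicalSpace.Opens.mem_iSup.mpr ⟨⟨s, i, hi, hs⟩, ?_⟩
  change φ s ∉ (ProjectiveSpectrum.comap ψ hψ x).asHomogeneousIdeal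
  change ¬ (ψ (φ s) ∈ x.asHomogeneousIdeal)
  rw [hψφ]
  exact hsx

/-- The section of the pointed projective cone at infinity. -/
noncomputable def pconeSection : Proj 𝒜 ⟶ (PCone.dom φ : Scheme.{u}) :=
  IsOpenImmersion.lift (PCone.dom φ).ι (Proj.map ψ hψ) (range_map_retr_subset φ ψ hψφ hψ)

@[reassoc]
theorem pconeSection_ι : pconeSection φ ψ hψφ hψ ≫ (PCone.dom φ).ι = Proj.map ψ hψ :=
  IsOpenImmersion.lift_fac _ _ _

theorem awayι_comp_pconeSection {d : ℕ} (hd : 0 < d) {f : A} (hf : f ∈ 𝒜 d) :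
    Proj.awayι 𝒜 f hf hd ≫ pconeSection φ ψ hψφ hψ =
      Spec.map (CommRingCat.ofHom (retrAway φ ψ f f (hψφ f))) ≫ PCone.chart φ hf hd := by
  rw [← cancel_mono (PCone.dom φ).ι, Category.assoc, Category.assoc, pconeSection_ι, pcone_chart_ι]
  exact awayι_comp_map_retr φ ψ hψ hd hf f (hψφ f) hf

theorem pconeSection_comp (p : (PCone.dom φ : Scheme.{u}) ⟶ Proj 𝒜)
    (hp : ∀ (d : ℕ) (f : A) (hd : 0 < d) (hf : f ∈ 𝒜 d),
      PCone.chart φ hf hd ≫ p =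
        Spec.map (CommRingCat.ofHom (Away.map φ f)) ≫ Proj.awayι 𝒜 f hf hd) :
    pconeSection φ ψ hψφ hψ ≫ p = 𝟙 (Proj 𝒜) := by
  have key : ∀ (d : ℕ) (hd : 0 < d) (f : A) (hf : f ∈ 𝒜 d),
      Proj.awayι 𝒜 f hf hd ≫ pconeSection φ ψ hψφ hψ ≫ p = Proj.awayι 𝒜 f hf hd ≫ 𝟙 _ := by
    intro d hd f hf
    rw [← Category.assoc, awayι_comp_pconeSection φ ψ hψφ hψ hd hf, Category.assoc,
      hp _ _ hd hf, ← Spec.map_comp_assoc, ← CommRingCat.ofHom_comp,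
      retrAway_comp_map φ ψ hψφ]
    simp
  refine (Proj.affineOpenCover 𝒜).openCover.hom_ext _ _ ?_
  rintro ⟨⟨d, hd⟩, ⟨f, hf⟩⟩
  exact key d hd f hf

end

end Groth.Agent.H18
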