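import Groth.Agent.H18.TwistPow

set_option autoImplicit false
universe u

open CategoryTheory CategoryTheory.Limits AlgebraicGeometry TopologicalSpace Opposite

namespace Groth.Agent.H18

section

variable {X : Scheme.{u}}

theorem genLocus_comp_iso {L L' : X.Modules} (φ : Coh.structureModule X ⟶ L) (e : L ≅ L') :
    CohB1.genLocus L' (φ ≫ e.hom) = CohB1.genLocus L φ := by
  unfold CohB1.genLocus
  congr 1
  ext U
  simp only [Set.mem_ofPred_eq, Functor.map_comp]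
  exact isIso_comp_right_iff _ _

end

section

variable {R A : Type u} [CommRing R] [CommRing A] [Algebra R A]
variable (𝒜 : ℕ → Submodule R A) [GradedAlgebra 𝒜]

/-- the global section `f / 1` of `O(1)` -/
noncomputable def secOne {f : A} (hf : f ∈ 𝒜 1) : Γ(Twist.twist 𝒜 1, (⊤ : (Proj 𝒜).Opens)) :=
  fracTw 𝒜 hf (SetLike.GradedOne.one_mem : (1 : A) ∈ 𝒜 0) (by simp) ⊤ (fun x _ => GrMod.one_nin x)

theorem isIso_restrict_sectionHom_secOne {f : A} (hf : f ∈ 𝒜 1) :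
    IsIso ((Scheme.Modules.restrictFunctor (Proj.basicOpen 𝒜 f).ι).map
      (sectionHom (Twist.twist 𝒜 1) (secOne 𝒜 hf))) := by
  rw [Scheme.Modules.Hom.isIso_iff_isIso_app]
  intro V'
  rw [ConcreteCategory.isIso_iff_bijective]
  have hle : (Proj.basicOpen 𝒜 f).ι ''ᵁ V' ≤ Proj.basicOpen 𝒜 f := by
    rintro _ ⟨z, -, rfl⟩
    exact z.2
  have he : ((1 : ℕ) : ℤ) = ((0 : ℕ) : ℤ) + 1 := by simp
  have h1 : ∀ x : ProjectiveSpectrum 𝒜, x ∈ (Proj.basicOpen 𝒜 f).ι ''ᵁ V' →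
      (1 : A) ∉ x.asHomogeneousIdeal := fun x _ => GrMod.one_nin x
  have hf' : ∀ x : ProjectiveSpectrum 𝒜, x ∈ (Proj.basicOpen 𝒜 f).ι ''ᵁ V' →
      f ∉ x.asHomogeneousIdeal := fun x hx => hle hx
  have hfun : (fun r : Γ(Proj 𝒜, (Proj.basicOpen 𝒜 f).ι ''ᵁ V') =>
      (sectionHom (Twist.twist 𝒜 1) (secOne 𝒜 hf)).app ((Proj.basicOpen 𝒜 f).ι ''ᵁ V') r) =
      fun r : Γ(Proj 𝒜, (Proj.basicOpen 𝒜 f).ι ''ᵁ V') => r • fracTw 𝒜 hf
        (SetLike.GradedOne.one_mem : (1 : A) ∈ 𝒜 0) he ((Proj.basicOpen 𝒜 f).ι ''ᵁ V') h1 :=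
    funext (fun r => sectionHom_app (Twist.twist 𝒜 1) (secOne 𝒜 hf) _ r)
  change Function.Bijective (fun r : Γ(Proj 𝒜, (Proj.basicOpen 𝒜 f).ι ''ᵁ V') =>
      (sectionHom (Twist.twist 𝒜 1) (secOne 𝒜 hf)).app ((Proj.basicOpen 𝒜 f).ι ''ᵁ V') r)
  rw [hfun]
  exact ⟨smul_fracTw_injective 𝒜 _ _ he _ hf' h1, smul_fracTw_surjective 𝒜 _ _ he _ hf' h1⟩

theorem le_basicOpen_of_isIso_restrict {f : A} (hf : f ∈ 𝒜 1)
    (hcov : ∀ x : ProjectiveSpectrum 𝒜, ∃ g : A, g ∈ 𝒜 1 ∧ g ∉ x.asHomogeneousIdeal)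
    (U : (Proj 𝒜).Opens)
    (h : IsIso ((Scheme.Modules.restrictFunctor U.ι).map
      (sectionHom (Twist.twist 𝒜 1) (secOne 𝒜 hf)))) :
    U ≤ Proj.basicOpen 𝒜 f := by
  intro y hy
  obtain ⟨g, hg, hgy⟩ := hcov y
  let V' : (U : Scheme.{u}).Opens := U.ι ⁻¹ᵁ Proj.basicOpen 𝒜 g
  have hyW : y ∈ U.ι ''ᵁ V' := ⟨⟨y, hy⟩, hgy, rfl⟩
  have hWg : U.ι ''ᵁ V' ≤ Proj.basicOpen 𝒜 g := by
    rintro _ ⟨z, hz, rfl⟩
    exact hz
  have he : ((1 : ℕ) : ℤ) = ((0 : ℕ) : ℤ) + 1 := by simp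
  have h1 : ∀ x : ProjectiveSpectrum 𝒜, x ∈ U.ι ''ᵁ V' → (1 : A) ∉ x.asHomogeneousIdeal :=
    fun x _ => GrMod.one_nin x
  have hiso' := (Scheme.Modules.Hom.isIso_iff_isIso_app
    (φ := (Scheme.Modules.restrictFunctor U.ι).map
      (sectionHom (Twist.twist 𝒜 1) (secOne 𝒜 hf)))).mp h V'
  have hb : Function.Bijective (fun r : Γ(Proj 𝒜, U.ι ''ᵁ V') =>
      (sectionHom (Twist.twist 𝒜 1) (secOne 𝒜 hf)).app (U.ι ''ᵁ V') r) :=
    ConcreteCategory.bijective_of_isIso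
      (((Scheme.Modules.restrictFunctor U.ι).map
        (sectionHom (Twist.twist 𝒜 1) (secOne 𝒜 hf))).app V')
  obtain ⟨r, hr⟩ := hb.2 (fracTw 𝒜 hg (SetLike.GradedOne.one_mem : (1 : A) ∈ 𝒜 0) he (U.ι ''ᵁ V') h1)
  have hr' : r • fracTw 𝒜 hf (SetLike.GradedOne.one_mem : (1 : A) ∈ 𝒜 0) he (U.ι ''ᵁ V') h1 =
      fracTw 𝒜 hg (SetLike.GradedOne.one_mem : (1 : A) ∈ 𝒜 0) he (U.ι ''ᵁ V') h1 :=
    (sectionHom_app (Twist.twist 𝒜 1) (secOne 𝒜 hf) _ r).symm.trans hr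
  have hval := congrArg (fun s : Γ(Twist.twist 𝒜 1, U.ι ''ᵁ V') =>
    (((s : Twist.sectN (𝒜 := 𝒜) 1 (op (U.ι ''ᵁ V'))).1 ⟨y, hyW⟩ : Twist.twistAt 𝒜 1 y) :
      Twist.Loc 𝒜 y)) hr'
  simp only [twist_smul_val, fracTw_val] at hval
  have hunit : IsUnit (Localization.mk g (1 : y.asHomogeneousIdeal.toIdeal.primeCompl) :
      Twist.Loc 𝒜 y) := by
    rw [Localization.mk_one_eq_algebraMap]
    exact IsLocalization.map_units (Localization.AtPrime y.asHomogeneousIdeal.toIdeal)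
      (⟨g, hgy⟩ : y.asHomogeneousIdeal.toIdeal.primeCompl)
  have h1eq : (⟨1, h1 y hyW⟩ : y.asHomogeneousIdeal.toIdeal.primeCompl) = 1 := rfl
  rw [h1eq] at hval
  rw [← hval] at hunit
  have hunit2 := isUnit_of_mul_isUnit_right hunit
  rw [Localization.mk_one_eq_algebraMap] at hunit2
  exact (IsLocalization.AtPrime.isUnit_to_map_iff (Localization.AtPrime y.asHomogeneousIdeal.toIdeal)
    y.asHomogeneousIdeal.toIdeal f).mp hunit2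

theorem genLocus_sectionHom_secOne {f : A} (hf : f ∈ 𝒜 1)
    (hcov : ∀ x : ProjectiveSpectrum 𝒜, ∃ g : A, g ∈ 𝒜 1 ∧ g ∉ x.asHomogeneousIdeal) :
    CohB1.genLocus (Twist.twist 𝒜 1) (sectionHom (Twist.twist 𝒜 1) (secOne 𝒜 hf)) =
      Proj.basicOpen 𝒜 f := by
  apply le_antisymm
  · exact sSup_le (fun U hU => le_basicOpen_of_isIso_restrict 𝒜 hf hcov U hU)
  · exact le_sSup (isIso_restrict_sectionHom_secOne 𝒜 hf)

end

end Groth.Agent.H18
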