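import Groth.Agent.H18.TwistTensor2
import Groth.Agent.H18.TwistAmple
import Groth.Prelude.Def_ProjUP

set_option autoImplicit false
universe u

open CategoryTheory CategoryTheory.Limits AlgebraicGeometry TopologicalSpace Opposite

namespace Groth.Agent.H18

section

variable {R A : Type u} [CommRing R] [CommRing A] [Algebra R A]
variable (𝒜 : ℕ → Submodule R A) [GradedAlgebra 𝒜]

/-- `O(k)` is invertible if it is locally trivialised by fractions -/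
theorem isInvertible_twist' (k : ℤ) (hk : TwMul.LocTriv 𝒜 k) :
    PicF.IsInvertible (Twist.twist 𝒜 k) := by
  intro y
  obtain ⟨i, j, a, b, ha, hb, he, hay, hby⟩ := hk y
  refine ⟨Proj.basicOpen 𝒜 a ⊓ Proj.basicOpen 𝒜 b, ⟨hay, hby⟩, ?_⟩
  exact nonempty_twist_restrict_iso 𝒜 ha hb he _ (fun x hx => hx.1) (fun x hx => hx.2)

/-- the global section `b / 1` of `O(n)` -/
noncomputable def secN {n : ℕ} {b : A} (hb : b ∈ 𝒜 n) : Γ(Twist.twist 𝒜 (n : ℤ), (⊤ : (Proj 𝒜).Opens)) :=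
  fracTw 𝒜 hb (SetLike.GradedOne.one_mem : (1 : A) ∈ 𝒜 0) (by simp) ⊤ (fun x _ => GrMod.one_nin x)

theorem secN_eq_globalOf {n : ℕ} {b : A} (hb : b ∈ 𝒜 n) :
    secN 𝒜 hb = (Twist.globalOf 𝒜 (⟨b, hb⟩ : 𝒜 n) : Twist.sectN (𝒜 := 𝒜) (n : ℤ) (op ⊤)) := rfl

theorem isIso_restrict_sectionHom_secN {n : ℕ} {f : A} (hf : f ∈ 𝒜 n) :
    IsIso ((Scheme.Modules.restrictFunctor (Proj.basicOpen 𝒜 f).ι).map
      (sectionHom (Twist.twist 𝒜 (n : ℤ)) (secN 𝒜 hf))) := by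
  rw [Scheme.Modules.Hom.isIso_iff_isIso_app]
  intro V'
  rw [ConcreteCategory.isIso_iff_bijective]
  have hle : (Proj.basicOpen 𝒜 f).ι ''ᵁ V' ≤ Proj.basicOpen 𝒜 f := by
    rintro _ ⟨z, -, rfl⟩
    exact z.2
  have he : ((n : ℕ) : ℤ) = ((0 : ℕ) : ℤ) + (n : ℤ) := by simp
  have h1 : ∀ x : ProjectiveSpectrum 𝒜, x ∈ (Proj.basicOpen 𝒜 f).ι ''ᵁ V' →
      (1 : A) ∉ x.asHomogeneousIdeal := fun x _ => GrMod.one_nin x
  have hf' : ∀ x : ProjectiveSpectrum 𝒜, x ∈ (Proj.basicOpen 𝒜 f).ι ''ᵁ V' →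
      f ∉ x.asHomogeneousIdeal := fun x hx => hle hx
  have hfun : (fun r : Γ(Proj 𝒜, (Proj.basicOpen 𝒜 f).ι ''ᵁ V') =>
      (sectionHom (Twist.twist 𝒜 (n : ℤ)) (secN 𝒜 hf)).app ((Proj.basicOpen 𝒜 f).ι ''ᵁ V') r) =
      fun r : Γ(Proj 𝒜, (Proj.basicOpen 𝒜 f).ι ''ᵁ V') => r • fracTw 𝒜 hf
        (SetLike.GradedOne.one_mem : (1 : A) ∈ 𝒜 0) he ((Proj.basicOpen 𝒜 f).ι ''ᵁ V') h1 :=
    funext (fun r => sectionHom_app (Twist.twist 𝒜 (n : ℤ)) (secN 𝒜 hf) _ r)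
  change Function.Bijective (fun r : Γ(Proj 𝒜, (Proj.basicOpen 𝒜 f).ι ''ᵁ V') =>
      (sectionHom (Twist.twist 𝒜 (n : ℤ)) (secN 𝒜 hf)).app ((Proj.basicOpen 𝒜 f).ι ''ᵁ V') r)
  rw [hfun]
  exact ⟨smul_fracTw_injective 𝒜 _ _ he _ hf' h1, smul_fracTw_surjective 𝒜 _ _ he _ hf' h1⟩

theorem le_basicOpen_of_isIso_restrict_secN {n : ℕ} {f : A} (hf : f ∈ 𝒜 n)
    (hk : TwMul.LocTriv 𝒜 (n : ℤ)) (U : (Proj 𝒜).Opens)
    (h : IsIso ((Scheme.Modules.restrictFunctor U.ι).map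
      (sectionHom (Twist.twist 𝒜 (n : ℤ)) (secN 𝒜 hf)))) :
    U ≤ Proj.basicOpen 𝒜 f := by
  intro y hy
  obtain ⟨i, j, a, b, ha, hb, he', hay, hby⟩ := hk y
  let V' : (U : Scheme.{u}).Opens := U.ι ⁻¹ᵁ (Proj.basicOpen 𝒜 a ⊓ Proj.basicOpen 𝒜 b)
  have hyW : y ∈ U.ι ''ᵁ V' := ⟨⟨y, hy⟩, ⟨hay, hby⟩, rfl⟩
  have hWa : ∀ x : ProjectiveSpectrum 𝒜, x ∈ U.ι ''ᵁ V' → a ∉ x.asHomogeneousIdeal := by
    rintro _ ⟨z, hz, rfl⟩
    exact hz.1
  have hWb : ∀ x : ProjectiveSpectrum 𝒜, x ∈ U.ι ''ᵁ V' → b ∉ x.asHomogeneousIdeal := by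
    rintro _ ⟨z, hz, rfl⟩
    exact hz.2
  have he : ((n : ℕ) : ℤ) = ((0 : ℕ) : ℤ) + (n : ℤ) := by simp
  have h1 : ∀ x : ProjectiveSpectrum 𝒜, x ∈ U.ι ''ᵁ V' → (1 : A) ∉ x.asHomogeneousIdeal :=
    fun x _ => GrMod.one_nin x
  have hb' : Function.Bijective (fun r : Γ(Proj 𝒜, U.ι ''ᵁ V') =>
      (sectionHom (Twist.twist 𝒜 (n : ℤ)) (secN 𝒜 hf)).app (U.ι ''ᵁ V') r) := by
    have hiso' := (Scheme.Modules.Hom.isIso_iff_isIso_app
      (φ := (Scheme.Modules.restrictFunctor U.ι).map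
        (sectionHom (Twist.twist 𝒜 (n : ℤ)) (secN 𝒜 hf)))).mp h V'
    exact ConcreteCategory.bijective_of_isIso
      (((Scheme.Modules.restrictFunctor U.ι).map
        (sectionHom (Twist.twist 𝒜 (n : ℤ)) (secN 𝒜 hf))).app V')
  obtain ⟨r, hr⟩ := hb'.2 (fracTw 𝒜 ha hb he' (U.ι ''ᵁ V') hWb)
  have hr' : r • fracTw 𝒜 hf (SetLike.GradedOne.one_mem : (1 : A) ∈ 𝒜 0) he (U.ι ''ᵁ V') h1 =
      fracTw 𝒜 ha hb he' (U.ι ''ᵁ V') hWb :=
    (sectionHom_app (Twist.twist 𝒜 (n : ℤ)) (secN 𝒜 hf) _ r).symm.trans hr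
  have hval := congrArg (fun s : Γ(Twist.twist 𝒜 (n : ℤ), U.ι ''ᵁ V') =>
    (((s : Twist.sectN (𝒜 := 𝒜) (n : ℤ) (op (U.ι ''ᵁ V'))).1 ⟨y, hyW⟩ : Twist.twistAt 𝒜 (n : ℤ) y) :
      Twist.Loc 𝒜 y)) hr'
  simp only [twist_smul_val, fracTw_val] at hval
  have hunit : IsUnit (Localization.mk a (⟨b, hby⟩ : y.asHomogeneousIdeal.toIdeal.primeCompl) :
      Twist.Loc 𝒜 y) := by
    rw [Localization.mk_eq_mk']
    exact (IsLocalization.AtPrime.isUnit_mk'_iff (Localization.AtPrime y.asHomogeneousIdeal.toIdeal)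
      y.asHomogeneousIdeal.toIdeal a _).mpr hay
  have h1eq : (⟨1, h1 y hyW⟩ : y.asHomogeneousIdeal.toIdeal.primeCompl) = 1 := rfl
  rw [h1eq] at hval
  rw [← hval] at hunit
  have hunit2 := isUnit_of_mul_isUnit_right hunit
  rw [Localization.mk_one_eq_algebraMap] at hunit2
  exact (IsLocalization.AtPrime.isUnit_to_map_iff (Localization.AtPrime y.asHomogeneousIdeal.toIdeal)
    y.asHomogeneousIdeal.toIdeal f).mp hunit2

theorem genLocus_sectionHom_secN {n : ℕ} {f : A} (hf : f ∈ 𝒜 n) (hk : TwMul.LocTriv 𝒜 (n : ℤ)) :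
    CohB1.genLocus (Twist.twist 𝒜 (n : ℤ)) (sectionHom (Twist.twist 𝒜 (n : ℤ)) (secN 𝒜 hf)) =
      Proj.basicOpen 𝒜 f := by
  apply le_antisymm
  · exact sSup_le (fun U hU => le_basicOpen_of_isIso_restrict_secN 𝒜 hf hk U hU)
  · exact le_sSup (isIso_restrict_sectionHom_secN 𝒜 hf)

/-- `O(k) ≅ O(k)^{⊗ 1}` -/
theorem nonempty_twist_iso_tensorPow_one (k : ℤ) (hk : TwMul.LocTriv 𝒜 k) :
    Nonempty (Twist.twist 𝒜 k ≅ CohB1.tensorPow (Twist.twist 𝒜 k) (0 + 1)) := by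
  obtain ⟨e0⟩ := nonempty_twist_zero_iso 𝒜
  obtain ⟨e'⟩ := TwMul.nonempty_tensorMod_tilde_twist_iso' 𝒜 𝒜 0 k k (zero_add k).symm hk
  exact ⟨(show CohB1.tensorMod (Twist.twist 𝒜 0) (Twist.twist 𝒜 k) ≅ Twist.twist 𝒜 k from e').symm ≪≫
    tensorModMapIsoLeft e0 (Twist.twist 𝒜 k)⟩

end

end Groth.Agent.H18

namespace Groth.Agent.H18

section

theorem germ_smul' {X : Scheme.{u}} (F : X.Modules) {U : X.Opens} {x : X} (hx : x ∈ U)
    (r : Γ(X, U)) (s : Γ(F, U)) :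
    F.presheaf.germ U x hx (r • s) = X.presheaf.germ U x hx r • F.presheaf.germ U x hx s :=
  PresheafOfModules.germ_smul (R := X.presheaf) F.val x U hx r s

/-- global sections which generate `L` locally (on sections) generate its stalks -/
theorem generatedBy_of_locally_mem_span {X : Scheme.{u}} (L : X.Modules) {ι : Type*}
    (s : ι → ProjUP.Γm L)
    (h : ∀ (V : X.Opens) (t : Γ(L, V)) (x : X), x ∈ V → ∃ (W : X.Opens) (hW : W ≤ V), x ∈ W ∧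
        mres L hW t ∈ Submodule.span Γ(X, W) (Set.range fun i => mres L (le_top : W ≤ ⊤) (s i))) :
    ProjUP.GeneratedBy L s := by
  intro x
  rw [eq_top_iff]
  intro m _
  obtain ⟨V, hxV, t, rfl⟩ := TopCat.Presheaf.exists_germ_eq L.presheaf m
  obtain ⟨W, hW, hxW, hmem⟩ := h V t x hxV
  have hres : L.presheaf.germ V x hxV t = L.presheaf.germ W x hxW (mres L hW t) :=
    (TopCat.Presheaf.germ_res_apply L.presheaf (homOfLE hW) x hxW t).symm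
  rw [hres]
  generalize mres L hW t = t' at hmem
  induction hmem using Submodule.span_induction with
  | mem y hy =>
    obtain ⟨i, rfl⟩ := hy
    have : L.presheaf.germ W x hxW (mres L (le_top : W ≤ ⊤) (s i)) =
        L.presheaf.germ ⊤ x trivial (s i) :=
      TopCat.Presheaf.germ_res_apply L.presheaf (homOfLE (le_top : W ≤ ⊤)) x hxW (s i)
    rw [this]
    exact Submodule.subset_span ⟨i, rfl⟩
  | zero => rw [map_zero]; exact zero_mem _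
  | add y y' _ _ hy hy' => rw [map_add]; exact add_mem hy hy'
  | smul r y _ hy =>
    rw [germ_smul']
    exact Submodule.smul_mem _ _ hy

end

end Groth.Agent.H18
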