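import Groth.Agent.H18.ProjBasic
import Mathlib.AlgebraicGeometry.ProjectiveSpectrum.Functor
import Mathlib.AlgebraicGeometry.Morphisms.ClosedImmersion

set_option autoImplicit false
universe u

open AlgebraicGeometry HomogeneousLocalization CategoryTheory

namespace Groth.Agent.H18

section

variable {R A : Type u} [CommRing R] [CommRing A] [Algebra R A]
variable {𝒜 : ℕ → Submodule R A} [GradedAlgebra 𝒜]
variable {B : Type u} [CommRing B] [Algebra R B] {ℬ : ℕ → Submodule R B} [GradedAlgebra ℬ]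

/-- A surjective graded ring hom is surjective on every graded piece. -/
theorem gradedRingHom_surjective_on_pieces (φ : 𝒜 →+*ᵍ ℬ) (hsurj : Function.Surjective φ)
    (i : ℕ) (b : B) (hb : b ∈ ℬ i) : ∃ a ∈ 𝒜 i, φ a = b := by
  obtain ⟨a', rfl⟩ := hsurj b
  refine ⟨DirectSum.decompose 𝒜 a' i, Subtype.prop _, ?_⟩
  rw [GradedRingHom.map_directSumDecompose, DirectSum.decompose_of_mem_same ℬ hb]

/-- For a surjective graded ring hom, the induced maps on degree-zero localizations are surjective. -/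
theorem awayMap_surjective (φ : 𝒜 →+*ᵍ ℬ) (hsurj : Function.Surjective φ)
    {d : ℕ} {s : A} (hs : s ∈ 𝒜 d) : Function.Surjective (Away.map φ s) := by
  intro x
  obtain ⟨n, b, hb, rfl⟩ := Away.mk_surjective ℬ (Graded.map_mem φ hs) x
  obtain ⟨a, ha, rfl⟩ := gradedRingHom_surjective_on_pieces φ hsurj _ b hb
  exact ⟨Away.mk 𝒜 hs n a ha, Away.map_mk φ s hs n a ha⟩

/-- The chart square of `Proj.map` is cartesian. -/
theorem isPullback_awayι_map (φ : 𝒜 →+*ᵍ ℬ)
    (hφ : HomogeneousIdeal.irrelevant ℬ ≤ (HomogeneousIdeal.irrelevant 𝒜).map φ)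
    {d : ℕ} (hd : 0 < d) {s : A} (hs : s ∈ 𝒜 d) :
    IsPullback (Spec.map (CommRingCat.ofHom (Away.map φ s))) (Proj.awayι ℬ (φ s) (Graded.map_mem φ hs) hd)
      (Proj.awayι 𝒜 s hs hd) (Proj.map φ hφ) :=
  IsOpenImmersion.isPullback _ _ _ _ (Proj.awayι_comp_map φ hφ hd s hs)
    (by rw [Proj.opensRange_awayι, Proj.opensRange_awayι, Proj.map_preimage_basicOpen])

/-- A property of morphisms respecting isomorphisms holds for `Proj.map` pulled back to a chart of the
target as soon as it holds for `Spec` of the map of degree-zero localizations. -/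
theorem pullbackHom_affineOpenCover_of (P : MorphismProperty Scheme.{u}) [P.RespectsIso]
    (φ : 𝒜 →+*ᵍ ℬ)
    (hφ : HomogeneousIdeal.irrelevant ℬ ≤ (HomogeneousIdeal.irrelevant 𝒜).map φ)
    (i : (Proj.affineOpenCover 𝒜).openCover.I₀)
    (h : P (Spec.map (CommRingCat.ofHom (Away.map φ (i.2 : A))))) :
    P ((Proj.affineOpenCover 𝒜).openCover.pullbackHom (Proj.map φ hφ) i) := by
  have hpb := (isPullback_awayι_map φ hφ i.1.2 i.2.2).flip
  change P (Limits.pullback.snd (Proj.map φ hφ) ((Proj.affineOpenCover 𝒜).openCover.f i))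
  have e : hpb.isoPullback.hom ≫ Limits.pullback.snd (Proj.map φ hφ) (Proj.awayι 𝒜 (i.2 : A) i.2.2 i.1.2) =
      Spec.map (CommRingCat.ofHom (Away.map φ (i.2 : A))) := hpb.isoPullback_hom_snd
  rw [← e] at h
  exact (P.cancel_left_of_respectsIso hpb.isoPullback.hom _).mp h

end

end Groth.Agent.H18
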