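import Groth.Agent.H18.ProjIdeal
import Groth.Agent.H18.ProjMap
import Groth.Agent.S3563

set_option autoImplicit false
universe u

open HomogeneousLocalization DirectSum AlgebraicGeometry CategoryTheory

namespace Groth.Agent.H18

theorem map_comap_eq_comap_map {R₁ R₂ S₁ S₂ : Type*} [CommRing R₁] [CommRing R₂] [CommRing S₁]
    [CommRing S₂] (α₁ : R₁ →+* S₁) (α₂ : R₂ →+* S₂) (μ : R₁ →+* R₂) (ρ : S₁ →+* S₂)
    (h : α₂.comp μ = ρ.comp α₁) (h₁ : Function.Surjective α₁) (h₂ : Function.Bijective α₂)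
    (K : Ideal S₁) : (K.comap α₁).map μ = (K.map ρ).comap α₂ := by
  apply le_antisymm
  · rw [Ideal.map_le_iff_le_comap, Ideal.comap_comap, h]
    intro x hx
    exact Ideal.mem_map_of_mem ρ hx
  · intro y hy
    have h3 : K.map ρ = ((K.comap α₁).map μ).map α₂ := by
      conv_lhs => rw [← Ideal.map_comap_of_surjective α₁ h₁ K]
      rw [Ideal.map_map, Ideal.map_map, h]
    rw [Ideal.mem_comap, h3, Ideal.mem_map_iff_of_surjective α₂ h₂.2] at hy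
    obtain ⟨m, hm, hmy⟩ := hy
    rwa [← h₂.1 hmy]

section

variable {R A : Type u} [CommRing R] [CommRing A] [Algebra R A]
variable (𝒜 : ℕ → Submodule R A) [GradedAlgebra 𝒜]

theorem awayToSection_bijective {f : A} {m : ℕ} (hf : f ∈ 𝒜 m) (hm : 0 < m) :
    Function.Bijective (Proj.awayToSection 𝒜 f).hom := by
  have := ConcreteCategory.bijective_of_isIso (Proj.basicOpenIsoAway 𝒜 f hf hm).hom
  rwa [Proj.basicOpenIsoAway_hom] at this

/-- the affine open `D₊(f)` for `f` of degree one -/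
noncomputable abbrev dplus {f : A} (hf : f ∈ 𝒜 1) : (Proj 𝒜).affineOpens :=
  ⟨Proj.basicOpen 𝒜 f, Proj.isAffineOpen_basicOpen 𝒜 f hf one_pos⟩

/-- the affine open `D₊(fg)` for `f`, `g` of degree one -/
noncomputable abbrev dplus₂ {f g : A} (hf : f ∈ 𝒜 1) (hg : g ∈ 𝒜 1) : (Proj 𝒜).affineOpens :=
  ⟨Proj.basicOpen 𝒜 (f * g), Proj.isAffineOpen_basicOpen 𝒜 (f * g)
    (SetLike.mul_mem_graded hf hg) (by norm_num)⟩

open Classical in
/-- the ideal of `A_(f)` cut out by an ideal sheaf on `Proj` -/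
noncomputable def chartIdeal (ℐ : (Proj 𝒜).IdealSheafData) (f : A) : Ideal (Away 𝒜 f) :=
  if hf : f ∈ 𝒜 1 then (ℐ.ideal (dplus 𝒜 hf)).comap (Proj.awayToSection 𝒜 f).hom else ⊥

theorem chartIdeal_of_mem (ℐ : (Proj 𝒜).IdealSheafData) {f : A} (hf : f ∈ 𝒜 1) :
    chartIdeal 𝒜 ℐ f = (ℐ.ideal (dplus 𝒜 hf)).comap (Proj.awayToSection 𝒜 f).hom :=
  dif_pos hf

theorem chartIdeal_map_awayMap (ℐ : (Proj 𝒜).IdealSheafData) {f g x : A} (hf : f ∈ 𝒜 1)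
    (hg : g ∈ 𝒜 1) (hx : x = f * g) (hU : IsAffineOpen (Proj.basicOpen 𝒜 x)) :
    (chartIdeal 𝒜 ℐ f).map (awayMap 𝒜 hg hx) =
      (ℐ.ideal ⟨Proj.basicOpen 𝒜 x, hU⟩).comap (Proj.awayToSection 𝒜 x).hom := by
  have hxdeg : x ∈ 𝒜 2 := hx ▸ SetLike.mul_mem_graded hf hg
  have hle : Proj.basicOpen 𝒜 x ≤ Proj.basicOpen 𝒜 f := Proj.basicOpen_mono _ _ _ ⟨_, hx⟩
  rw [chartIdeal_of_mem 𝒜 ℐ hf]
  refine (map_comap_eq_comap_map (Proj.awayToSection 𝒜 f).hom (Proj.awayToSection 𝒜 x).hom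
      (awayMap 𝒜 hg hx) ((Proj 𝒜).presheaf.map (homOfLE hle).op).hom ?_
      (awayToSection_bijective 𝒜 hf one_pos).2 (awayToSection_bijective 𝒜 hxdeg (by norm_num))
      (ℐ.ideal (dplus 𝒜 hf))).trans ?_
  · have := Proj.awayMap_awayToSection 𝒜 (f := f) hg hx
    exact congrArg CommRingCat.Hom.hom this
  · congr 1
    exact ℐ.map_ideal (U := ⟨Proj.basicOpen 𝒜 x, hU⟩) (V := dplus 𝒜 hf) hle

theorem chartIdeal_compat (ℐ : (Proj 𝒜).IdealSheafData) {f g : A} (hf : f ∈ 𝒜 1)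
    (hg : g ∈ 𝒜 1) :
    (chartIdeal 𝒜 ℐ f).map (awayMap 𝒜 hg rfl) =
      (chartIdeal 𝒜 ℐ g).map (awayMap 𝒜 hf (mul_comm f g)) := by
  have hU : IsAffineOpen (Proj.basicOpen 𝒜 (f * g)) :=
    Proj.isAffineOpen_basicOpen 𝒜 (f * g) (SetLike.mul_mem_graded hf hg) (by norm_num)
  rw [chartIdeal_map_awayMap 𝒜 ℐ hf hg rfl hU, chartIdeal_map_awayMap 𝒜 ℐ hg hf (mul_comm f g) hU]

variable {𝒜} in
theorem irrelevant_le_map_of_surjective {B : Type u} [CommRing B] [Algebra R B]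
    {ℬ : ℕ → Submodule R B} [GradedAlgebra ℬ] (φ : 𝒜 →+*ᵍ ℬ) (hsurj : Function.Surjective φ) :
    HomogeneousIdeal.irrelevant ℬ ≤ (HomogeneousIdeal.irrelevant 𝒜).map φ := by
  rw [HomogeneousIdeal.irrelevant_le]
  intro i hi b hb
  obtain ⟨a, ha, rfl⟩ := gradedRingHom_surjective_on_pieces φ hsurj i b hb
  exact Ideal.mem_map_of_mem _ (HomogeneousIdeal.mem_irrelevant_of_mem 𝒜 hi ha)

/-- The kernel of `Proj.map φ` on the chart `D₊(f)`, pulled back to `A_(f)`, is the kernel of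
`Away.map φ f`. -/
theorem comap_ker_projMap_app {B : Type u} [CommRing B] [Algebra R B]
    {ℬ : ℕ → Submodule R B} [GradedAlgebra ℬ] (φ : 𝒜 →+*ᵍ ℬ)
    (hφ : HomogeneousIdeal.irrelevant ℬ ≤ (HomogeneousIdeal.irrelevant 𝒜).map φ)
    {f : A} {m : ℕ} (hf : f ∈ 𝒜 m) (hm : 0 < m) :
    (RingHom.ker ((Proj.map φ hφ).app (Proj.basicOpen 𝒜 f)).hom).comap
      (Proj.awayToSection 𝒜 f).hom = RingHom.ker (Away.map φ f) := by
  have h := Proj.awayToSection_comp_appLE φ hφ hf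
  ext x
  have key : ((Proj.map φ hφ).app (Proj.basicOpen 𝒜 f)).hom ((Proj.awayToSection 𝒜 f).hom x) =
      (Proj.awayToSection ℬ (φ f)).hom (Away.map φ f x) := by
    have h' : (Proj.map φ hφ).app (Proj.basicOpen 𝒜 f) =
        (Proj.map φ hφ).appLE (Proj.basicOpen 𝒜 f) (Proj.basicOpen ℬ (φ f)) (by rfl) :=
      Scheme.Hom.app_eq_appLE ..
    rw [h']
    exact congr($h x)
  rw [Ideal.mem_comap, RingHom.mem_ker, RingHom.mem_ker, key]
  exact map_eq_zero_iff _ (awayToSection_bijective ℬ (φ.map_mem hf) hm).1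

/-- Every ideal sheaf on `Proj 𝒜` (`𝒜` generated by finitely many elements of degree one) is the
kernel of `Proj (A ⧸ I) ⟶ Proj A` for a homogeneous ideal `I`. -/
theorem ker_projMap_quot_sectIdeal (s : Finset A) (hs1 : ∀ f ∈ s, f ∈ 𝒜 1)
    (hs : (HomogeneousIdeal.irrelevant 𝒜).toIdeal = Ideal.span (s : Set A))
    (ℐ : (Proj 𝒜).IdealSheafData) :
    letI := quotGradedAlgebra 𝒜 (sectIdeal_isHomogeneous s hs1 (chartIdeal 𝒜 ℐ))
    ∀ hφ, (Proj.map (quotGradedHom 𝒜 (sectIdeal_isHomogeneous s hs1 (chartIdeal 𝒜 ℐ))) hφ).ker = ℐ := by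
  letI := quotGradedAlgebra 𝒜 (sectIdeal_isHomogeneous s hs1 (chartIdeal 𝒜 ℐ))
  intro hφ
  have hci : IsClosedImmersion
      (Proj.map (quotGradedHom 𝒜 (sectIdeal_isHomogeneous s hs1 (chartIdeal 𝒜 ℐ))) hφ) :=
    Groth.Agent.S3563.result 𝒜 _ _ (quotGradedHom_surjective 𝒜 _) hφ
  refine Scheme.IdealSheafData.ext_of_iSup_eq_top (fun f : s => dplus 𝒜 (hs1 f.1 f.2)) ?_ ?_
  · refine Proj.iSup_basicOpen_eq_top 𝒜 (fun f : s => f.1) ?_
    rw [hs]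
    refine Ideal.span_mono ?_
    intro f hf
    exact ⟨⟨f, hf⟩, rfl⟩
  · intro f
    rw [Scheme.Hom.ker_apply]
    have hbij := awayToSection_bijective 𝒜 (hs1 f.1 f.2) one_pos
    apply Ideal.comap_injective_of_surjective _ hbij.2
    rw [comap_ker_projMap_app 𝒜 _ hφ (hs1 f.1 f.2) one_pos, ← chartIdeal_of_mem 𝒜 ℐ (hs1 f.1 f.2)]
    exact ker_awayMap_quot_sectIdeal s hs1 (chartIdeal 𝒜 ℐ)
      (fun f hf g hg => chartIdeal_compat 𝒜 ℐ (hs1 f hf) (hs1 g hg)) f.1 f.2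

theorem exists_quot_of_closedImmersion (s : Finset A) (hs1 : ∀ f ∈ s, f ∈ 𝒜 1)
    (hs : (HomogeneousIdeal.irrelevant 𝒜).toIdeal = Ideal.span (s : Set A))
    {Z : Scheme.{u}} (i : Z ⟶ Proj 𝒜) [IsClosedImmersion i] :
    ∃ (B : Type u) (_ : CommRing B) (_ : Algebra R B) (ℬ : ℕ → Submodule R B) (_ : GradedAlgebra ℬ)
      (φ : 𝒜 →+*ᵍ ℬ) (_ : Function.Surjective φ)
      (hφ : HomogeneousIdeal.irrelevant ℬ ≤ (HomogeneousIdeal.irrelevant 𝒜).map φ)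
      (e : Z ≅ Proj ℬ), e.hom ≫ Proj.map φ hφ = i := by
  have hI := sectIdeal_isHomogeneous s hs1 (chartIdeal 𝒜 i.ker)
  letI := quotGradedAlgebra 𝒜 hI
  have hsurj := quotGradedHom_surjective 𝒜 hI
  have hφ := irrelevant_le_map_of_surjective (quotGradedHom 𝒜 hI) hsurj
  have hker := ker_projMap_quot_sectIdeal 𝒜 s hs1 hs i.ker hφ
  have hci : IsClosedImmersion (Proj.map (quotGradedHom 𝒜 hI) hφ) :=
    Groth.Agent.S3563.result 𝒜 _ _ hsurj hφ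
  have hiso : IsIso (IsClosedImmersion.lift (Proj.map (quotGradedHom 𝒜 hI) hφ) i hker.le) :=
    IsClosedImmersion.isIso_lift _ _ hker
  exact ⟨_, _, _, _, _, quotGradedHom 𝒜 hI, hsurj, hφ,
    asIso (IsClosedImmersion.lift (Proj.map (quotGradedHom 𝒜 hI) hφ) i hker.le),
    IsClosedImmersion.lift_fac _ _ _⟩

end

end Groth.Agent.H18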