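import Groth.Agent.H18.GrTildeQC

set_option autoImplicit false
universe u

open CategoryTheory CategoryTheory.Limits AlgebraicGeometry TopologicalSpace Opposite
open HomogeneousLocalization

namespace Groth.Agent.H18

section

variable {R A : Type u} [CommRing R] [CommRing A] [Algebra R A]
variable (𝒜 : ℕ → Submodule R A) [GradedAlgebra 𝒜]

/-- The section `a / t` of the structure sheaf of `Proj` over an open on which `t` does not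
vanish (`a`, `t` homogeneous of the same degree). -/
noncomputable def fracO {n : ℕ} {a t : A} (ha : a ∈ 𝒜 n) (ht : t ∈ 𝒜 n) (W : (Proj 𝒜).Opens)
    (hW : ∀ x : ProjectiveSpectrum 𝒜, x ∈ W → t ∉ x.asHomogeneousIdeal) : Γ(Proj 𝒜, W) :=
  ⟨fun x => HomogeneousLocalization.mk ⟨n, ⟨a, ha⟩, ⟨t, ht⟩, hW x.1 x.2⟩,
   fun x => ⟨W, x.2, 𝟙 W, n, ⟨a, ha⟩, ⟨t, ht⟩, fun y => hW y.1 y.2, fun _ => rfl⟩⟩

theorem fracO_val {n : ℕ} {a t : A} (ha : a ∈ 𝒜 n) (ht : t ∈ 𝒜 n) (W : (Proj 𝒜).Opens)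
    (hW : ∀ x : ProjectiveSpectrum 𝒜, x ∈ W → t ∉ x.asHomogeneousIdeal) (x : W) :
    ((fracO 𝒜 ha ht W hW).1 x).val =
      Localization.mk a (⟨t, hW x.1 x.2⟩ : x.1.asHomogeneousIdeal.toIdeal.primeCompl) := rfl

theorem projSection_ext {W : (Proj 𝒜).Opens} (r r' : Γ(Proj 𝒜, W))
    (h : ∀ x : W, (r.1 x).val = (r'.1 x).val) : r = r' := by
  apply Subtype.ext
  funext x
  exact HomogeneousLocalization.val_injective _ (h x)

theorem fracO_res {n : ℕ} {a t : A} (ha : a ∈ 𝒜 n) (ht : t ∈ 𝒜 n) {W W' : (Proj 𝒜).Opens}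
    (h : W' ≤ W) (hW : ∀ x : ProjectiveSpectrum 𝒜, x ∈ W → t ∉ x.asHomogeneousIdeal) :
    (Proj 𝒜).presheaf.map (homOfLE h).op (fracO 𝒜 ha ht W hW) =
      fracO 𝒜 ha ht W' (fun x hx => hW x (h hx)) := rfl

theorem fracO_mul {n n' : ℕ} {a t a' t' : A} (ha : a ∈ 𝒜 n) (ht : t ∈ 𝒜 n)
    (ha' : a' ∈ 𝒜 n') (ht' : t' ∈ 𝒜 n') (W : (Proj 𝒜).Opens)
    (hW : ∀ x : ProjectiveSpectrum 𝒜, x ∈ W → t ∉ x.asHomogeneousIdeal)
    (hW' : ∀ x : ProjectiveSpectrum 𝒜, x ∈ W → t' ∉ x.asHomogeneousIdeal) :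
    fracO 𝒜 ha ht W hW * fracO 𝒜 ha' ht' W hW' =
      fracO 𝒜 (SetLike.mul_mem_graded ha ha') (SetLike.mul_mem_graded ht ht') W
        (fun x hx h => (x.isPrime.mem_or_mem h).elim (hW x hx) (hW' x hx)) := by
  refine projSection_ext 𝒜 _ _ (fun x => ?_)
  change ((fracO 𝒜 ha ht W hW).1 x * (fracO 𝒜 ha' ht' W hW').1 x).val = _
  rw [HomogeneousLocalization.val_mul, fracO_val, fracO_val, fracO_val, Localization.mk_mul]
  rfl

theorem fracO_eq_of_mul_eq {n n' : ℕ} {a t a' t' : A} (ha : a ∈ 𝒜 n) (ht : t ∈ 𝒜 n)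
    (ha' : a' ∈ 𝒜 n') (ht' : t' ∈ 𝒜 n') (W : (Proj 𝒜).Opens)
    (hW : ∀ x : ProjectiveSpectrum 𝒜, x ∈ W → t ∉ x.asHomogeneousIdeal)
    (hW' : ∀ x : ProjectiveSpectrum 𝒜, x ∈ W → t' ∉ x.asHomogeneousIdeal)
    (h : a * t' = a' * t) :
    fracO 𝒜 ha ht W hW = fracO 𝒜 ha' ht' W hW' := by
  refine projSection_ext 𝒜 _ _ (fun x => ?_)
  rw [fracO_val, fracO_val, Localization.mk_eq_mk_iff, Localization.r_iff_exists]
  exact ⟨1, by simp only [OneMemClass.coe_one, one_mul]; rw [mul_comm t' a, h, mul_comm]⟩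

theorem fracO_self {n : ℕ} {t : A} (ht : t ∈ 𝒜 n) (W : (Proj 𝒜).Opens)
    (hW : ∀ x : ProjectiveSpectrum 𝒜, x ∈ W → t ∉ x.asHomogeneousIdeal) :
    fracO 𝒜 ht ht W hW = 1 := by
  refine projSection_ext 𝒜 _ _ (fun x => ?_)
  rw [fracO_val]
  change _ = (1 : HomogeneousLocalization.AtPrime 𝒜 x.1.asHomogeneousIdeal.toIdeal).val
  rw [HomogeneousLocalization.val_one]
  exact Localization.mk_self (⟨t, hW x.1 x.2⟩ : x.1.asHomogeneousIdeal.toIdeal.primeCompl)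


theorem fracO_add {n : ℕ} {a a' t : A} (ha : a ∈ 𝒜 n) (ha' : a' ∈ 𝒜 n) (ht : t ∈ 𝒜 n)
    (W : (Proj 𝒜).Opens)
    (hW : ∀ x : ProjectiveSpectrum 𝒜, x ∈ W → t ∉ x.asHomogeneousIdeal) :
    fracO 𝒜 (add_mem ha ha') ht W hW = fracO 𝒜 ha ht W hW + fracO 𝒜 ha' ht W hW := by
  refine projSection_ext 𝒜 _ _ (fun x => ?_)
  change _ = ((fracO 𝒜 ha ht W hW).1 x + (fracO 𝒜 ha' ht W hW).1 x).val
  rw [HomogeneousLocalization.val_add, fracO_val, fracO_val, fracO_val,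
    Localization.add_mk_self]

theorem fracO_zero {n : ℕ} {t : A} (ht : t ∈ 𝒜 n) (W : (Proj 𝒜).Opens)
    (hW : ∀ x : ProjectiveSpectrum 𝒜, x ∈ W → t ∉ x.asHomogeneousIdeal) :
    fracO 𝒜 (zero_mem (𝒜 n)) ht W hW = 0 := by
  refine projSection_ext 𝒜 _ _ (fun x => ?_)
  rw [fracO_val]
  change _ = (0 : HomogeneousLocalization.AtPrime 𝒜 x.1.asHomogeneousIdeal.toIdeal).val
  rw [HomogeneousLocalization.val_zero]
  exact Localization.mk_zero _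

theorem awayToSection_eq_fracO {d : ℕ} {f : A} (hf : f ∈ 𝒜 d) (k : ℕ) (g : A)
    (hg : g ∈ 𝒜 (k • d)) :
    (Proj.awayToSection 𝒜 f).hom (Away.mk 𝒜 hf k g hg) =
      fracO 𝒜 hg (SetLike.pow_mem_graded k hf) (Proj.basicOpen 𝒜 f)
        (fun x hx h => hx (x.isPrime.mem_of_pow_mem k h)) := by
  refine projSection_ext 𝒜 _ _ (fun x => ?_)
  rw [fracO_val]
  exact awayToSection_apply_val 𝒜 hf k g hg x.1 x.2

end
end Groth.Agent.H18
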