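import Groth.Agent.H18.GradedQuot

set_option autoImplicit false
universe u

open HomogeneousLocalization DirectSum

namespace Groth.Agent.H18

section

variable {R A : Type u} [CommRing R] [CommRing A] [Algebra R A]
variable (𝒜 : ℕ → Submodule R A) [GradedAlgebra 𝒜]

/-- the fraction `aₙ / f ^ n` for `f` of degree one (`aₙ` the component of degree `n` of `a`). -/
noncomputable def dfrac {f : A} (hf : f ∈ 𝒜 1) (n : ℕ) (a : A) : Away 𝒜 f :=
  Away.mk 𝒜 hf n (DirectSum.decompose 𝒜 a n) (by rw [smul_eq_mul, mul_one]; exact Subtype.prop _)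

variable {𝒜}

theorem val_dfrac {f : A} (hf : f ∈ 𝒜 1) (n : ℕ) (a : A) :
    (dfrac 𝒜 hf n a).val = Localization.mk (DirectSum.decompose 𝒜 a n : A)
      (⟨f ^ n, n, rfl⟩ : Submonoid.powers f) :=
  Away.val_mk ..

theorem dfrac_of_mem {f : A} (hf : f ∈ 𝒜 1) {n : ℕ} {a : A} (ha : a ∈ 𝒜 n) :
    dfrac 𝒜 hf n a = Away.mk 𝒜 hf n a (by rw [smul_eq_mul, mul_one]; exact ha) := by
  ext
  rw [val_dfrac, Away.val_mk, DirectSum.decompose_of_mem_same 𝒜 ha]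

theorem dfrac_of_mem_ne {f : A} (hf : f ∈ 𝒜 1) {n m : ℕ} {a : A} (ha : a ∈ 𝒜 m) (h : m ≠ n) :
    dfrac 𝒜 hf n a = 0 := by
  ext
  rw [val_dfrac, DirectSum.decompose_of_mem_ne 𝒜 ha h, Localization.mk_zero, val_zero]

theorem dfrac_zero {f : A} (hf : f ∈ 𝒜 1) (n : ℕ) : dfrac 𝒜 hf n 0 = 0 := by
  ext
  rw [val_dfrac, DirectSum.decompose_zero, DirectSum.zero_apply, ZeroMemClass.coe_zero,
    Localization.mk_zero, val_zero]

theorem dfrac_add {f : A} (hf : f ∈ 𝒜 1) (n : ℕ) (a b : A) :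
    dfrac 𝒜 hf n (a + b) = dfrac 𝒜 hf n a + dfrac 𝒜 hf n b := by
  ext
  rw [val_add, val_dfrac, val_dfrac, val_dfrac, DirectSum.decompose_add, DirectSum.add_apply,
    AddMemClass.coe_add, Localization.add_mk_self]

theorem dfrac_mul_of_mem_of_le {f : A} (hf : f ∈ 𝒜 1) {m n : ℕ} {c : A} (hc : c ∈ 𝒜 m) (a : A)
    (h : m ≤ n) : dfrac 𝒜 hf n (c * a) = dfrac 𝒜 hf m c * dfrac 𝒜 hf (n - m) a := by
  ext
  rw [val_mul, val_dfrac, val_dfrac, val_dfrac, DirectSum.coe_decompose_mul_of_left_mem_of_le 𝒜 hc h,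
    DirectSum.decompose_of_mem_same 𝒜 hc, Localization.mk_mul]
  congr 1
  apply Subtype.ext
  change f ^ n = f ^ m * f ^ (n - m)
  rw [← pow_add, Nat.add_sub_cancel' h]

theorem dfrac_mul_of_mem_of_not_le {f : A} (hf : f ∈ 𝒜 1) {m n : ℕ} {c : A} (hc : c ∈ 𝒜 m) (a : A)
    (h : ¬ m ≤ n) : dfrac 𝒜 hf n (c * a) = 0 := by
  ext
  rw [val_dfrac, DirectSum.coe_decompose_mul_of_left_mem_of_not_le 𝒜 hc h, Localization.mk_zero,
    val_zero]

theorem dfrac_decompose {f : A} (hf : f ∈ 𝒜 1) (n : ℕ) (a : A) :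
    dfrac 𝒜 hf n (DirectSum.decompose 𝒜 a n : A) = dfrac 𝒜 hf n a := by
  ext
  rw [val_dfrac, val_dfrac, DirectSum.decompose_of_mem_same 𝒜 (Subtype.prop _)]

variable (s : Finset A) (hs1 : ∀ f ∈ s, f ∈ 𝒜 1) (J : ∀ f : A, Ideal (Away 𝒜 f))

/-- The homogeneous ideal of `A` attached to a family of ideals `J f ⊆ A_(f)`. -/
def sectIdeal : Ideal A where
  carrier := {a | ∀ (n : ℕ) (f : A) (hf : f ∈ s), dfrac 𝒜 (hs1 f hf) n a ∈ J f}
  zero_mem' := by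
    intro n f hf
    rw [dfrac_zero]
    exact zero_mem _
  add_mem' := by
    intro a b ha hb n f hf
    rw [dfrac_add]
    exact add_mem (ha n f hf) (hb n f hf)
  smul_mem' := by
    intro c a ha
    rw [smul_eq_mul]
    induction c using DirectSum.Decomposition.inductionOn 𝒜 with
    | zero =>
      intro n f hf
      rw [zero_mul, dfrac_zero]
      exact zero_mem _
    | @homogeneous m c =>
      intro n f hf
      by_cases h : m ≤ n
      · rw [dfrac_mul_of_mem_of_le (hs1 f hf) c.2 a h]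
        exact Ideal.mul_mem_left _ _ (ha _ f hf)
      · rw [dfrac_mul_of_mem_of_not_le (hs1 f hf) c.2 a h]
        exact zero_mem _
    | add c₁ c₂ h₁ h₂ =>
      intro n f hf
      rw [add_mul, dfrac_add]
      exact add_mem (h₁ n f hf) (h₂ n f hf)

theorem mem_sectIdeal_iff (a : A) :
    a ∈ sectIdeal s hs1 J ↔ ∀ (n : ℕ) (f : A) (hf : f ∈ s), dfrac 𝒜 (hs1 f hf) n a ∈ J f :=
  Iff.rfl

theorem sectIdeal_isHomogeneous : (sectIdeal s hs1 J).IsHomogeneous 𝒜 := by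
  intro i a ha n f hf
  by_cases h : i = n
  · subst h
    rw [dfrac_decompose]
    exact ha i f hf
  · rw [dfrac_of_mem_ne (hs1 f hf) (Subtype.prop _) h]
    exact zero_mem _

theorem mem_sectIdeal_of_mem {n : ℕ} {a : A} (ha : a ∈ 𝒜 n)
    (h : ∀ (f : A) (hf : f ∈ s), dfrac 𝒜 (hs1 f hf) n a ∈ J f) : a ∈ sectIdeal s hs1 J := by
  intro m f hf
  by_cases hm : n = m
  · subst hm
    exact h f hf
  · rw [dfrac_of_mem_ne (hs1 f hf) ha hm]
    exact zero_mem _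

theorem dfrac_pow_mul {f : A} (hf : f ∈ 𝒜 1) {n : ℕ} {a : A} (ha : a ∈ 𝒜 n) (k : ℕ) :
    dfrac 𝒜 hf (k + n) (f ^ k * a) = dfrac 𝒜 hf n a := by
  have h1 : f ^ k * a ∈ 𝒜 (k + n) := by
    have := SetLike.mul_mem_graded (SetLike.pow_mem_graded k hf) ha
    rwa [smul_eq_mul, mul_one] at this
  ext
  rw [val_dfrac, val_dfrac, DirectSum.decompose_of_mem_same 𝒜 h1,
    DirectSum.decompose_of_mem_same 𝒜 ha, Localization.mk_eq_mk_iff, Localization.r_iff_exists]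
  refine ⟨1, ?_⟩
  simp only [OneMemClass.coe_one, one_mul]
  ring

theorem isLocElem_pow_mul_dfrac {f g : A} (hf : f ∈ 𝒜 1) (hg : g ∈ 𝒜 1) {n : ℕ} {a : A}
    (ha : a ∈ 𝒜 n) (k : ℕ) :
    (Away.isLocalizationElem hg hf) ^ k * dfrac 𝒜 hg n a = dfrac 𝒜 hg (k + n) (f ^ k * a) := by
  have h1 : f ^ k * a ∈ 𝒜 (k + n) := by
    have := SetLike.mul_mem_graded (SetLike.pow_mem_graded k hf) ha
    rwa [smul_eq_mul, mul_one] at this
  ext
  rw [val_mul, val_pow, val_dfrac, val_dfrac, DirectSum.decompose_of_mem_same 𝒜 h1,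
    DirectSum.decompose_of_mem_same 𝒜 ha, Away.val_mk, Localization.mk_pow, Localization.mk_mul,
    Localization.mk_eq_mk_iff, Localization.r_iff_exists]
  refine ⟨1, ?_⟩
  simp only [OneMemClass.coe_one, one_mul, Submonoid.coe_mul, SubmonoidClass.coe_pow]
  ring

/-- the key equation in `A_(fg)` -/
theorem awayMap_dfrac_eq {f g : A} (hf : f ∈ 𝒜 1) (hg : g ∈ 𝒜 1) {n : ℕ} {a : A}
    (ha : a ∈ 𝒜 n) :
    awayMap 𝒜 hf (mul_comm f g) (dfrac 𝒜 hg n a) =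
      awayMap 𝒜 hg rfl (dfrac 𝒜 hf n a) *
        (awayMap 𝒜 hf (mul_comm f g) (Away.isLocalizationElem hg hf)) ^ n := by
  rw [dfrac_of_mem hg ha, dfrac_of_mem hf ha, awayMap_mk, awayMap_mk, awayMap_mk]
  ext
  rw [val_mul, val_pow, Away.val_mk, Away.val_mk, Away.val_mk, Localization.mk_pow,
    Localization.mk_mul, Localization.mk_eq_mk_iff, Localization.r_iff_exists]
  refine ⟨1, ?_⟩
  simp only [OneMemClass.coe_one, one_mul, Submonoid.coe_mul, SubmonoidClass.coe_pow]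
  ring

theorem exists_forall_dfrac_mem {f g : A} (hf : f ∈ 𝒜 1) (hg : g ∈ 𝒜 1)
    (Jf : Ideal (Away 𝒜 f)) (Jg : Ideal (Away 𝒜 g))
    (hJ : Jf.map (awayMap 𝒜 hg rfl) = Jg.map (awayMap 𝒜 hf (mul_comm f g)))
    {n : ℕ} {a : A} (ha : a ∈ 𝒜 n) (hx : dfrac 𝒜 hf n a ∈ Jf) :
    ∃ k₀ : ℕ, ∀ k, k₀ ≤ k → dfrac 𝒜 hg (k + n) (f ^ k * a) ∈ Jg := by
  letI := (awayMap 𝒜 hf (mul_comm f g)).toAlgebra
  have hloc : IsLocalization.Away (Away.isLocalizationElem hg hf) (Away 𝒜 (f * g)) :=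
    Away.isLocalization_mul hg hf (mul_comm f g) one_ne_zero
  have h1 : algebraMap (Away 𝒜 g) (Away 𝒜 (f * g)) (dfrac 𝒜 hg n a) ∈
      Jg.map (algebraMap (Away 𝒜 g) (Away 𝒜 (f * g))) := by
    change awayMap 𝒜 hf (mul_comm f g) (dfrac 𝒜 hg n a) ∈ Jg.map (awayMap 𝒜 hf (mul_comm f g))
    rw [awayMap_dfrac_eq hf hg ha, ← hJ]
    exact Ideal.mul_mem_right _ _ (Ideal.mem_map_of_mem _ hx)
  rw [IsLocalization.algebraMap_mem_map_algebraMap_iff
    (Submonoid.powers (Away.isLocalizationElem hg hf))] at h1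
  obtain ⟨_, ⟨k₀, rfl⟩, hk₀⟩ := h1
  refine ⟨k₀, fun k hk => ?_⟩
  rw [← isLocElem_pow_mul_dfrac hf hg ha, ← Nat.sub_add_cancel hk, pow_add, mul_assoc]
  exact Ideal.mul_mem_left _ _ hk₀

theorem ker_awayMap_quot_sectIdeal (s : Finset A) (hs1 : ∀ f ∈ s, f ∈ 𝒜 1)
    (J : ∀ f : A, Ideal (Away 𝒜 f))
    (hJ : ∀ f (hf : f ∈ s) g (hg : g ∈ s), (J f).map (awayMap 𝒜 (hs1 g hg) rfl) =
      (J g).map (awayMap 𝒜 (hs1 f hf) (mul_comm f g)))
    (f : A) (hf : f ∈ s) :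
    letI := quotGradedAlgebra 𝒜 (sectIdeal_isHomogeneous s hs1 J)
    RingHom.ker (Away.map (quotGradedHom 𝒜 (sectIdeal_isHomogeneous s hs1 J)) f) = J f := by
  letI := quotGradedAlgebra 𝒜 (sectIdeal_isHomogeneous s hs1 J)
  ext x
  obtain ⟨n, a, ha, rfl⟩ := Away.mk_surjective 𝒜 (hs1 f hf) x
  have ha' : a ∈ 𝒜 n := by rwa [smul_eq_mul, mul_one] at ha
  have hx : Away.mk 𝒜 (hs1 f hf) n a ha = dfrac 𝒜 (hs1 f hf) n a := (dfrac_of_mem _ ha').symm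
  rw [RingHom.mem_ker, awayMap_quot_eq_zero_iff]
  constructor
  · rintro ⟨m, hm⟩
    have := hm (m + n) f hf
    rwa [dfrac_pow_mul (hs1 f hf) ha', ← hx] at this
  · intro hxJ
    rw [hx] at hxJ
    have hex : ∀ g : s, ∃ k₀ : ℕ, ∀ k, k₀ ≤ k →
        dfrac 𝒜 (hs1 g.1 g.2) (k + n) (f ^ k * a) ∈ J g.1 := fun g =>
      exists_forall_dfrac_mem (hs1 f hf) (hs1 g.1 g.2) (J f) (J g.1) (hJ f hf g.1 g.2) ha' hxJ
    choose k₀ hk₀ using hex
    refine ⟨Finset.univ.sup k₀, ?_⟩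
    have h1 : f ^ (Finset.univ.sup k₀) * a ∈ 𝒜 (Finset.univ.sup k₀ + n) := by
      have := SetLike.mul_mem_graded (SetLike.pow_mem_graded (Finset.univ.sup k₀) (hs1 f hf)) ha'
      rwa [smul_eq_mul, mul_one] at this
    refine mem_sectIdeal_of_mem s hs1 J h1 fun g hg => ?_
    exact hk₀ ⟨g, hg⟩ _ (Finset.le_sup (f := k₀) (Finset.mem_univ (⟨g, hg⟩ : s)))

end

end Groth.Agent.H18
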