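import Groth.Agent.H18.ProjBasic
import Mathlib.AlgebraicGeometry.Properties

set_option autoImplicit false
universe u

open AlgebraicGeometry HomogeneousLocalization

namespace Groth.Agent.H18

section

variable {R A : Type u} [CommRing R] [CommRing A] [Algebra R A]
variable (𝒜 : ℕ → Submodule R A) [GradedAlgebra 𝒜]

theorem away_mk_eq_zero_iff {d : ℕ} {f : A} (hf : f ∈ 𝒜 d) (n : ℕ) (a : A) (ha : a ∈ 𝒜 (n • d)) :
    Away.mk 𝒜 hf n a ha = 0 ↔ ∃ m : ℕ, f ^ m * a = 0 := by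
  rw [HomogeneousLocalization.ext_iff_val, Away.val_mk, val_zero, Localization.mk_eq_mk',
    IsLocalization.mk'_eq_zero_iff]
  constructor
  · rintro ⟨⟨_, m, rfl⟩, hm⟩
    exact ⟨m, hm⟩
  · rintro ⟨m, hm⟩
    exact ⟨⟨_, m, rfl⟩, hm⟩

theorem isReduced_away (hred : ∀ f ∈ (HomogeneousIdeal.irrelevant 𝒜).toIdeal, IsNilpotent f → f = 0)
    {d : ℕ} (hd : 0 < d) {f : A} (hf : f ∈ 𝒜 d) : IsReduced (Away 𝒜 f) := by
  constructor
  intro x hx
  obtain ⟨n, a, ha, rfl⟩ := Away.mk_surjective 𝒜 hf x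
  obtain ⟨k, hk⟩ := hx
  have h1 : ∃ m : ℕ, f ^ m * a ^ k = 0 := by
    have := congrArg HomogeneousLocalization.val hk
    rw [val_pow, Away.val_mk, val_zero, Localization.mk_pow, Localization.mk_eq_mk',
      IsLocalization.mk'_eq_zero_iff] at this
    obtain ⟨⟨_, m, rfl⟩, hm⟩ := this
    exact ⟨m, hm⟩
  obtain ⟨m, hm⟩ := h1
  have hfa : f * a = 0 := by
    apply hred
    · exact Ideal.mul_mem_right _ _ (HomogeneousIdeal.mem_irrelevant_of_mem 𝒜 hd hf)
    · refine ⟨m + k, ?_⟩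
      calc (f * a) ^ (m + k) = f ^ k * a ^ m * (f ^ m * a ^ k) := by ring
        _ = 0 := by rw [hm, mul_zero]
  rw [away_mk_eq_zero_iff]
  exact ⟨1, by simpa using hfa⟩

end

end Groth.Agent.H18
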