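import Groth.Agent.H18.ProjSpaceLau
import Groth.Agent.Lead.Coh.ProjSpaceCover

/-!
Global sections of `O(d)` on projective space (helper18).
-/

set_option autoImplicit false
universe u

open CategoryTheory CategoryTheory.Limits AlgebraicGeometry TopologicalSpace Opposite MvPolynomial

namespace Groth.Agent.H18.PSL

variable (n : ℕ) (R : Type u) [CommRing R]

theorem degree_single_one (i : Fin (n + 1)) : 0 < (Finsupp.single i 1 : Fin (n + 1) →₀ ℕ).degree := by
  rw [Finsupp.degree_single]; exact Nat.one_pos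

theorem degree_add_pos (e e' : Fin (n + 1) →₀ ℕ) (h : 0 < e.degree) : 0 < (e + e').degree := by
  rw [map_add]; omega

/-- the standard open `D₊(T_i)` -/
noncomputable abbrev stdO (i : Fin (n + 1)) : (CohB1.ProjSpace n R).Opens :=
  monoOpen n R (Finsupp.single i 1)

theorem stdO_eq_stdOpen (i : Fin (n + 1)) : stdO n R i = Lead.Coh.stdOpen n R i := rfl

theorem exists_mem_stdO (x : CohB1.ProjSpace n R) : ∃ i, x ∈ stdO n R i := by
  have h := Lead.Coh.iSup_stdOpen n R
  have hx : x ∈ (⨆ i, Lead.Coh.stdOpen n R i) := by rw [h]; trivial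
  obtain ⟨i, hi⟩ := Opens.mem_iSup.mp hx
  exact ⟨i, hi⟩

/-- the common Laurent expansion of a global section -/
theorem exists_global_lau (d : ℤ)
    (s : Γ(Twist.twist (CohB1.polyGrading n R) d, (⊤ : (CohB1.ProjSpace n R).Opens))) :
    ∃ L : (Fin (n + 1) → ℤ) → R, (Function.support L).Finite ∧
      (∀ i, lauSect n R d (Finsupp.single i 1) (degree_single_one n i) (stdO n R i) rfl
        (mres (Twist.twist (CohB1.polyGrading n R) d) le_top s) = L) ∧
      ∀ a, L a ≠ 0 → (∑ i, a i = d) ∧ ∀ i j, a j < 0 → j = i := by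
  have key : ∀ i j, lauSect n R d (Finsupp.single i 1) (degree_single_one n i) (stdO n R i) rfl
        (mres (Twist.twist (CohB1.polyGrading n R) d) le_top s) =
      lauSect n R d (Finsupp.single j 1) (degree_single_one n j) (stdO n R j) rfl
        (mres (Twist.twist (CohB1.polyGrading n R) d) le_top s) := by
    intro i j
    have hi : monoOpen n R (Finsupp.single i 1 + Finsupp.single j 1) ≤ stdO n R i :=
      monoOpen_le_iff n R _ _ fun k hk => by
        rw [Finsupp.add_apply]; omega
    have hj : monoOpen n R (Finsupp.single i 1 + Finsupp.single j 1) ≤ stdO n R j :=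
      monoOpen_le_iff n R _ _ fun k hk => by
        rw [Finsupp.add_apply]; omega
    have h1 := lauSect_res n R (degree_single_one n i)
      (degree_add_pos n _ (Finsupp.single j 1) (degree_single_one n i)) rfl rfl hi
      (mres (Twist.twist (CohB1.polyGrading n R) d) le_top s)
    have h2 := lauSect_res n R (degree_single_one n j)
      (degree_add_pos n _ (Finsupp.single j 1) (degree_single_one n i)) rfl rfl hj
      (mres (Twist.twist (CohB1.polyGrading n R) d) le_top s)
    rw [mres_mres] at h1 h2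
    exact h1.symm.trans h2
  refine ⟨_, lauSect_support_finite n R (degree_single_one n 0) rfl _, fun i => key i 0, ?_⟩
  intro a ha
  refine ⟨(lauSect_ne_zero_imp n R (degree_single_one n 0) rfl _ ha).1, fun i j hj => ?_⟩
  rw [← key i 0] at ha
  have h3 := (lauSect_ne_zero_imp n R (degree_single_one n i) rfl _ ha).2 j hj
  by_contra hne
  rw [Finsupp.single_apply, if_neg (Ne.symm hne)] at h3
  exact absurd h3 (lt_irrefl 0)


/-- the global section `m / 1` of `O(d)` -/
noncomputable def gsec (d : ℕ) (m : CohB1.polyGrading n R d) :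
    Γ(Twist.twist (CohB1.polyGrading n R) (d : ℤ), (⊤ : (CohB1.ProjSpace n R).Opens)) :=
  (Twist.globalOf (CohB1.polyGrading n R) m :
    Twist.sectN (𝒜 := CohB1.polyGrading n R) (d : ℤ) (op ⊤))

theorem isRep_gsec (d : ℕ) (m : CohB1.polyGrading n R d) (W : (CohB1.ProjSpace n R).Opens) :
    IsRep n R (d : ℤ) W (mres (Twist.twist (CohB1.polyGrading n R) (d : ℤ)) le_top (gsec n R d m))
      m.1 0 :=
  ⟨d, m.2, by simp, fun x _ h => x.isPrime.ne_top ((Ideal.eq_top_iff_one _).mpr h), fun _ => rfl⟩

theorem sect_eq_of_forall_stdO {d : ℤ}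
    (s t : Γ(Twist.twist (CohB1.polyGrading n R) d, (⊤ : (CohB1.ProjSpace n R).Opens)))
    (h : ∀ i, mres (Twist.twist (CohB1.polyGrading n R) d) (le_top : stdO n R i ≤ ⊤) s =
      mres (Twist.twist (CohB1.polyGrading n R) d) le_top t) : s = t := by
  refine sval_ext n R _ _ fun z => ?_
  obtain ⟨i, hi⟩ := exists_mem_stdO n R z.1
  have h1 := congrArg (fun q => sval n R q ⟨z.1, hi⟩) (h i)
  exact h1

theorem gsec_injective (d : ℕ) : Function.Injective (gsec n R d) := by
  intro m m' h
  have h1 := lauSect_eq_of_isRep n R (degree_single_one n 0) rfl (isRep_gsec n R d m (stdO n R 0))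
  have h2 := lauSect_eq_of_isRep n R (degree_single_one n 0) rfl (isRep_gsec n R d m' (stdO n R 0))
  rw [h] at h1
  have h3 : Lau.lau m.1 (0 : Fin (n + 1) →₀ ℕ) = Lau.lau m'.1 0 := h1.symm.trans h2
  apply Subtype.ext
  have h4 : Lau.lau (m.1 - m'.1) (0 : Fin (n + 1) →₀ ℕ) = 0 := by
    have := Lau.lau_add (m.1 - m'.1) m'.1 (0 : Fin (n + 1) →₀ ℕ)
    rw [sub_add_cancel, h3] at this
    funext a
    have h5 := congrFun this a
    simp only [Pi.add_apply, Pi.zero_apply] at h5 ⊢
    exact add_eq_right.mp h5.symm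
  exact sub_eq_zero.mp (Lau.eq_zero_of_lau_eq_zero h4)

theorem gsec_surjective (d : ℕ) : Function.Surjective (gsec n R d) := by
  intro s
  obtain ⟨L, hfin, hL, hsupp⟩ := exists_global_lau n R (d : ℤ) s
  have hnonneg : ∀ a, L a ≠ 0 → (∑ i, a i = (d : ℤ)) ∧
      ∀ i, a i < 0 → 0 < (0 : Fin (n + 1) →₀ ℕ) i := by
    intro a ha
    obtain ⟨h1, h2⟩ := hsupp a ha
    refine ⟨h1, fun j hj => ?_⟩
    exfalso
    have hsum : ∑ i, a i = a j :=
      Finset.sum_eq_single j (fun i _ hij => absurd (h2 i j hj).symm hij)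
        (fun hj' => absurd (Finset.mem_univ j) hj')
    have : (0 : ℤ) ≤ d := Int.natCast_nonneg d
    omega
  obtain ⟨k, N, m, hN, hm, hl⟩ := Lau.exists_lau_eq L hfin 0 (d : ℤ) (Or.inl (Int.natCast_nonneg d))
    hnonneg
  have hNd : N = d := by
    rw [map_zero] at hN
    have : (N : ℤ) = d := by simpa using hN
    exact_mod_cast this
  subst hNd
  rw [smul_zero] at hl
  refine ⟨⟨m, (mem_homogeneousSubmodule _ _).mpr hm⟩, ?_⟩
  refine sect_eq_of_forall_stdO n R _ _ fun i => ?_
  refine lauSect_inj n R (degree_single_one n i) rfl _ _ ?_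
  exact ((hL i).trans (hl.symm.trans
    (lauSect_eq_of_isRep n R (degree_single_one n i) rfl
      (isRep_gsec n R N ⟨m, (mem_homogeneousSubmodule _ _).mpr hm⟩ (stdO n R i))).symm)).symm

theorem gsec_bijective (d : ℕ) : Function.Bijective (gsec n R d) :=
  ⟨gsec_injective n R d, gsec_surjective n R d⟩

/-- negative twists have no global sections on `P^n`, `n ≥ 1` -/
theorem eq_zero_of_neg (hn : 1 ≤ n) (d : ℤ) (hd : d < 0)
    (s : Γ(Twist.twist (CohB1.polyGrading n R) d, (⊤ : (CohB1.ProjSpace n R).Opens))) : s = 0 := by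
  obtain ⟨L, hfin, hL, hsupp⟩ := exists_global_lau n R d s
  have hL0 : L = 0 := by
    funext a
    by_contra ha
    obtain ⟨h1, h2⟩ := hsupp a ha
    have hall : ∀ j, 0 ≤ a j := by
      intro j
      by_contra hj
      push Not at hj
      have e1 := h2 0 j hj
      have e2 := h2 (Fin.last n) j hj
      have : (0 : Fin (n + 1)) = Fin.last n := e1.symm.trans e2
      have h3 := congrArg Fin.val this
      simp at h3
      omega
    have : 0 ≤ ∑ i, a i := Finset.sum_nonneg fun i _ => hall i
    omega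
  refine sect_eq_of_forall_stdO n R _ _ fun i => ?_
  refine lauSect_inj n R (degree_single_one n i) rfl _ _ ?_
  have hz : (mres (Twist.twist (CohB1.polyGrading n R) d) (le_top : stdO n R i ≤ ⊤))
      (0 : Γ(Twist.twist (CohB1.polyGrading n R) d, (⊤ : (CohB1.ProjSpace n R).Opens))) = 0 :=
    map_zero _
  exact (hL i).trans (hL0.trans ((lauSect_zero n R (degree_single_one n i) rfl).symm.trans
    (congrArg (lauSect n R d (Finsupp.single i 1) (degree_single_one n i) (stdO n R i) rfl)
      hz.symm)))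

end Groth.Agent.H18.PSL
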