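import Groth.Agent.H18.CechContract
import Groth.Agent.H18.ProjSpaceH0
import Groth.Agent.H18.GrTildeQC
import Groth.Agent.Lead.Coh.CechH1

/-!
Vanishing of the Čech cohomology of `O(d)` on `P^n_R` for the standard cover (helper18).
-/

set_option autoImplicit false
universe u

open CategoryTheory CategoryTheory.Limits AlgebraicGeometry TopologicalSpace Opposite MvPolynomial

namespace Groth.Agent.H18.PSL

open Groth.Agent.Lead.Cech Groth.Agent.H18.CechContract

variable (n : ℕ) (R : Type u) [CommRing R]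

/-- the standard cover, indexed in the universe `u` -/
noncomputable def stdU (i : ULift.{u} (Fin (n + 1))) : (CohB1.ProjSpace n R).Opens :=
  stdO n R i.down

/-- the exponent attached to a tuple of indices -/
noncomputable def expo {p : ℕ} (σ : Fin (p + 1) → ULift.{u} (Fin (n + 1))) : Fin (n + 1) →₀ ℕ :=
  ∑ k, Finsupp.single (σ k).down 1

theorem expo_apply {p : ℕ} (σ : Fin (p + 1) → ULift.{u} (Fin (n + 1))) (i : Fin (n + 1)) :
    expo n σ i = ∑ k, (Finsupp.single (σ k).down 1 : Fin (n + 1) →₀ ℕ) i := by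
  rw [expo, Finsupp.finsetSum_apply]

theorem expo_pos_iff {p : ℕ} (σ : Fin (p + 1) → ULift.{u} (Fin (n + 1))) (i : Fin (n + 1)) :
    0 < expo n σ i ↔ ∃ k, (σ k).down = i := by
  rw [expo_apply]
  constructor
  · intro h
    by_contra hne
    push Not at hne
    have : ∑ k, (Finsupp.single (σ k).down 1 : Fin (n + 1) →₀ ℕ) i = 0 :=
      Finset.sum_eq_zero fun k _ => by rw [Finsupp.single_apply, if_neg (hne k)]
    omega
  · rintro ⟨k, hk⟩
    have h1 : (Finsupp.single (σ k).down 1 : Fin (n + 1) →₀ ℕ) i ≤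
        ∑ k, (Finsupp.single (σ k).down 1 : Fin (n + 1) →₀ ℕ) i :=
      Finset.single_le_sum (f := fun k => (Finsupp.single (σ k).down 1 : Fin (n + 1) →₀ ℕ) i)
        (fun _ _ => Nat.zero_le _) (Finset.mem_univ k)
    rw [hk, Finsupp.single_eq_same] at h1
    omega

theorem expo_degree_pos {p : ℕ} (σ : Fin (p + 1) → ULift.{u} (Fin (n + 1))) :
    0 < (expo n σ).degree := by
  have h : 0 < expo n σ (σ 0).down := (expo_pos_iff n σ _).mpr ⟨0, rfl⟩
  have h2 : expo n σ (σ 0).down ≤ (expo n σ).degree := Finsupp.le_degree _ _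
  omega

theorem cechOpen_eq {p : ℕ} (σ : Fin (p + 1) → ULift.{u} (Fin (n + 1))) :
    cechOpen (stdU n R) σ = monoOpen n R (expo n σ) := by
  apply le_antisymm
  · intro x hx
    refine (mem_monoOpen_iff n R _ x).mpr fun i hi => ?_
    obtain ⟨k, hk⟩ := (expo_pos_iff n σ i).mp hi
    have hxk : x ∈ stdO n R (σ k).down := cechOpen_le (stdU n R) σ k hx
    have := (mem_monoOpen_iff n R _ x).mp hxk (σ k).down (by rw [Finsupp.single_eq_same]; exact Nat.one_pos)
    rwa [hk] at this
  · refine le_cechOpen (stdU n R) σ _ fun k => ?_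
    refine monoOpen_le_iff n R _ _ fun i hi => ?_
    refine (expo_pos_iff n σ i).mpr ⟨k, ?_⟩
    by_contra hne
    rw [Finsupp.single_apply, if_neg hne] at hi
    exact absurd hi (lt_irrefl 0)

/-- the Laurent coefficient system of `O(d)` for the standard cover -/
noncomputable def coeffSystem (d : ℤ) :
    CoeffSystem (stdU n R) (Twist.twist (CohB1.polyGrading n R) d).presheaf
      (Fin (n + 1) → ℤ) R where
  c σ := AddMonoidHom.mk' (lauSect n R d (expo n σ) (expo_degree_pos n σ)
      (cechOpen (stdU n R) σ) (cechOpen_eq n R σ))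
    (lauSect_add n R (expo_degree_pos n σ) (cechOpen_eq n R σ))
  N a := {i | a i.down < 0}
  good a := ∑ i, a i = d
  res σ k s := lauSect_res n R (expo_degree_pos n (σ ∘ k.succAbove)) (expo_degree_pos n σ)
    (cechOpen_eq n R (σ ∘ k.succAbove)) (cechOpen_eq n R σ) (cechOpen_le_face (stdU n R) σ k) s
  inj σ s h := lauSect_injective n R (expo_degree_pos n σ) (cechOpen_eq n R σ) s h
  supp σ s a h := by
    obtain ⟨h1, h2⟩ := lauSect_ne_zero_imp n R (expo_degree_pos n σ) (cechOpen_eq n R σ) s h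
    refine ⟨h1, fun i hi => ?_⟩
    obtain ⟨k, hk⟩ := (expo_pos_iff n σ i.down).mp (h2 i.down hi)
    exact ⟨k, ULift.ext _ _ hk⟩
  fin σ s := lauSect_support_finite n R (expo_degree_pos n σ) (cechOpen_eq n R σ) s
  surj σ L hL h := by
    refine exists_lauSect_eq n R (expo_degree_pos n σ) (cechOpen_eq n R σ) L hL fun a ha => ?_
    obtain ⟨h1, h2⟩ := h a ha
    refine ⟨h1, fun i hi => ?_⟩
    obtain ⟨k, hk⟩ := h2 (show (ULift.up i : ULift.{u} (Fin (n + 1))) ∈ {i | a i.down < 0} from hi)
    exact (expo_pos_iff n σ i).mpr ⟨k, congrArg ULift.down hk⟩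

/-- the Čech complex of `O(d)` for the standard cover is exact in degree `p + 1` when
`p + 1 < n` or `-(n+1) < d` -/
theorem cech_exactAt (d : ℤ) (p : ℕ) (h : p + 2 ≤ n ∨ -((n : ℤ) + 1) < d) :
    (K (stdU n R) (Twist.twist (CohB1.polyGrading n R) d).presheaf).ExactAt (p + 1) := by
  refine exactAt_of_forall_exists_d_eq _ p fun x hx => ?_
  refine exists_d_eq (coeffSystem n R d) p ?_ x hx
  intro a hg hσ
  by_contra hall
  push Not at hall
  have hneg : ∀ i : Fin (n + 1), a i < 0 := fun i => hall (ULift.up i)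
  rcases h with h | h
  · obtain ⟨σ, hσ⟩ := hσ
    have hsurj : Function.Surjective σ := fun i => hσ (hall i)
    have hcard := Fintype.card_le_of_surjective σ hsurj
    simp only [Fintype.card_ulift, Fintype.card_fin] at hcard
    omega
  · have hsum : ∑ i, a i ≤ ∑ _i : Fin (n + 1), (-1 : ℤ) :=
      Finset.sum_le_sum fun i _ => by have := hneg i; omega
    simp only [Finset.sum_const, Finset.card_univ, Fintype.card_fin, nsmul_eq_mul] at hsum
    have hg' : ∑ i, a i = d := hg
    push_cast at hsum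
    omega

end Groth.Agent.H18.PSL
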