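import Groth.Agent.H18.ProjSpaceH0
import Groth.Prelude.Def_Coh

/-!
The structure map `P^n_R ⟶ Spec R` on global sections (helper18).
-/

set_option autoImplicit false
universe u

open CategoryTheory CategoryTheory.Limits AlgebraicGeometry TopologicalSpace Opposite
  HomogeneousLocalization

namespace Groth.Agent.H18.PSL

theorem topIso_inv_appTop (X : Scheme.{u}) :
    X.topIso.inv.appTop = X.presheaf.map
      (homOfLE (by rw [Scheme.Opens.ι_image_top]) : (⊤ : X.Opens) ⟶ (⊤ : X.Opens).ι ''ᵁ ⊤).op := by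
  have h := congr_arg Scheme.Hom.appTop X.toIso_inv_ι
  rw [Scheme.Hom.comp_appTop, Scheme.Opens.ι_appTop] at h
  simp only [Scheme.Hom.id_appTop] at h
  have h2 : X.presheaf.map
      (homOfLE (by rw [Scheme.Opens.ι_image_top]) : (⊤ : X.Opens) ⟶ (⊤ : X.Opens).ι ''ᵁ ⊤).op ≫
      X.presheaf.map (homOfLE (by rw [Scheme.Opens.ι_image_top]) :
        (⊤ : X.Opens).ι ''ᵁ ⊤ ⟶ (⊤ : X.Opens)).op = 𝟙 _ := by
    rw [← Functor.map_comp, ← op_comp]
    exact X.presheaf.map_id _
  calc X.topIso.inv.appTop = (X.presheaf.map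
      (homOfLE (by rw [Scheme.Opens.ι_image_top]) : (⊤ : X.Opens) ⟶ (⊤ : X.Opens).ι ''ᵁ ⊤).op ≫
      X.presheaf.map (homOfLE (by rw [Scheme.Opens.ι_image_top]) :
        (⊤ : X.Opens).ι ''ᵁ ⊤ ⟶ (⊤ : X.Opens)).op) ≫ X.topIso.inv.appTop := by
        rw [h2]; exact (Category.id_comp _).symm
    _ = _ := by
        rw [Category.assoc]
        erw [h]
        exact Category.comp_id _

theorem presheaf_map_comp3 {X : Scheme.{u}} {U1 U2 U3 U4 : X.Opens} (a : op U1 ⟶ op U2)
    (b : op U2 ⟶ op U3) (c : op U3 ⟶ op U4) (d : op U1 ⟶ op U4) :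
    X.presheaf.map a ≫ X.presheaf.map b ≫ X.presheaf.map c = X.presheaf.map d := by
  rw [← Functor.map_comp, ← Functor.map_comp]; congr 1

section general

variable {σ A : Type u} [CommRing A] [SetLike σ A] [AddSubgroupClass σ A] (𝒜 : ℕ → σ)
  [GradedRing 𝒜]

theorem toSpecZero_appTop :
    (Scheme.ΓSpecIso (.of (𝒜 0))).inv ≫ (Proj.toSpecZero 𝒜).appTop =
      CommRingCat.ofHom (fromZeroRingHom 𝒜 _) ≫ Proj.awayToSection 𝒜 1 ≫
        (Proj 𝒜).presheaf.map (eqToHom (by rw [Proj.basicOpen_one])).op := by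
  rw [Proj.toSpecZero]
  simp only [Scheme.Hom.comp_appTop]
  have h1 : (Proj.basicOpenToSpec 𝒜 1).appTop = _ := Proj.basicOpenToSpec_app_top 𝒜 1
  rw [h1]
  simp only [Category.assoc]
  rw [← Scheme.ΓSpecIso_inv_naturality_assoc, Iso.inv_hom_id_assoc]
  congr 2
  rw [Scheme.isoOfEq_inv, Scheme.homOfLE_appTop, topIso_inv_appTop, Scheme.Opens.topIso_inv]
  exact presheaf_map_comp3 _ _ _ _

/-- the value of the global function attached to `a ∈ 𝒜 0` is `a / 1` at each point -/
theorem toSpecZero_appTop_val (a : 𝒜 0) (x : Proj 𝒜) :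
    (((Proj.toSpecZero 𝒜).appTop.hom ((Scheme.ΓSpecIso (.of (𝒜 0))).inv.hom a)).1
      ⟨x, trivial⟩).val =
      Localization.mk a.1 (1 : x.asHomogeneousIdeal.toIdeal.primeCompl) := by
  have h := congrArg (fun f => f.hom a) (toSpecZero_appTop 𝒜)
  dsimp only at h
  rw [CommRingCat.hom_comp, RingHom.comp_apply] at h
  rw [h]
  rfl

end general

variable (n : ℕ) (R : Type u) [CommRing R]

/-- the value of the global function attached to `r : R` on `P^n_R` is `C r / 1` at each point -/
theorem toGlobal_val (r : R) (x : CohB1.ProjSpace n R) :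
    ((Coh.toGlobal (CohB1.ProjSpace.toSpec n R) r).1 ⟨x, trivial⟩).val =
      Localization.mk (MvPolynomial.C r) (1 : x.asHomogeneousIdeal.toIdeal.primeCompl) := by
  have h : Coh.toGlobal (CohB1.ProjSpace.toSpec n R) r =
      (Proj.toSpecZero (CohB1.polyGrading n R)).appTop.hom
        ((Scheme.ΓSpecIso (.of (CohB1.polyGrading n R 0))).inv.hom
          (algebraMap R (CohB1.polyGrading n R 0) r)) := by
    have h2 := congrArg (fun f => f.hom r) (Scheme.ΓSpecIso_inv_naturality
      (CommRingCat.ofHom (algebraMap R (CohB1.polyGrading n R 0))))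
    dsimp only at h2
    rw [CommRingCat.hom_comp, CommRingCat.hom_comp, RingHom.comp_apply, RingHom.comp_apply] at h2
    change ((Proj.toSpecZero (CohB1.polyGrading n R) ≫ Spec.map (CommRingCat.ofHom
      (algebraMap R (CohB1.polyGrading n R 0)))).appTop).hom
        ((Scheme.ΓSpecIso (.of R)).inv.hom r) = _
    rw [Scheme.Hom.comp_appTop, CommRingCat.hom_comp, RingHom.comp_apply]
    exact congrArg (Proj.toSpecZero (CohB1.polyGrading n R)).appTop.hom h2.symm
  exact (congrArg (fun s : Γ(Proj (CohB1.polyGrading n R), ⊤) => (s.1 ⟨x, trivial⟩).val) h).trans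
    (toSpecZero_appTop_val (CohB1.polyGrading n R) (algebraMap R (CohB1.polyGrading n R 0) r) x)

/-- `Coh.toGlobal`, typed as a section of the structure sheaf of `Proj` -/
noncomputable def tg (r : R) :
    Γ(Proj (CohB1.polyGrading n R), (⊤ : (CohB1.ProjSpace n R).Opens)) :=
  Coh.toGlobal (CohB1.ProjSpace.toSpec n R) r

theorem tg_eq (r : R) : tg n R r = Coh.toGlobal (CohB1.ProjSpace.toSpec n R) r := rfl

theorem sval_smul {d : ℤ} {W : (CohB1.ProjSpace n R).Opens}
    (r : Γ(Proj (CohB1.polyGrading n R), W))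
    (s : Γ(Twist.twist (CohB1.polyGrading n R) d, W)) (z : W) :
    sval n R (r • s) z = (r.1 z).val * sval n R s z :=
  twist_smul_val (CohB1.polyGrading n R) d W r s z

theorem sval_gsec (d : ℕ) (m : CohB1.polyGrading n R d) (z : (⊤ : (CohB1.ProjSpace n R).Opens)) :
    sval n R (gsec n R d m) z =
      Localization.mk m.1 (1 : z.1.asHomogeneousIdeal.toIdeal.primeCompl) := rfl

/-- the scalar action of `r : R` on the global sections `m / 1` -/
theorem toGlobal_smul_gsec (d : ℕ) (r : R) (m : CohB1.polyGrading n R d) :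
    tg n R r • gsec n R d m = gsec n R d (r • m) := by
  refine sval_ext n R _ _ fun z => ?_
  rw [sval_smul, sval_gsec, sval_gsec]
  have h := toGlobal_val n R r z.1
  refine (congrArg (· * Localization.mk m.1
    (1 : z.1.asHomogeneousIdeal.toIdeal.primeCompl)) h).trans ?_
  rw [Localization.mk_mul, one_mul]
  congr 1
  change MvPolynomial.C r * m.1 = r • m.1
  rw [MvPolynomial.C_mul']

theorem toGlobal_bijective :
    Function.Bijective (Coh.toGlobal (CohB1.ProjSpace.toSpec n R)) := by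
  have h1 : (1 : MvPolynomial (Fin (n + 1)) R) ∈ CohB1.polyGrading n R 0 :=
    SetLike.GradedOne.one_mem
  have hmul : ∀ f : Γ(Proj (CohB1.polyGrading n R), (⊤ : (CohB1.ProjSpace n R).Opens)),
      ∀ z, sval n R (f • gsec n R 0 ⟨1, h1⟩) z = (f.1 z).val := by
    intro f z
    rw [sval_smul, sval_gsec]
    have : Localization.mk (1 : MvPolynomial (Fin (n + 1)) R)
        (1 : z.1.asHomogeneousIdeal.toIdeal.primeCompl) = 1 := Localization.mk_one
    rw [this, mul_one]
  have hC : ∀ r : R, MvPolynomial.C r ∈ CohB1.polyGrading n R 0 := fun r =>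
    (MvPolynomial.mem_homogeneousSubmodule _ _).mpr (MvPolynomial.isHomogeneous_C _ r)
  have key : ∀ r : R, tg n R r • gsec n R 0 ⟨1, h1⟩ = gsec n R 0 ⟨MvPolynomial.C r, hC r⟩ := by
    intro r
    rw [toGlobal_smul_gsec]
    congr 1
    apply Subtype.ext
    change r • (1 : MvPolynomial (Fin (n + 1)) R) = MvPolynomial.C r
    rw [MvPolynomial.smul_eq_C_mul, mul_one]
  constructor
  · intro r r' h
    have h2 : gsec n R 0 ⟨MvPolynomial.C r, hC r⟩ = gsec n R 0 ⟨MvPolynomial.C r', hC r'⟩ := by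
      rw [← key, ← key, tg_eq, tg_eq, h]
    have h3 := congrArg Subtype.val (gsec_injective n R 0 h2)
    exact MvPolynomial.C_injective _ _ h3
  · intro f0
    let f : Γ(Proj (CohB1.polyGrading n R), (⊤ : (CohB1.ProjSpace n R).Opens)) := f0
    obtain ⟨m, hm⟩ := gsec_surjective n R 0 (f • gsec n R 0 ⟨1, h1⟩)
    obtain ⟨r, hr⟩ : ∃ r : R, MvPolynomial.C r = m.1 := by
      have hm2 := m.2
      change m.1 ∈ MvPolynomial.homogeneousSubmodule (Fin (n + 1)) R 0 at hm2
      rw [MvPolynomial.homogeneousSubmodule_zero, Submodule.mem_one] at hm2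
      obtain ⟨y, hy⟩ := hm2
      exact ⟨y, hy⟩
    refine ⟨r, ?_⟩
    refine projSection_ext (CohB1.polyGrading n R) (tg n R r) f fun z => ?_
    rw [← hmul, ← hmul, key, ← hm]
    congr 2
    exact Subtype.ext hr

end Groth.Agent.H18.PSL
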