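import Groth.Agent.H18.ProjSpaceGlobal
import Groth.Agent.H18.HH0Sections

set_option autoImplicit false
universe u

open CategoryTheory CategoryTheory.Limits AlgebraicGeometry TopologicalSpace Opposite

namespace Groth.Agent.H18.PSL

variable (n : ℕ) (R : Type u) [CommRing R]

theorem gsec_add (d : ℕ) (m m' : CohB1.polyGrading n R d) :
    gsec n R d (m + m') = gsec n R d m + gsec n R d m' := by
  refine sval_ext n R _ _ fun z => ?_
  rw [sval_add, sval_gsec, sval_gsec, sval_gsec]
  exact (Localization.add_mk_self _ _ _).symm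

/-- `H^0(P^n_R, O(d))` is the module of degree `d` forms -/
theorem nonempty_HH0_linearEquiv (d : ℕ) :
    Nonempty (Coh.HH (CohB1.ProjSpace n R) (Twist.twistProjSpace n R (d : ℤ)) 0 ≃ₗ[R]
      ↥(MvPolynomial.homogeneousSubmodule (Fin (n + 1)) R d)) := by
  let e := HH0.equiv (X := CohB1.ProjSpace n R) (Twist.twistProjSpace n R (d : ℤ))
  let φ : ↥(MvPolynomial.homogeneousSubmodule (Fin (n + 1)) R d) →ₗ[R]
      Coh.HH (CohB1.ProjSpace n R) (Twist.twistProjSpace n R (d : ℤ)) 0 :=
    { toFun := fun m => e.symm (gsec n R d m)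
      map_add' := fun m m' => by
        rw [gsec_add]
        exact map_add e.symm _ _
      map_smul' := fun r m => by
        apply e.injective
        rw [AddEquiv.apply_symm_apply, RingHom.id_apply, HH0.smul_def', HH0.equiv_smul,
          AddEquiv.apply_symm_apply]
        exact (toGlobal_smul_gsec n R d r m).symm }
  have hφ : Function.Bijective φ := by
    have : (φ : _ → _) = e.symm ∘ gsec n R d := rfl
    rw [this]
    exact e.symm.bijective.comp (gsec_bijective n R d)
  exact ⟨(LinearEquiv.ofBijective φ hφ).symm⟩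

end Groth.Agent.H18.PSL
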