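import Groth.Prelude.Def_GrMod2

set_option autoImplicit false
universe u

open CategoryTheory CategoryTheory.Limits AlgebraicGeometry TopologicalSpace Opposite

namespace Groth.Agent.H18

section

variable {R A : Type u} [CommRing R] [CommRing A] [Algebra R A]
variable (𝒜 : ℕ → Submodule R A) [GradedAlgebra 𝒜]

/-- The twisting sheaf `O(n)` is *definitionally* `A(n)~` (since `Localization S` is
`LocalizedModule S A` reducibly and all the structure agrees by `rfl`). -/
theorem twist_eq_tilde (n : ℤ) : Twist.twist 𝒜 n = GrTilde.tilde 𝒜 𝒜 n := rfl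

theorem twistAt_eq_tildeAt (n : ℤ) (x : ProjectiveSpectrum 𝒜) (q : Twist.Loc 𝒜 x) :
    q ∈ Twist.twistAt 𝒜 n x ↔ q ∈ GrTilde.tildeAt 𝒜 𝒜 n x := Iff.rfl

theorem sectN_eq_sect (n : ℤ) (U : (Opens (ProjectiveSpectrum.top 𝒜))ᵒᵖ) :
    (Twist.sectN (𝒜 := 𝒜) n U : Type u) = (GrTilde.sect 𝒜 𝒜 n U : Type u) := rfl

end

end Groth.Agent.H18
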