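import Groth.Agent.H18.LauCoeff
import Groth.Agent.H18.TwistTriv
import Groth.Agent.H18.TwistTilde
import Groth.Agent.H18.GrModBasic
import Groth.Agent.S3586
import Groth.Prelude.Def_CohB1
import Groth.Prelude.Def_Twist2

/-!
Sections of `O(d)` over monomial basic opens of projective space, and their Laurent
coefficients (helper18).
-/

set_option autoImplicit false
universe u

open CategoryTheory CategoryTheory.Limits AlgebraicGeometry TopologicalSpace Opposite MvPolynomial

namespace Groth.Agent.H18.PSL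

variable (n : ℕ) (R : Type u) [CommRing R]

/-- the monomial `T^e` -/
noncomputable def mono (e : Fin (n + 1) →₀ ℕ) : MvPolynomial (Fin (n + 1)) R := monomial e 1

theorem mono_mem (e : Fin (n + 1) →₀ ℕ) : mono n R e ∈ CohB1.polyGrading n R e.degree :=
  (mem_homogeneousSubmodule _ _).mpr (isHomogeneous_monomial 1 rfl)

theorem mono_mul (e e' : Fin (n + 1) →₀ ℕ) : mono n R e * mono n R e' = mono n R (e + e') := by
  rw [mono, mono, mono, monomial_mul, one_mul]

theorem mono_pow (e : Fin (n + 1) →₀ ℕ) (k : ℕ) : mono n R e ^ k = mono n R (k • e) := by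
  rw [mono, mono, monomial_pow, one_pow]

theorem mono_zero : mono n R 0 = 1 := rfl

/-- the basic open `D₊(T^e)` -/
noncomputable def monoOpen (e : Fin (n + 1) →₀ ℕ) : (CohB1.ProjSpace n R).Opens :=
  Proj.basicOpen (CohB1.polyGrading n R) (mono n R e)

theorem mem_monoOpen (e : Fin (n + 1) →₀ ℕ) (x : ProjectiveSpectrum (CohB1.polyGrading n R)) :
    x ∈ monoOpen n R e ↔ mono n R e ∉ x.asHomogeneousIdeal :=
  ProjectiveSpectrum.mem_basicOpen _ _ _


/-- the value of a section of `O(d)` at a point, in the localization -/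
noncomputable def sval {d : ℤ} {W : (CohB1.ProjSpace n R).Opens}
    (s : Γ(Twist.twist (CohB1.polyGrading n R) d, W)) (z : W) :
    Twist.Loc (CohB1.polyGrading n R) z.1 :=
  (((s : Twist.sectN (𝒜 := CohB1.polyGrading n R) d (op W)).1 z :
    Twist.twistAt (CohB1.polyGrading n R) d z.1) : Twist.Loc (CohB1.polyGrading n R) z.1)

theorem sval_ext {d : ℤ} {W : (CohB1.ProjSpace n R).Opens}
    (s t : Γ(Twist.twist (CohB1.polyGrading n R) d, W)) (h : ∀ z, sval n R s z = sval n R t z) :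
    s = t :=
  twist_sect_ext (CohB1.polyGrading n R) d W s t h

theorem sval_add {d : ℤ} {W : (CohB1.ProjSpace n R).Opens}
    (s t : Γ(Twist.twist (CohB1.polyGrading n R) d, W)) (z : W) :
    sval n R (s + t) z = sval n R s z + sval n R t z := rfl

theorem sval_zero {d : ℤ} {W : (CohB1.ProjSpace n R).Opens} (z : W) :
    sval n R (0 : Γ(Twist.twist (CohB1.polyGrading n R) d, W)) z = 0 := rfl

theorem sval_res {d : ℤ} {W W' : (CohB1.ProjSpace n R).Opens} (h : W' ≤ W)
    (s : Γ(Twist.twist (CohB1.polyGrading n R) d, W)) (z : W') :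
    sval n R (mres (Twist.twist (CohB1.polyGrading n R) d) h s) z = sval n R s ⟨z.1, h z.2⟩ := rfl

/-- `s = m / T^u` pointwise on `W` -/
def IsRep (d : ℤ) (W : (CohB1.ProjSpace n R).Opens)
    (s : Γ(Twist.twist (CohB1.polyGrading n R) d, W)) (m : MvPolynomial (Fin (n + 1)) R)
    (u : Fin (n + 1) →₀ ℕ) : Prop :=
  ∃ N : ℕ, m ∈ CohB1.polyGrading n R N ∧ (N : ℤ) = (u.degree : ℤ) + d ∧
    ∃ hW : ∀ x : ProjectiveSpectrum (CohB1.polyGrading n R), x ∈ W →
        mono n R u ∉ x.asHomogeneousIdeal,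
      ∀ z : W, sval n R s z = Localization.mk m ⟨mono n R u, hW z.1 z.2⟩

theorem exists_isRep (d : ℤ) (e : Fin (n + 1) →₀ ℕ) (he : 0 < e.degree)
    (s : Γ(Twist.twist (CohB1.polyGrading n R) d, monoOpen n R e)) :
    ∃ (k : ℕ) (m : MvPolynomial (Fin (n + 1)) R), IsRep n R d (monoOpen n R e) s m (k • e) := by
  obtain ⟨k, i, m, hi, hval⟩ := Groth.Agent.S3586.result (CohB1.polyGrading n R)
    (CohB1.polyGrading n R) d he (mono_mem n R e)
    (s : GrTilde.sect (CohB1.polyGrading n R) (CohB1.polyGrading n R) d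
      (op (ProjectiveSpectrum.basicOpen (CohB1.polyGrading n R) (mono n R e))))
  have hW : ∀ x : ProjectiveSpectrum (CohB1.polyGrading n R), x ∈ monoOpen n R e →
      mono n R (k • e) ∉ x.asHomogeneousIdeal := by
    intro x hx h
    rw [← mono_pow] at h
    exact (mem_monoOpen n R e x).mp hx (x.isPrime.mem_of_pow_mem k h)
  refine ⟨k, m.1, i, m.2, ?_, hW, fun z => ?_⟩
  · rw [hi, map_nsmul, smul_eq_mul]; push_cast; ring
  · refine (hval z).trans ?_
    change Localization.mk _ _ = Localization.mk _ _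
    congr 1
    exact Subtype.ext (mono_pow n R e k)


theorem IsRep.mul_eq {d : ℤ} {W W' : (CohB1.ProjSpace n R).Opens}
    {s : Γ(Twist.twist (CohB1.polyGrading n R) d, W)}
    {s' : Γ(Twist.twist (CohB1.polyGrading n R) d, W')}
    {m m' : MvPolynomial (Fin (n + 1)) R} {u u' : Fin (n + 1) →₀ ℕ}
    (h : IsRep n R d W s m u) (h' : IsRep n R d W' s' m' u') (hle : W' ≤ W)
    (hres : ∀ z : W', sval n R s' z = sval n R s ⟨z.1, hle z.2⟩)
    (e' : Fin (n + 1) →₀ ℕ) (he' : 0 < e'.degree) (hW' : W' = monoOpen n R e') :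
    mono n R u' * m = mono n R u * m' := by
  obtain ⟨N, hm, hN, hW, hval⟩ := h
  obtain ⟨N', hm', hN', hWp, hval'⟩ := h'
  have hdeg : u'.degree + N = u.degree + N' := by
    have : ((u'.degree + N : ℕ) : ℤ) = ((u.degree + N' : ℕ) : ℤ) := by push_cast; omega
    exact_mod_cast this
  have hM : mono n R u' * m - mono n R u * m' ∈ CohB1.polyGrading n R (u'.degree + N) :=
    Submodule.sub_mem _ (SetLike.mul_mem_graded (mono_mem n R u') hm)
      (hdeg ▸ SetLike.mul_mem_graded (mono_mem n R u) hm')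
  obtain ⟨K, hK⟩ := exists_pow_smul_eq_zero_of_forall_localized_eq_zero (CohB1.polyGrading n R)
    (CohB1.polyGrading n R) hM he' (mono_mem n R e') (by
      intro x hx
      have hxW' : x ∈ W' := by rw [hW']; exact (mem_monoOpen n R e' x).mpr hx
      have h1 := (hval' ⟨x, hxW'⟩).symm.trans ((hres ⟨x, hxW'⟩).trans (hval ⟨x, hle hxW'⟩))
      rw [Localization.mk_eq_mk_iff, Localization.r_iff_exists] at h1
      obtain ⟨c, hc⟩ := h1
      refine ⟨c.1, c.2, ?_⟩
      simp only [smul_eq_mul] at hc ⊢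
      rw [mul_sub]
      exact sub_eq_zero.mpr hc.symm)
  rw [mono_pow, smul_eq_mul] at hK
  exact sub_eq_zero.mp (Lau.eq_zero_of_monomial_mul_eq_zero hK)


theorem exists_isRep' (d : ℤ) (e : Fin (n + 1) →₀ ℕ) (he : 0 < e.degree)
    (W : (CohB1.ProjSpace n R).Opens) (hW : W = monoOpen n R e)
    (s : Γ(Twist.twist (CohB1.polyGrading n R) d, W)) :
    ∃ (k : ℕ) (m : MvPolynomial (Fin (n + 1)) R), IsRep n R d W s m (k • e) := by
  subst hW
  exact exists_isRep n R d e he s

/-- the Laurent expansion of a section of `O(d)` over a monomial basic open -/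
noncomputable def lauSect (d : ℤ) (e : Fin (n + 1) →₀ ℕ) (he : 0 < e.degree)
    (W : (CohB1.ProjSpace n R).Opens) (hW : W = monoOpen n R e)
    (s : Γ(Twist.twist (CohB1.polyGrading n R) d, W)) : (Fin (n + 1) → ℤ) → R :=
  Lau.lau (exists_isRep' n R d e he W hW s).choose_spec.choose
    ((exists_isRep' n R d e he W hW s).choose • e)

theorem lauSect_eq_of_isRep {d : ℤ} {e : Fin (n + 1) →₀ ℕ} (he : 0 < e.degree)
    {W : (CohB1.ProjSpace n R).Opens} (hW : W = monoOpen n R e)
    {s : Γ(Twist.twist (CohB1.polyGrading n R) d, W)} {m : MvPolynomial (Fin (n + 1)) R}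
    {u : Fin (n + 1) →₀ ℕ} (h : IsRep n R d W s m u) :
    lauSect n R d e he W hW s = Lau.lau m u := by
  have h0 := (exists_isRep' n R d e he W hW s).choose_spec.choose_spec
  exact Lau.lau_eq_of_mul_eq (IsRep.mul_eq n R h0 h le_rfl (fun _ => rfl) e he hW)

theorem IsRep.res {d : ℤ} {W W' : (CohB1.ProjSpace n R).Opens} (hle : W' ≤ W)
    {s : Γ(Twist.twist (CohB1.polyGrading n R) d, W)} {m : MvPolynomial (Fin (n + 1)) R}
    {u : Fin (n + 1) →₀ ℕ} (h : IsRep n R d W s m u) :
    IsRep n R d W' (mres (Twist.twist (CohB1.polyGrading n R) d) hle s) m u := by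
  obtain ⟨N, hm, hN, hW, hval⟩ := h
  exact ⟨N, hm, hN, fun x hx => hW x (hle hx), fun z => hval ⟨z.1, hle z.2⟩⟩

theorem lauSect_res {d : ℤ} {e e' : Fin (n + 1) →₀ ℕ} (he : 0 < e.degree) (he' : 0 < e'.degree)
    {W W' : (CohB1.ProjSpace n R).Opens} (hW : W = monoOpen n R e) (hW' : W' = monoOpen n R e')
    (hle : W' ≤ W) (s : Γ(Twist.twist (CohB1.polyGrading n R) d, W)) :
    lauSect n R d e' he' W' hW' (mres (Twist.twist (CohB1.polyGrading n R) d) hle s) =
      lauSect n R d e he W hW s := by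
  have h0 := (exists_isRep' n R d e he W hW s).choose_spec.choose_spec
  rw [lauSect_eq_of_isRep n R he' hW' (h0.res n R hle)]
  rfl

theorem IsRep.add {d : ℤ} {W : (CohB1.ProjSpace n R).Opens}
    {s s' : Γ(Twist.twist (CohB1.polyGrading n R) d, W)} {m m' : MvPolynomial (Fin (n + 1)) R}
    {u u' : Fin (n + 1) →₀ ℕ} (h : IsRep n R d W s m u) (h' : IsRep n R d W s' m' u') :
    IsRep n R d W (s + s') (mono n R u' * m + mono n R u * m') (u + u') := by
  obtain ⟨N, hm, hN, hW, hval⟩ := h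
  obtain ⟨N', hm', hN', hWp, hval'⟩ := h'
  have hdeg : u'.degree + N = u.degree + N' := by
    have : ((u'.degree + N : ℕ) : ℤ) = ((u.degree + N' : ℕ) : ℤ) := by push_cast; omega
    exact_mod_cast this
  have hWW : ∀ x : ProjectiveSpectrum (CohB1.polyGrading n R), x ∈ W →
      mono n R (u + u') ∉ x.asHomogeneousIdeal := by
    intro x hx hh
    rw [← mono_mul] at hh
    exact (x.isPrime.mem_or_mem hh).elim (hW x hx) (hWp x hx)
  refine ⟨u'.degree + N, Submodule.add_mem _ (SetLike.mul_mem_graded (mono_mem n R u') hm)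
      (hdeg ▸ SetLike.mul_mem_graded (mono_mem n R u) hm'), ?_, hWW, fun z => ?_⟩
  · rw [map_add]; push_cast; omega
  · rw [sval_add, hval z, hval' z, Localization.add_mk, Localization.mk_eq_mk_iff,
      Localization.r_iff_exists]
    refine ⟨1, ?_⟩
    simp only [OneMemClass.coe_one, one_mul, Submonoid.coe_mul, ← mono_mul]
    ring

theorem lauSect_add {d : ℤ} {e : Fin (n + 1) →₀ ℕ} (he : 0 < e.degree)
    {W : (CohB1.ProjSpace n R).Opens} (hW : W = monoOpen n R e)
    (s s' : Γ(Twist.twist (CohB1.polyGrading n R) d, W)) :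
    lauSect n R d e he W hW (s + s') = lauSect n R d e he W hW s + lauSect n R d e he W hW s' := by
  obtain ⟨k, m, h0⟩ := exists_isRep' n R d e he W hW s
  obtain ⟨k', m', h0'⟩ := exists_isRep' n R d e he W hW s'
  rw [lauSect_eq_of_isRep n R he hW (h0.add n R h0'), lauSect_eq_of_isRep n R he hW h0,
    lauSect_eq_of_isRep n R he hW h0', Lau.lau_add]
  congr 1
  · refine Lau.lau_eq_of_mul_eq ?_
    rw [mono, ← mul_assoc, monomial_mul, one_mul]
  · refine Lau.lau_eq_of_mul_eq ?_
    rw [mono, ← mul_assoc, monomial_mul, one_mul, add_comm (k' • e) (k • e)]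

theorem lauSect_zero {d : ℤ} {e : Fin (n + 1) →₀ ℕ} (he : 0 < e.degree)
    {W : (CohB1.ProjSpace n R).Opens} (hW : W = monoOpen n R e) :
    lauSect n R d e he W hW 0 = 0 := by
  have h := lauSect_add n R he hW (0 : Γ(Twist.twist (CohB1.polyGrading n R) d, W)) 0
  rw [add_zero] at h
  funext a
  have h1 := congrFun h a
  simp only [Pi.add_apply, Pi.zero_apply] at h1 ⊢
  exact left_eq_add.mp h1

theorem lauSect_injective {d : ℤ} {e : Fin (n + 1) →₀ ℕ} (he : 0 < e.degree)
    {W : (CohB1.ProjSpace n R).Opens} (hW : W = monoOpen n R e)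
    (s : Γ(Twist.twist (CohB1.polyGrading n R) d, W)) (h : lauSect n R d e he W hW s = 0) :
    s = 0 := by
  obtain ⟨N, hm, hN, hWn, hval⟩ := (exists_isRep' n R d e he W hW s).choose_spec.choose_spec
  have hm0 := Lau.eq_zero_of_lau_eq_zero h
  refine sval_ext n R _ _ fun z => ?_
  rw [hval z, hm0, Localization.mk_zero, sval_zero]

theorem lauSect_support_finite {d : ℤ} {e : Fin (n + 1) →₀ ℕ} (he : 0 < e.degree)
    {W : (CohB1.ProjSpace n R).Opens} (hW : W = monoOpen n R e)
    (s : Γ(Twist.twist (CohB1.polyGrading n R) d, W)) :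
    (Function.support (lauSect n R d e he W hW s)).Finite :=
  Lau.lau_support_finite _ _

theorem lauSect_ne_zero_imp {d : ℤ} {e : Fin (n + 1) →₀ ℕ} (he : 0 < e.degree)
    {W : (CohB1.ProjSpace n R).Opens} (hW : W = monoOpen n R e)
    (s : Γ(Twist.twist (CohB1.polyGrading n R) d, W)) {a : Fin (n + 1) → ℤ}
    (h : lauSect n R d e he W hW s a ≠ 0) : (∑ i, a i = d) ∧ ∀ i, a i < 0 → 0 < e i := by
  obtain ⟨N, hm, hN, hWn, hval⟩ := (exists_isRep' n R d e he W hW s).choose_spec.choose_spec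
  obtain ⟨h1, h2⟩ := Lau.lau_ne_zero_imp ((mem_homogeneousSubmodule _ _).mp hm) h
  refine ⟨by omega, fun i hi => ?_⟩
  have h3 := h2 i hi
  rw [Finsupp.smul_apply, smul_eq_mul] at h3
  rcases Nat.eq_zero_or_pos (e i) with h0 | h0
  · rw [h0, mul_zero] at h3
    exact absurd h3 (lt_irrefl 0)
  · exact h0


theorem lauSect_inj {d : ℤ} {e : Fin (n + 1) →₀ ℕ} (he : 0 < e.degree)
    {W : (CohB1.ProjSpace n R).Opens} (hW : W = monoOpen n R e)
    (s t : Γ(Twist.twist (CohB1.polyGrading n R) d, W))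
    (h : lauSect n R d e he W hW s = lauSect n R d e he W hW t) : s = t := by
  have h1 := lauSect_add n R he hW (s - t) t
  rw [sub_add_cancel, h] at h1
  have h2 : lauSect n R d e he W hW (s - t) = 0 := by
    funext a
    have := congrFun h1 a
    simp only [Pi.add_apply, Pi.zero_apply] at this ⊢
    exact (add_eq_right.mp this.symm)
  exact sub_eq_zero.mp (lauSect_injective n R he hW _ h2)

theorem exists_lauSect_eq {d : ℤ} {e : Fin (n + 1) →₀ ℕ} (he : 0 < e.degree)
    {W : (CohB1.ProjSpace n R).Opens} (hW : W = monoOpen n R e)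
    (r : (Fin (n + 1) → ℤ) → R) (hr : (Function.support r).Finite)
    (h : ∀ a, r a ≠ 0 → (∑ i, a i = d) ∧ ∀ i, a i < 0 → 0 < e i) :
    ∃ s : Γ(Twist.twist (CohB1.polyGrading n R) d, W), lauSect n R d e he W hW s = r := by
  obtain ⟨k, N, m, hN, hm, hl⟩ := Lau.exists_lau_eq r hr e d (Or.inr he) h
  have hWk : ∀ x : ProjectiveSpectrum (CohB1.polyGrading n R), x ∈ W →
      mono n R (k • e) ∉ x.asHomogeneousIdeal := by
    intro x hx hh
    rw [← mono_pow] at hh
    rw [hW] at hx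
    exact (mem_monoOpen n R e x).mp hx (x.isPrime.mem_of_pow_mem k hh)
  have hmN : m ∈ CohB1.polyGrading n R N := (mem_homogeneousSubmodule _ _).mpr hm
  have hdeg : (N : ℤ) = ((k • e).degree : ℤ) + d := by
    rw [hN, map_nsmul, smul_eq_mul]; push_cast; ring
  refine ⟨fracTw (CohB1.polyGrading n R) hmN (mono_mem n R (k • e)) hdeg W hWk, ?_⟩
  rw [lauSect_eq_of_isRep n R he hW (m := m) (u := k • e) ⟨N, hmN, hdeg, hWk, fun z => rfl⟩]
  exact hl

theorem mem_monoOpen_iff (e : Fin (n + 1) →₀ ℕ)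
    (x : ProjectiveSpectrum (CohB1.polyGrading n R)) :
    x ∈ monoOpen n R e ↔ ∀ i, 0 < e i → (X i : MvPolynomial (Fin (n + 1)) R) ∉ x.asHomogeneousIdeal := by
  rw [mem_monoOpen, mono, monomial_eq, C_1, one_mul, Finsupp.prod]
  have hp : x.asHomogeneousIdeal.toIdeal.IsPrime := x.isPrime
  constructor
  · intro h i hi hX
    apply h
    change _ ∈ x.asHomogeneousIdeal.toIdeal
    rw [Ideal.IsPrime.prod_mem_iff]
    exact ⟨i, Finsupp.mem_support_iff.mpr (Nat.pos_iff_ne_zero.mp hi),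
      Ideal.pow_mem_of_mem _ hX _ hi⟩
  · intro h hh
    change _ ∈ x.asHomogeneousIdeal.toIdeal at hh
    rw [Ideal.IsPrime.prod_mem_iff] at hh
    obtain ⟨i, hi, hmem⟩ := hh
    exact h i (Nat.pos_of_ne_zero (Finsupp.mem_support_iff.mp hi)) (hp.mem_of_pow_mem _ hmem)

theorem monoOpen_le_iff (e e' : Fin (n + 1) →₀ ℕ) (h : ∀ i, 0 < e i → 0 < e' i) :
    monoOpen n R e' ≤ monoOpen n R e := by
  intro x hx
  exact (mem_monoOpen_iff n R e x).mpr fun i hi => (mem_monoOpen_iff n R e' x).mp hx i (h i hi)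

theorem monoOpen_eq_of_support_eq (e e' : Fin (n + 1) →₀ ℕ) (h : ∀ i, 0 < e i ↔ 0 < e' i) :
    monoOpen n R e' = monoOpen n R e :=
  le_antisymm (monoOpen_le_iff n R e e' fun i => (h i).mp)
    (monoOpen_le_iff n R e' e fun i => (h i).mpr)

end Groth.Agent.H18.PSL
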