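import Groth.Agent.H18.ProjSpaceH0

set_option autoImplicit false
universe u

open CategoryTheory CategoryTheory.Limits AlgebraicGeometry TopologicalSpace Opposite MvPolynomial
  HomogeneousLocalization

namespace Groth.Agent.H18.PSL

variable (n : ℕ) (R : Type u) [CommRing R]

/-- evaluation at the point `(1, …, 1)`, on the degree zero localization at `T_0` -/
noncomputable def evalOne :
    HomogeneousLocalization.Away (CohB1.polyGrading n R) (X (0 : Fin (n + 1))) →+* R :=
  (IsLocalization.Away.lift (S := Localization.Away (X (0 : Fin (n + 1)) : MvPolynomial (Fin (n + 1)) R))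
    (X (0 : Fin (n + 1)) : MvPolynomial (Fin (n + 1)) R)
    (g := (MvPolynomial.eval (fun _ : Fin (n + 1) => (1 : R))))
    (by rw [eval_X]; exact isUnit_one)).comp
    (algebraMap (HomogeneousLocalization.Away (CohB1.polyGrading n R) (X (0 : Fin (n + 1))))
      (Localization.Away (X (0 : Fin (n + 1)) : MvPolynomial (Fin (n + 1)) R)))

theorem X_zero_mem : (X (0 : Fin (n + 1)) : MvPolynomial (Fin (n + 1)) R) ∈
    CohB1.polyGrading n R 1 :=
  (mem_homogeneousSubmodule _ _).mpr (isHomogeneous_X R (0 : Fin (n + 1)))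

theorem evalOne_fromZero (r : R) :
    evalOne n R (fromZeroRingHom (CohB1.polyGrading n R) _
      (algebraMap R (CohB1.polyGrading n R 0) r)) = r := by
  unfold evalOne
  rw [RingHom.comp_apply]
  have h1 : algebraMap (HomogeneousLocalization.Away (CohB1.polyGrading n R) (X (0 : Fin (n + 1))))
      (Localization.Away (X (0 : Fin (n + 1)) : MvPolynomial (Fin (n + 1)) R))
      (fromZeroRingHom (CohB1.polyGrading n R) _ (algebraMap R (CohB1.polyGrading n R 0) r)) =
      algebraMap (MvPolynomial (Fin (n + 1)) R) _ (C r) := by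
    exact Localization.mk_one_eq_algebraMap (M := Submonoid.powers
      (X (0 : Fin (n + 1)) : MvPolynomial (Fin (n + 1)) R)) (C r)
  rw [h1, IsLocalization.Away.lift_eq, eval_C]

/-- a section of the structure morphism of projective space -/
noncomputable def sectionOne : Spec (CommRingCat.of R) ⟶ Proj (CohB1.polyGrading n R) :=
  Spec.map (CommRingCat.ofHom (evalOne n R)) ≫
    Proj.awayι (CohB1.polyGrading n R) (X (0 : Fin (n + 1)))
      (X_zero_mem n R) Nat.one_pos

theorem sectionOne_toSpec' : sectionOne n R ≫ (Proj.toSpecZero (CohB1.polyGrading n R) ≫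
    Spec.map (CommRingCat.ofHom (algebraMap R (CohB1.polyGrading n R 0)))) = 𝟙 _ := by
  unfold sectionOne
  have h0 := Proj.awayι_toSpecZero (CohB1.polyGrading n R) (X (0 : Fin (n + 1)))
    (X_zero_mem n R) Nat.one_pos
  rw [Category.assoc, reassoc_of% h0, ← Spec.map_comp, ← Spec.map_comp]
  have : CommRingCat.ofHom (algebraMap R (CohB1.polyGrading n R 0)) ≫
      CommRingCat.ofHom (fromZeroRingHom (CohB1.polyGrading n R) _) ≫
        CommRingCat.ofHom (evalOne n R) = 𝟙 _ := by
    ext r
    exact evalOne_fromZero n R r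
  rw [Category.assoc, this, Spec.map_id]

theorem sectionOne_toSpec :
    (sectionOne n R : Spec (CommRingCat.of R) ⟶ CohB1.ProjSpace n R) ≫
      CohB1.ProjSpace.toSpec n R = 𝟙 _ :=
  sectionOne_toSpec' n R

instance surjective_toSpec : Surjective (CohB1.ProjSpace.toSpec n R) := by
  refine ⟨fun y => ⟨(sectionOne n R : Spec (CommRingCat.of R) ⟶ CohB1.ProjSpace n R).base y, ?_⟩⟩
  have h := congrArg (fun f => f.base y) (sectionOne_toSpec n R)
  exact h

end Groth.Agent.H18.PSL
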