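import Groth.Agent.H18.ProjSpaceCech
import Groth.Agent.H18.HH0Sections
import Groth.Agent.H18.TwistPow
import Groth.Agent.S0013
import Groth.Agent.S0022

/-!
Vanishing of the cohomology of `O(d)` on `P^n_R` outside the two classical ranges (helper18).
-/

set_option autoImplicit false
universe u

open CategoryTheory CategoryTheory.Limits AlgebraicGeometry TopologicalSpace Opposite MvPolynomial

namespace Groth.Agent.H18.PSL

open Groth.Agent.Lead.Cech Groth.Agent.H18.CechContract

variable (n : ℕ) (R : Type u) [CommRing R]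

instance isQCoh_twistProjSpace (d : ℤ) : Coh.IsQCoh (Twist.twistProjSpace n R d) :=
  tilde_isQuasicoherent (CohB1.polyGrading n R) (CohB1.polyGrading n R) d

theorem iSup_stdU : ⨆ i, stdU n R i = ⊤ := by
  refine eq_top_iff.mpr fun x _ => ?_
  obtain ⟨i, hi⟩ := exists_mem_stdO n R x
  exact Opens.mem_iSup.mpr ⟨ULift.up i, hi⟩

theorem isAffineOpen_iInf_stdU (s : Finset (ULift.{u} (Fin (n + 1)))) (hs : s.Nonempty) :
    IsAffineOpen (⨅ i ∈ s, stdU n R i) := by
  classical
  induction s using Finset.induction_on with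
  | empty => exact absurd hs Finset.not_nonempty_empty
  | insert a s ha ih =>
    rw [Finset.iInf_insert]
    rcases s.eq_empty_or_nonempty with rfl | hs'
    · simp only [Finset.notMem_empty, iInf_false, iInf_top, inf_top_eq]
      exact Lead.Coh.isAffineOpen_stdOpen n R a.down
    · exact Lead.Coh.isAffineOpen_inf_projSpace n R _ _
        (Lead.Coh.isAffineOpen_stdOpen n R a.down) (ih hs')

/-- vanishing in the degrees `1 ≤ q < n`, and in all degrees `q ≥ 1` when `-(n+1) < d` -/
theorem subsingleton_HH_succ (d : ℤ) (p : ℕ) (h : p + 2 ≤ n ∨ -((n : ℤ) + 1) < d) :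
    Subsingleton (Coh.HH (CohB1.ProjSpace n R) (Twist.twistProjSpace n R d) (p + 1)) := by
  obtain ⟨e⟩ := Groth.Agent.S0013.result (CohB1.ProjSpace n R) (stdU n R) (iSup_stdU n R)
    (isAffineOpen_iInf_stdU n R) (Twist.twistProjSpace n R d) (p + 1)
  have hz : IsZero (CohB1.cechH (stdU n R) (Twist.twistProjSpace n R d) (p + 1)) :=
    (cech_exactAt n R d p h).isZero_homology
  have := AddCommGrpCat.subsingleton_of_isZero hz
  exact e.symm.toEquiv.subsingleton

/-- `H^q(P^n_R, O(d)) = 0` unless `q = 0, d ≥ 0` or `q = n, d ≤ -(n+1)` -/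
theorem subsingleton_HH_twist (d : ℤ) (q : ℕ) (h₀ : ¬ (q = 0 ∧ 0 ≤ d))
    (hn : ¬ (q = n ∧ d ≤ -((n : ℤ) + 1))) :
    Subsingleton (Coh.HH (CohB1.ProjSpace n R) (Twist.twistProjSpace n R d) q) := by
  rcases Nat.eq_zero_or_pos q with rfl | hq
  · have hd : d < 0 := by
      by_contra hd
      exact h₀ ⟨rfl, by omega⟩
    have hn1 : 1 ≤ n := by
      by_contra hn0
      have : n = 0 := by omega
      subst this
      exact hn ⟨rfl, by push_cast; omega⟩
    refine ⟨fun x y => ?_⟩
    apply (HH0.equiv (X := CohB1.ProjSpace n R) (Twist.twistProjSpace n R d)).injective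
    exact (eq_zero_of_neg n R hn1 d hd _).trans (eq_zero_of_neg n R hn1 d hd _).symm
  · obtain ⟨p, rfl⟩ := Nat.exists_eq_succ_of_ne_zero (by omega : q ≠ 0)
    by_cases hpn : n < p + 1
    · exact Groth.Agent.S0022.result n R (Twist.twistProjSpace n R d) (p + 1) hpn
    · refine subsingleton_HH_succ n R d p ?_
      by_cases hp : p + 2 ≤ n
      · exact Or.inl hp
      · right
        have hpn' : p + 1 = n := by omega
        by_contra hd
        exact hn ⟨hpn', by omega⟩

/-- cohomology only depends on the isomorphism class of the module -/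
theorem subsingleton_HH_of_iso {X : Scheme.{u}} {M M' : X.Modules} (e : M ≅ M') (q : ℕ)
    (h : Subsingleton (Coh.HH X M q)) : Subsingleton (Coh.HH X M' q) := by
  refine ⟨fun x y => ?_⟩
  have key : ∀ z : Coh.HH X M' q, z = 0 := by
    intro z
    have h1 : (SheafOfModules.toSheaf X.ringCatSheaf).map e.inv ≫
        (SheafOfModules.toSheaf X.ringCatSheaf).map e.hom = 𝟙 _ := by
      have h0 : e.inv ≫ e.hom = 𝟙 M' := e.inv_hom_id
      exact ((SheafOfModules.toSheaf X.ringCatSheaf).map_comp e.inv e.hom).symm.trans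
        ((congrArg (SheafOfModules.toSheaf X.ringCatSheaf).map h0).trans
          ((SheafOfModules.toSheaf X.ringCatSheaf).map_id M'))
    have h2 := Sheaf.H.map_comp_apply ((SheafOfModules.toSheaf X.ringCatSheaf).map e.inv)
      ((SheafOfModules.toSheaf X.ringCatSheaf).map e.hom) (n := q) z
    rw [h1, Sheaf.H.map_id_apply] at h2
    rw [h2, Subsingleton.elim (Sheaf.H.map ((SheafOfModules.toSheaf X.ringCatSheaf).map e.inv) q z) 0,
      map_zero]
  rw [key x, key y]

/-- `H^q(P^n_R, O) = 0` for `q > 0` -/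
theorem subsingleton_HH_structure (q : ℕ) (hq : 0 < q) :
    Subsingleton (Coh.HH (CohB1.ProjSpace n R) (Coh.structureModule (CohB1.ProjSpace n R)) q) := by
  obtain ⟨e⟩ := nonempty_twist_zero_iso (CohB1.polyGrading n R)
  refine subsingleton_HH_of_iso e q ?_
  refine subsingleton_HH_twist n R 0 q (fun h => by omega) (fun h => ?_)
  have := h.2
  omega

end Groth.Agent.H18.PSL
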