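import Groth.Agent.H18.RestrictUnit
import Groth.Agent.H18.TwistTriv

set_option autoImplicit false
universe u

open CategoryTheory CategoryTheory.Limits AlgebraicGeometry TopologicalSpace Opposite

namespace Groth.Agent.H18

section

variable {X : Scheme.{u}}

/-- iterated version of `nonempty_restrict_iso_unit`: for an open `V` of the open subscheme `U` -/
theorem nonempty_restrict_restrict_iso_unit (M : X.Modules) (U : X.Opens) (V : (U : Scheme.{u}).Opens)
    (σ : Γ(M, U.ι ''ᵁ V))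
    (h : ∀ (W : X.Opens) (hW : W ≤ U.ι ''ᵁ V), Function.Bijective (fun r : Γ(X, W) => r • mres M hW σ)) :
    Nonempty ((M.restrict U.ι).restrict V.ι ≅
      (SheafOfModules.unit (V : Scheme.{u}).ringCatSheaf : (V : Scheme.{u}).Modules)) := by
  refine nonempty_restrict_iso_unit (M.restrict U.ι) V (σ : Γ(M.restrict U.ι, V)) ?_
  intro V' hV'
  have hb := h (U.ι ''ᵁ V') (U.ι.image_mono hV')
  have hb2 : Function.Bijective ((U.ι.appIso V').inv : Γ(U, V') → Γ(X, U.ι ''ᵁ V')) :=
    ConcreteCategory.bijective_of_isIso (U.ι.appIso V').inv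
  have : (fun r : Γ(U, V') => r • mres (M.restrict U.ι) hV' (σ : Γ(M.restrict U.ι, V))) =
      (fun r : Γ(X, U.ι ''ᵁ V') => r • mres M (U.ι.image_mono hV') σ) ∘
        ((U.ι.appIso V').inv : Γ(U, V') → Γ(X, U.ι ''ᵁ V')) := by
    funext r
    rfl
  rw [this]
  exact hb.comp hb2

end

section

variable {R A : Type u} [CommRing R] [CommRing A] [Algebra R A]
variable (𝒜 : ℕ → Submodule R A) [GradedAlgebra 𝒜]

/-- A nowhere vanishing fraction `a / b` of degree `e` on (the image of) an open `V` of an open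
subscheme `U` of `Proj` trivialises `O(e)|_U` over `V`. -/
theorem nonempty_twist_restrict_restrict_iso {i j : ℕ} {a b : A} (ha : a ∈ 𝒜 i) (hb : b ∈ 𝒜 j) {e : ℤ}
    (he : (i : ℤ) = j + e) (U : (Proj 𝒜).Opens) (V : (U : Scheme.{u}).Opens)
    (hVa : ∀ x : ProjectiveSpectrum 𝒜, x ∈ U.ι ''ᵁ V → a ∉ x.asHomogeneousIdeal)
    (hVb : ∀ x : ProjectiveSpectrum 𝒜, x ∈ U.ι ''ᵁ V → b ∉ x.asHomogeneousIdeal) :
    Nonempty (((Twist.twist 𝒜 e).restrict U.ι).restrict V.ι ≅
      (SheafOfModules.unit (V : Scheme.{u}).ringCatSheaf : (V : Scheme.{u}).Modules)) := by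
  refine nonempty_restrict_restrict_iso_unit (Twist.twist 𝒜 e) U V
    (fracTw 𝒜 ha hb he (U.ι ''ᵁ V) hVb) ?_
  intro W hW
  simp only [fracTw_res]
  exact ⟨smul_fracTw_injective 𝒜 ha hb he W (fun x hx => hVa x (hW hx)) (fun x hx => hVb x (hW hx)),
    smul_fracTw_surjective 𝒜 ha hb he W (fun x hx => hVa x (hW hx)) (fun x hx => hVb x (hW hx))⟩

end

end Groth.Agent.H18
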