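import Mathlib.Algebra.Category.ModuleCat.Presheaf.Sheafification
import Mathlib.CategoryTheory.Sites.LocallyBijective
import Groth.Prelude.Def_CohB1

set_option autoImplicit false
universe u v' u'
open CategoryTheory Limits Opposite

namespace Groth.Agent.H18

section

variable {C : Type u} [Category.{u} C] {J : GrothendieckTopology C} {R : Sheaf J RingCat.{u}}
  [HasWeakSheafify J AddCommGrpCat.{u}] [J.WEqualsLocallyBijective AddCommGrpCat.{u}]

/-- A locally bijective morphism from a presheaf of modules to a sheaf of modules induces an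
isomorphism from the sheafification. -/
theorem isIso_sheafificationHomEquiv_symm [J.HasSheafCompose (forget AddCommGrpCat.{u})] {P : PresheafOfModules.{u} R.obj} {F : SheafOfModules.{u} R}
    (g : P ⟶ F.val)
    (h1 : Presheaf.IsLocallyInjective J ((PresheafOfModules.toPresheaf R.obj).map g))
    (h2 : Presheaf.IsLocallySurjective J ((PresheafOfModules.toPresheaf R.obj).map g)) :
    IsIso ((PresheafOfModules.sheafificationHomEquiv (R := R) (𝟙 R.obj) (P := P) (F := F)).symm g) := by
  set f := (PresheafOfModules.sheafificationHomEquiv (R := R) (𝟙 R.obj) (P := P) (F := F)).symm g with hf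
  have fac : toSheafify J P.presheaf ≫ (PresheafOfModules.toPresheaf R.obj).map f.val =
      (PresheafOfModules.toPresheaf R.obj).map g := by
    have := PresheafOfModules.toPresheaf_map_sheafificationHomEquiv_def (R := R) (𝟙 R.obj) f
    rw [hf, Equiv.apply_symm_apply] at this
    exact this.symm
  rw [← fac] at h1 h2
  have hinj : Presheaf.IsLocallyInjective J ((PresheafOfModules.toPresheaf R.obj).map f.val) :=
    (Presheaf.comp_isLocallyInjective_iff J
      (toSheafify J P.presheaf) ((PresheafOfModules.toPresheaf R.obj).map f.val)).1 h1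
  have hsurj : Presheaf.IsLocallySurjective J ((PresheafOfModules.toPresheaf R.obj).map f.val) :=
    (Presheaf.comp_isLocallySurjective_iff J
      (toSheafify J P.presheaf) ((PresheafOfModules.toPresheaf R.obj).map f.val)).1 h2
  have hiso : IsIso ((SheafOfModules.toSheaf R).map f) := by
    exact (Sheaf.isLocallyBijective_iff_isIso ((SheafOfModules.toSheaf R).map f)).1 ⟨hinj, hsurj⟩
  exact isIso_of_reflects_iso f (SheafOfModules.toSheaf R)

end

end Groth.Agent.H18

namespace Groth.Agent.H18

open AlgebraicGeometry

/-- A morphism from a presheaf of modules on a scheme to a sheaf of modules, which is bijective on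
the sections over a family of opens containing a basis, induces an isomorphism from the
sheafification. -/
theorem nonempty_sheafifyMod_iso {X : Scheme.{u}} (P : X.PresheafOfModules) (G : X.Modules)
    (g : P ⟶ G.val) (B : X.Opens → Prop)
    (hB : ∀ (U : X.Opens) (x : X), x ∈ U → ∃ V : X.Opens, V ≤ U ∧ x ∈ V ∧ B V)
    (hbij : ∀ V : X.Opens, B V → Function.Bijective (g.app (op V))) :
    Nonempty ((CohB1.sheafifyMod X).obj P ≅ G) := by
  have h1 : Presheaf.IsLocallyInjective (Opens.grothendieckTopology X)
      ((PresheafOfModules.toPresheaf X.ringCatSheaf.obj).map g) := by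
    constructor
    intro U x₁ x₂ h x hx
    obtain ⟨V, hVU, hxV, hBV⟩ := hB U.unop x hx
    refine ⟨V, homOfLE hVU, ?_, hxV⟩
    change P.presheaf.map (homOfLE hVU).op x₁ = P.presheaf.map (homOfLE hVU).op x₂
    apply (hbij V hBV).1
    have n1 := PresheafOfModules.naturality_apply g (homOfLE hVU).op x₁
    have n2 := PresheafOfModules.naturality_apply g (homOfLE hVU).op x₂
    have h' : g.app U x₁ = g.app U x₂ := h
    exact n1.trans ((congrArg _ h').trans n2.symm)
  have h2 : Presheaf.IsLocallySurjective (Opens.grothendieckTopology X)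
      ((PresheafOfModules.toPresheaf X.ringCatSheaf.obj).map g) := by
    constructor
    intro U t x hx
    obtain ⟨V, hVU, hxV, hBV⟩ := hB U x hx
    obtain ⟨a, ha⟩ := (hbij V hBV).2 (G.val.map (homOfLE hVU).op t)
    exact ⟨V, homOfLE hVU, ⟨a, ha⟩, hxV⟩
  have hiso := isIso_sheafificationHomEquiv_symm (R := X.ringCatSheaf) g h1 h2
  exact ⟨@asIso _ _ _ _ _ hiso⟩

end Groth.Agent.H18
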