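import Groth.Agent.H18.TwistPow
import Groth.Agent.H18.NegTwist

set_option autoImplicit false
universe u

open CategoryTheory CategoryTheory.Limits AlgebraicGeometry TopologicalSpace Opposite
open HomogeneousLocalization

namespace Groth.Agent.H18

namespace GammaStar

section

variable {R A : Type u} [CommRing R] [CommRing A] [Algebra R A]
variable {𝒜 : ℕ → Submodule R A} [GradedAlgebra 𝒜]
variable (D : Charts 𝒜) (F : (Proj 𝒜).Modules)

/-- for a quasi-coherent module of finite type, in every large enough degree there are finitely many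
elements of `Γ_*(F)` whose entries generate `F` over every chart -/
theorem exists_generators_in_degree [Fintype D.I] [F.IsQuasicoherent]
    (hFT : SheafOfModules.IsFiniteType (R := (Proj 𝒜).ringCatSheaf) F) :
    ∃ n₀ : ℕ, ∀ n : ℕ, n₀ ≤ n → ∃ (r : ℕ) (y : Fin r → M D F), (∀ i, y i ∈ grading D F n) ∧
      ∀ j : D.I, Submodule.span Γ(Proj 𝒜, U D j) (Set.range fun i => comp D F j (y i)) = ⊤ := by
  classical
  have hUa : ∀ j : D.I, IsAffineOpen (U D j) := fun j =>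
    Proj.isAffineOpen_basicOpen 𝒜 (D.f j) (D.hf j) one_pos
  have hfg : ∀ j : D.I, (⊤ : Submodule Γ(Proj 𝒜, U D j) Γ(F, U D j)).FG := fun j =>
    fg_top_of_isFiniteType F hFT (hUa j)
  choose S hS using hfg
  let K := Σ j : D.I, {τ : Γ(F, U D j) // τ ∈ S j}
  haveI : Fintype K := inferInstance
  have hext : ∀ k : K, ∃ (n : ℕ) (m : M D F), m ∈ grading D F n ∧ comp D F k.1 m = k.2.1 :=
    fun k => exists_extension D F k.1 k.2.1
  choose e x hxg hxc using hext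
  refine ⟨Finset.univ.sup e, fun n hn => ?_⟩
  have hek : ∀ k, e k ≤ n := fun k => (Finset.le_sup (Finset.mem_univ k)).trans hn
  let y : K → M D F := fun k => D.f k.1 ^ (n - e k) • x k
  have hy : ∀ k, y k ∈ grading D F n := fun k => fpow_smul_mem_grading D F k.1 (hek k) (hxg k)
  have hyc : ∀ k, comp D F k.1 (y k) = k.2.1 := fun k => by
    change comp D F k.1 (D.f k.1 ^ (n - e k) • x k) = _
    rw [comp_fpow_smul, hxc]
  let eqv : Fin (Fintype.card K) ≃ K := (Fintype.equivFin K).symm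
  refine ⟨Fintype.card K, fun i => y (eqv i), fun i => hy (eqv i), fun j => ?_⟩
  rw [eq_top_iff, ← hS j, Submodule.span_le]
  intro τ hτ
  refine Submodule.subset_span ⟨eqv.symm ⟨j, ⟨τ, hτ⟩⟩, ?_⟩
  change comp D F j (y (eqv (eqv.symm ⟨j, ⟨τ, hτ⟩⟩))) = τ
  rw [eqv.apply_symm_apply]
  exact hyc ⟨j, ⟨τ, hτ⟩⟩

end

end GammaStar

namespace TwMul

section

variable {R A : Type u} [CommRing R] [CommRing A] [Algebra R A]
variable {𝒜 : ℕ → Submodule R A} [GradedAlgebra 𝒜]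
variable {M : Type u} [AddCommGroup M] [Module R M] [Module A M]
  {ℳ : ℕ → Submodule R M} [SetLike.GradedSMul 𝒜 ℳ]

/-- `a / b` times `b / a` is one -/
theorem fracTw_mul_fracTw_val' {i j : ℕ} {a b : A} (ha : a ∈ 𝒜 i) (hb : b ∈ 𝒜 j) {k k' : ℤ}
    (he : (i : ℤ) = j + k) (he' : (j : ℤ) = i + k') (V : (Proj 𝒜).Opens)
    (hVa : ∀ x : ProjectiveSpectrum 𝒜, x ∈ V → a ∉ x.asHomogeneousIdeal)
    (hVb : ∀ x : ProjectiveSpectrum 𝒜, x ∈ V → b ∉ x.asHomogeneousIdeal) (z : V) :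
    ((((fracTw 𝒜 ha hb he V hVb : Γ(Twist.twist 𝒜 k, V)) : Twist.sectN (𝒜 := 𝒜) k (op V)).1 z :
        Twist.twistAt 𝒜 k z.1) : Twist.Loc 𝒜 z.1) *
      ((((fracTw 𝒜 hb ha he' V hVa : Γ(Twist.twist 𝒜 k', V)) : Twist.sectN (𝒜 := 𝒜) k' (op V)).1 z :
        Twist.twistAt 𝒜 k' z.1) : Twist.Loc 𝒜 z.1) = 1 := by
  rw [fracTw_val, fracTw_val, Localization.mk_mul]
  have : (⟨b, hVb z.1 z.2⟩ * ⟨a, hVa z.1 z.2⟩ : z.1.asHomogeneousIdeal.toIdeal.primeCompl) =
      ⟨a * b, fun h => (z.1.isPrime.mem_or_mem h).elim (hVa z.1 z.2) (hVb z.1 z.2)⟩ :=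
    Subtype.ext (mul_comm _ _)
  rw [this]
  exact Localization.mk_self (S := z.1.asHomogeneousIdeal.toIdeal.primeCompl) ⟨a * b, _⟩

theorem mulSect_mulSect_fracTw' {i j : ℕ} {a b : A} (ha : a ∈ 𝒜 i) (hb : b ∈ 𝒜 j)
    {m k k' n' : ℤ} (hn : n' = m + k) (hn' : m = n' + k') (he : (i : ℤ) = j + k)
    (he' : (j : ℤ) = i + k') (V : (Proj 𝒜).Opens)
    (hVa : ∀ x : ProjectiveSpectrum 𝒜, x ∈ V → a ∉ x.asHomogeneousIdeal)
    (hVb : ∀ x : ProjectiveSpectrum 𝒜, x ∈ V → b ∉ x.asHomogeneousIdeal)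
    (s : Γ(GrTilde.tilde 𝒜 ℳ m, V)) :
    mulSect n' k' m hn' V (mulSect m k n' hn V s (fracTw 𝒜 ha hb he V hVb))
      (fracTw 𝒜 hb ha he' V hVa) = s := by
  refine tilde_sect_ext m V _ _ (fun z => ?_)
  rw [mulSect_val, mulSect_val, smul_smul, mul_comm, fracTw_mul_fracTw_val' ha hb he he' V hVa hVb z,
    one_smul]

end

end TwMul

namespace GammaStar

section

variable {R A : Type u} [CommRing R] [CommRing A] [Algebra R A]
variable {𝒜 : ℕ → Submodule R A} [GradedAlgebra 𝒜]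
variable (D : Charts 𝒜) (F : (Proj 𝒜).Modules)
variable (hcov : ∀ x : ProjectiveSpectrum 𝒜, ∃ j, D.f j ∉ x.asHomogeneousIdeal)

/-- `Γ(W, M(n)~) → Γ(W, F)`, `m / t ↦ (m / (t f_j ^ n))`, for `M = Γ_*(F)` and `W ⊆ D₊(f_j)` -/
noncomputable def shiftEval (j : D.I) (n : ℕ) {W : (Proj 𝒜).Opens} (hWj : W ≤ U D j) :
    Γ(GrTilde.tilde 𝒜 (grading D F) (n : ℤ), W) →ₗ[Γ(Proj 𝒜, W)] Γ(F, W) where
  toFun t := (alpha D F hcov).app W
    (TwMul.mulSect (n : ℤ) (-(n : ℤ)) 0 (by omega) W t (negGen D j n hWj))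
  map_add' t t' := by
    rw [TwMul.mulSect_add_left]
    exact map_add _ _ _
  map_smul' r t := by
    rw [TwMul.mulSect_smul_left]
    exact Scheme.Modules.Hom.app_smul _ r _

theorem shiftEval_apply (j : D.I) (n : ℕ) {W : (Proj 𝒜).Opens} (hWj : W ≤ U D j)
    (t : Γ(GrTilde.tilde 𝒜 (grading D F) (n : ℤ), W)) :
    shiftEval D F hcov j n hWj t = (alpha D F hcov).app W
      (TwMul.mulSect (n : ℤ) (-(n : ℤ)) 0 (by omega) W t (negGen D j n hWj)) := rfl

theorem shiftEval_res (j : D.I) (n : ℕ) {W W' : (Proj 𝒜).Opens} (hWj : W ≤ U D j) (h : W' ≤ W)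
    (t : Γ(GrTilde.tilde 𝒜 (grading D F) (n : ℤ), W)) :
    mres F h (shiftEval D F hcov j n hWj t) =
      shiftEval D F hcov j n (h.trans hWj) (mres (GrTilde.tilde 𝒜 (grading D F) (n : ℤ)) h t) := by
  rw [shiftEval_apply, shiftEval_apply]
  exact (alphaPre_res D F hcov h _).symm

theorem shiftEval_injective [Fintype D.I] [F.IsQuasicoherent] (j : D.I) (n : ℕ)
    {W : (Proj 𝒜).Opens} (hWj : W ≤ U D j) :
    Function.Injective (shiftEval D F hcov j n hWj) := by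
  have hiso : IsIso (alpha D F hcov) := isIso_alpha D F hcov
  have hiso' : IsIso ((alpha D F hcov).app W) :=
    (Scheme.Modules.Hom.isIso_iff_isIso_app (φ := alpha D F hcov)).mp hiso W
  have hb : Function.Bijective ((alpha D F hcov).app W) :=
    ConcreteCategory.bijective_of_isIso _
  intro t t' h
  rw [shiftEval_apply, shiftEval_apply] at h
  have h2 := hb.1 h
  have hV1 : ∀ x : ProjectiveSpectrum 𝒜, x ∈ W → (1 : A) ∉ x.asHomogeneousIdeal :=
    fun x _ => GrMod.one_nin x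
  have hVf : ∀ x : ProjectiveSpectrum 𝒜, x ∈ W → D.f j ^ n ∉ x.asHomogeneousIdeal :=
    fun x hx => notMem_of_mem_U D (hWj hx) n
  have e1 := TwMul.mulSect_mulSect_fracTw' (ℳ := grading D F)
    (SetLike.GradedOne.one_mem : (1 : A) ∈ 𝒜 0) (fpow_mem D j n)
    (m := (n : ℤ)) (k := -(n : ℤ)) (k' := (n : ℤ)) (n' := 0) (by omega) (by omega)
    (by push_cast; omega) (by push_cast; omega) W hV1 hVf
  rw [← e1 t, ← e1 t']
  exact congrArg (fun s => TwMul.mulSect 0 (n : ℤ) (n : ℤ) (by omega) W s _) h2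

theorem shiftEval_globalOf (j : D.I) (n : ℕ) {W : (Proj 𝒜).Opens} (hWj : W ≤ U D j)
    {y : M D F} (hy : y ∈ grading D F n) :
    shiftEval D F hcov j n hWj (mres (GrTilde.tilde 𝒜 (grading D F) (n : ℤ)) (le_top : W ≤ ⊤)
      (GrTilde.globalOf 𝒜 (grading D F) (⟨y, hy⟩ : grading D F n) :
        GrTilde.sect 𝒜 (grading D F) (n : ℤ) (op ⊤))) = mres F hWj (comp D F j y) := by
  rw [shiftEval_apply]
  have h := alpha_app_eq_evalFrac D F hcov j hWj
    (TwMul.mulSect (n : ℤ) (-(n : ℤ)) 0 (by omega) W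
      (mres (GrTilde.tilde 𝒜 (grading D F) (n : ℤ)) (le_top : W ≤ ⊤)
        (GrTilde.globalOf 𝒜 (grading D F) (⟨y, hy⟩ : grading D F n) :
          GrTilde.sect 𝒜 (grading D F) (n : ℤ) (op ⊤))) (negGen D j n hWj))
    (fpow_mem D j n) (fun x hx => notMem_of_mem_U D (hWj hx) n) hy ?_
  · refine h.trans ?_
    unfold evalFrac
    rw [fracO_self, one_smul]
  · intro z hz
    have h1 := TwMul.mulSect_val (ℳ := grading D F) (n : ℤ) (-(n : ℤ)) 0 (by omega) W
      (mres (GrTilde.tilde 𝒜 (grading D F) (n : ℤ)) (le_top : W ≤ ⊤)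
        (GrTilde.globalOf 𝒜 (grading D F) (⟨y, hy⟩ : grading D F n) :
          GrTilde.sect 𝒜 (grading D F) (n : ℤ) (op ⊤))) (negGen D j n hWj) ⟨z, hz⟩
    refine h1.trans ?_
    have h2 : (Localization.mk (1 : A) (⟨D.f j ^ n, notMem_of_mem_U D (hWj hz) n⟩ :
        z.asHomogeneousIdeal.toIdeal.primeCompl) : Twist.Loc 𝒜 z) •
        (LocalizedModule.mk y (1 : z.asHomogeneousIdeal.toIdeal.primeCompl) :
          GrTilde.LocMod 𝒜 (M := M D F) z) =
        LocalizedModule.mk y ⟨D.f j ^ n, notMem_of_mem_U D (hWj hz) n⟩ := by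
      rw [LocalizedModule.mk_smul_mk, one_smul, mul_one]
    exact h2

include hcov in
/-- the global sections `y_i / 1` of `M(n)~` generate it locally -/
theorem tildeShift_locally_generated [Fintype D.I] [F.IsQuasicoherent] {n r : ℕ}
    (y : Fin r → M D F) (hy : ∀ i, y i ∈ grading D F n)
    (hspan : ∀ j : D.I, Submodule.span Γ(Proj 𝒜, U D j) (Set.range fun i => comp D F j (y i)) = ⊤)
    (V : (Proj 𝒜).Opens) (t : Γ(GrTilde.tilde 𝒜 (grading D F) (n : ℤ), V)) (z : Proj 𝒜)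
    (hz : z ∈ V) :
    ∃ (W : (Proj 𝒜).Opens) (hW : W ≤ V), z ∈ W ∧
      mres (GrTilde.tilde 𝒜 (grading D F) (n : ℤ)) hW t ∈ Submodule.span Γ(Proj 𝒜, W)
        (Set.range fun i => mres (GrTilde.tilde 𝒜 (grading D F) (n : ℤ)) (le_top : W ≤ ⊤)
          (GrTilde.globalOf 𝒜 (grading D F) (⟨y i, hy i⟩ : grading D F n) :
            GrTilde.sect 𝒜 (grading D F) (n : ℤ) (op ⊤))) := by
  obtain ⟨j, hj⟩ := hcov z
  have hzj : z ∈ U D j := hj
  have hUa : IsAffineOpen (U D j) := Proj.isAffineOpen_basicOpen 𝒜 (D.f j) (D.hf j) one_pos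
  have hV'j : V ⊓ U D j ≤ U D j := inf_le_right
  obtain ⟨W, hW, hzW, hmem⟩ := exists_mres_mem_span_of_isQuasicoherent F hUa
    (fun i => comp D F j (y i)) (hspan j) (V ⊓ U D j) hV'j
    (shiftEval D F hcov j n hV'j
      (mres (GrTilde.tilde 𝒜 (grading D F) (n : ℤ)) (inf_le_left : V ⊓ U D j ≤ V) t)) z ⟨hz, hzj⟩
  have hWj : W ≤ U D j := hW.trans hV'j
  refine ⟨W, hW.trans inf_le_left, hzW, ?_⟩
  rw [shiftEval_res, mres_mres] at hmem
  have hrange : (Set.range fun i => mres F hWj (comp D F j (y i))) =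
      (shiftEval D F hcov j n hWj) '' (Set.range fun i =>
        mres (GrTilde.tilde 𝒜 (grading D F) (n : ℤ)) (le_top : W ≤ ⊤)
          (GrTilde.globalOf 𝒜 (grading D F) (⟨y i, hy i⟩ : grading D F n) :
            GrTilde.sect 𝒜 (grading D F) (n : ℤ) (op ⊤))) := by
    rw [← Set.range_comp]
    congr 1
    funext i
    exact (shiftEval_globalOf D F hcov j n hWj (hy i)).symm
  rw [hrange, ← Submodule.map_span] at hmem
  obtain ⟨s, hs, hst⟩ := hmem
  have := shiftEval_injective D F hcov j n hWj hst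
  rw [← this]
  exact hs

end

end GammaStar

end Groth.Agent.H18
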