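import Groth.Agent.H18.TwistStalk
import Groth.Agent.H18.GrTildeQC
import Groth.Agent.H18.TwistTriv

set_option autoImplicit false
universe u

open CategoryTheory CategoryTheory.Limits AlgebraicGeometry TopologicalSpace Opposite
open HomogeneousLocalization

namespace Groth.Agent.H18

namespace TwMul

section

variable {R A : Type u} [CommRing R] [CommRing A] [Algebra R A]
variable (𝒜 : ℕ → Submodule R A) [GradedAlgebra 𝒜]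
variable {M : Type u} [AddCommGroup M] [Module R M] [Module A M]
  (ℳ : ℕ → Submodule R M) [SetLike.GradedSMul 𝒜 ℳ]

/-- the product of a degree-`k` fraction of `A_x` and a degree-`m` fraction of `M_x` is a
degree-`m + k` fraction -/
theorem smul_mem_tildeAt (m k n' : ℤ) (hn : n' = m + k) (x : ProjectiveSpectrum 𝒜)
    {c : Twist.Loc 𝒜 x} (hc : c ∈ Twist.twistAt 𝒜 k x)
    {q : GrTilde.LocMod 𝒜 (M := M) x} (hq : q ∈ GrTilde.tildeAt 𝒜 ℳ m x) :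
    c • q ∈ GrTilde.tildeAt 𝒜 ℳ n' x := by
  obtain ⟨i, j, a, s, ha, hs, hsx, hij, rfl⟩ := twistAt_eq_fraction 𝒜 k x c hc
  induction hq using Submodule.span_induction with
  | mem q h =>
    obtain ⟨i', j', μ, t, ht, hij', rfl⟩ := h
    rw [LocalizedModule.mk_smul_mk]
    exact Submodule.subset_span ⟨i + i', j + j', ⟨a • (μ : M), SetLike.GradedSMul.smul_mem ha μ.2⟩,
      ⟨s * t, SetLike.mul_mem_graded hs t.2⟩, _, by push_cast; omega, rfl⟩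
  | zero => rw [smul_zero]; exact zero_mem _
  | add q q' _ _ h h' => rw [smul_add]; exact add_mem h h'
  | smul c' q _ h =>
    rw [GrTilde.a0_smul_def, smul_comm]
    exact Submodule.smul_mem _ c' h

variable {𝒜 ℳ}

/-- pointwise product of dependent functions -/
def mulFn (m k n' : ℤ) (hn : n' = m + k) (U : (Opens (ProjectiveSpectrum.top 𝒜))ᵒᵖ)
    (s : ∀ x : U.unop, GrTilde.tildeAt 𝒜 ℳ m x.1) (t : ∀ x : U.unop, Twist.twistAt 𝒜 k x.1)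
    (x : U.unop) : GrTilde.tildeAt 𝒜 ℳ n' x.1 :=
  ⟨(t x).1 • (s x).1, smul_mem_tildeAt 𝒜 ℳ m k n' hn x.1 (t x).2 (s x).2⟩

theorem isLocFrac_mulFn (m k n' : ℤ) (hn : n' = m + k) (U : (Opens (ProjectiveSpectrum.top 𝒜))ᵒᵖ)
    (s : ∀ x : U.unop, GrTilde.tildeAt 𝒜 ℳ m x.1) (hs : (GrTilde.isLocFrac 𝒜 ℳ m).pred s)
    (t : ∀ x : U.unop, Twist.twistAt 𝒜 k x.1) (ht : (Twist.isLocFracN 𝒜 k).pred t) :
    (GrTilde.isLocFrac 𝒜 ℳ n').pred (mulFn m k n' hn U s t) := fun x => by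
  rcases hs x with ⟨Va, ma, ia, i, j, ⟨μ, μ_mem⟩, ⟨b, b_mem⟩, nina, ca, wa⟩
  rcases ht x with ⟨Vb, mb, ib, i', j', ⟨a, a_mem⟩, ⟨c, c_mem⟩, ninb, cb, wb⟩
  replace ca : (i : ℤ) = j + m ∨ μ = 0 := ca
  replace cb : (i' : ℤ) = j' + k ∨ a = 0 := cb
  have nin : ∀ y : (Va ⊓ Vb : Opens _), c * b ∉ y.1.asHomogeneousIdeal := fun y h =>
    ((y.1.isPrime.mem_or_mem h).elim (ninb ⟨y.1, y.2.2⟩)) (nina ⟨y.1, y.2.1⟩)
  refine ⟨Va ⊓ Vb, ⟨ma, mb⟩, Opens.infLELeft _ _ ≫ ia, i' + i, j' + j,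
    ⟨a • μ, SetLike.GradedSMul.smul_mem a_mem μ_mem⟩, ⟨c * b, SetLike.mul_mem_graded c_mem b_mem⟩, nin, ?_,
    fun y => ?_⟩
  · rcases ca with ha | ha
    · rcases cb with hb | hb
      · exact Or.inl (by push_cast; omega)
      · exact Or.inr (show a • μ = 0 by rw [hb, zero_smul])
    · exact Or.inr (show a • μ = 0 by rw [ha, smul_zero])
  · have e1 := wa ⟨y.1, y.2.1⟩
    have e2 := wb ⟨y.1, y.2.2⟩
    dsimp only at e1 e2 ⊢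
    change (t _).1 • (s _).1 = _
    erw [e1, e2]
    rw [LocalizedModule.mk_smul_mk]
    rfl


/-- the product `Γ(V, M(m)~) × Γ(V, O(k)) → Γ(V, M(m+k)~)` -/
noncomputable def mulSect (m k n' : ℤ) (hn : n' = m + k) (V : (Proj 𝒜).Opens)
    (s : Γ(GrTilde.tilde 𝒜 ℳ m, V)) (t : Γ(Twist.twist 𝒜 k, V)) : Γ(GrTilde.tilde 𝒜 ℳ n', V) :=
  (⟨mulFn m k n' hn (op V) (s : GrTilde.sect 𝒜 ℳ m (op V)).1 (t : Twist.sectN (𝒜 := 𝒜) k (op V)).1,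
    isLocFrac_mulFn m k n' hn (op V) _ (s : GrTilde.sect 𝒜 ℳ m (op V)).2 _
      (t : Twist.sectN (𝒜 := 𝒜) k (op V)).2⟩ : GrTilde.sect 𝒜 ℳ n' (op V))

theorem mulSect_val (m k n' : ℤ) (hn : n' = m + k) (V : (Proj 𝒜).Opens)
    (s : Γ(GrTilde.tilde 𝒜 ℳ m, V)) (t : Γ(Twist.twist 𝒜 k, V)) (z : V) :
    ((((mulSect m k n' hn V s t : Γ(GrTilde.tilde 𝒜 ℳ n', V)) : GrTilde.sect 𝒜 ℳ n' (op V)).1 z :
      GrTilde.tildeAt 𝒜 ℳ n' z.1) : GrTilde.LocMod 𝒜 (M := M) z.1) =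
    (((t : Twist.sectN (𝒜 := 𝒜) k (op V)).1 z : Twist.twistAt 𝒜 k z.1) : Twist.Loc 𝒜 z.1) •
      ((((s : GrTilde.sect 𝒜 ℳ m (op V)).1 z : GrTilde.tildeAt 𝒜 ℳ m z.1)) :
        GrTilde.LocMod 𝒜 (M := M) z.1) := rfl

theorem tilde_sect_ext (n : ℤ) (V : (Proj 𝒜).Opens) (s t : Γ(GrTilde.tilde 𝒜 ℳ n, V))
    (h : ∀ z : V, ((((s : GrTilde.sect 𝒜 ℳ n (op V)).1 z : GrTilde.tildeAt 𝒜 ℳ n z.1)) :
        GrTilde.LocMod 𝒜 (M := M) z.1) =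
      ((((t : GrTilde.sect 𝒜 ℳ n (op V)).1 z : GrTilde.tildeAt 𝒜 ℳ n z.1)) :
        GrTilde.LocMod 𝒜 (M := M) z.1)) : s = t := by
  apply Subtype.ext
  funext z
  exact Subtype.ext (h z)

theorem tilde_add_val (n : ℤ) (V : (Proj 𝒜).Opens) (s t : Γ(GrTilde.tilde 𝒜 ℳ n, V)) (z : V) :
    ((((s + t : Γ(GrTilde.tilde 𝒜 ℳ n, V)) : GrTilde.sect 𝒜 ℳ n (op V)).1 z :
      GrTilde.tildeAt 𝒜 ℳ n z.1) : GrTilde.LocMod 𝒜 (M := M) z.1) =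
    ((((s : GrTilde.sect 𝒜 ℳ n (op V)).1 z : GrTilde.tildeAt 𝒜 ℳ n z.1)) :
        GrTilde.LocMod 𝒜 (M := M) z.1) +
      ((((t : GrTilde.sect 𝒜 ℳ n (op V)).1 z : GrTilde.tildeAt 𝒜 ℳ n z.1)) :
        GrTilde.LocMod 𝒜 (M := M) z.1) := rfl

theorem twist_add_val (e : ℤ) (V : (Proj 𝒜).Opens) (s t : Γ(Twist.twist 𝒜 e, V)) (z : V) :
    ((((s + t : Γ(Twist.twist 𝒜 e, V)) : Twist.sectN (𝒜 := 𝒜) e (op V)).1 z :
      Twist.twistAt 𝒜 e z.1) : Twist.Loc 𝒜 z.1) =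
    (((s : Twist.sectN (𝒜 := 𝒜) e (op V)).1 z : Twist.twistAt 𝒜 e z.1) : Twist.Loc 𝒜 z.1) +
      (((t : Twist.sectN (𝒜 := 𝒜) e (op V)).1 z : Twist.twistAt 𝒜 e z.1) : Twist.Loc 𝒜 z.1) := rfl

theorem tilde_smul_val' (n : ℤ) (W : (Proj 𝒜).Opens) (r : Γ(Proj 𝒜, W))
    (s : Γ(GrTilde.tilde 𝒜 ℳ n, W)) (z : W) :
    ((((r • s : Γ(GrTilde.tilde 𝒜 ℳ n, W)) : GrTilde.sect 𝒜 ℳ n (op W)).1 z :
      GrTilde.tildeAt 𝒜 ℳ n z.1) : GrTilde.LocMod 𝒜 (M := M) z.1) =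
    (r.1 z).val • (((s : GrTilde.sect 𝒜 ℳ n (op W)).1 z : GrTilde.tildeAt 𝒜 ℳ n z.1) :
      GrTilde.LocMod 𝒜 (M := M) z.1) :=
  GrTilde.coe_smul_val n z.1 (r.1 z) ((s : GrTilde.sect 𝒜 ℳ n (op W)).1 z)

theorem mulSect_add_left (m k n' : ℤ) (hn : n' = m + k) (V : (Proj 𝒜).Opens)
    (s s' : Γ(GrTilde.tilde 𝒜 ℳ m, V)) (t : Γ(Twist.twist 𝒜 k, V)) :
    mulSect m k n' hn V (s + s') t = mulSect m k n' hn V s t + mulSect m k n' hn V s' t := by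
  refine tilde_sect_ext n' V _ _ (fun z => ?_)
  rw [tilde_add_val, mulSect_val, mulSect_val, mulSect_val, tilde_add_val, smul_add]

theorem mulSect_add_right (m k n' : ℤ) (hn : n' = m + k) (V : (Proj 𝒜).Opens)
    (s : Γ(GrTilde.tilde 𝒜 ℳ m, V)) (t t' : Γ(Twist.twist 𝒜 k, V)) :
    mulSect m k n' hn V s (t + t') = mulSect m k n' hn V s t + mulSect m k n' hn V s t' := by
  refine tilde_sect_ext n' V _ _ (fun z => ?_)
  rw [tilde_add_val, mulSect_val, mulSect_val, mulSect_val, twist_add_val, add_smul]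

theorem mulSect_smul_left (m k n' : ℤ) (hn : n' = m + k) (V : (Proj 𝒜).Opens)
    (r : Γ(Proj 𝒜, V)) (s : Γ(GrTilde.tilde 𝒜 ℳ m, V)) (t : Γ(Twist.twist 𝒜 k, V)) :
    mulSect m k n' hn V (r • s) t = r • mulSect m k n' hn V s t := by
  refine tilde_sect_ext n' V _ _ (fun z => ?_)
  rw [tilde_smul_val', mulSect_val, mulSect_val, tilde_smul_val', smul_comm]

theorem mulSect_smul_right (m k n' : ℤ) (hn : n' = m + k) (V : (Proj 𝒜).Opens)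
    (r : Γ(Proj 𝒜, V)) (s : Γ(GrTilde.tilde 𝒜 ℳ m, V)) (t : Γ(Twist.twist 𝒜 k, V)) :
    mulSect m k n' hn V s (r • t) = r • mulSect m k n' hn V s t := by
  refine tilde_sect_ext n' V _ _ (fun z => ?_)
  rw [tilde_smul_val', mulSect_val, mulSect_val, twist_smul_val, mul_smul]

theorem mulSect_res (m k n' : ℤ) (hn : n' = m + k) {V V' : (Proj 𝒜).Opens} (h : V' ≤ V)
    (s : Γ(GrTilde.tilde 𝒜 ℳ m, V)) (t : Γ(Twist.twist 𝒜 k, V)) :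
    mres (GrTilde.tilde 𝒜 ℳ n') h (mulSect m k n' hn V s t) =
      mulSect m k n' hn V' (mres (GrTilde.tilde 𝒜 ℳ m) h s) (mres (Twist.twist 𝒜 k) h t) := rfl

end

end TwMul

end Groth.Agent.H18
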