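import Groth.Agent.H18.TwistMul
import Groth.Agent.H18.SheafifyIso

set_option autoImplicit false
universe u

open CategoryTheory CategoryTheory.Limits AlgebraicGeometry TopologicalSpace Opposite MonoidalCategory

namespace Groth.Agent.H18

namespace TwMul

section

variable {R A : Type u} [CommRing R] [CommRing A] [Algebra R A]
variable {𝒜 : ℕ → Submodule R A} [GradedAlgebra 𝒜]
variable {M : Type u} [AddCommGroup M] [Module R M] [Module A M]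
  {ℳ : ℕ → Submodule R M} [SetLike.GradedSMul 𝒜 ℳ]

/-- the multiplication map `M(m)~ ⊗ O(k) → M(m+k)~` on the presheaf tensor product -/
noncomputable def mulHom (m k n' : ℤ) (hn : n' = m + k) :
    CohB1.tensorPre (GrTilde.tilde 𝒜 ℳ m) (Twist.twist 𝒜 k) ⟶
      CohB1.toPMod (GrTilde.tilde 𝒜 ℳ n') where
  app U := ModuleCat.MonoidalCategory.tensorLift
    (fun (s : Γ(GrTilde.tilde 𝒜 ℳ m, U.unop)) (t : Γ(Twist.twist 𝒜 k, U.unop)) =>
      (mulSect m k n' hn U.unop s t : Γ(GrTilde.tilde 𝒜 ℳ n', U.unop)))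
    (fun s s' t => mulSect_add_left m k n' hn U.unop s s' t)
    (fun r s t => mulSect_smul_left m k n' hn U.unop r s t)
    (fun s t t' => mulSect_add_right m k n' hn U.unop s t t')
    (fun r s t => mulSect_smul_right m k n' hn U.unop r s t)
  naturality _ := ModuleCat.MonoidalCategory.tensor_ext (fun _ _ => rfl)


theorem mulHom_app_tmul (m k n' : ℤ) (hn : n' = m + k) (V : (Proj 𝒜).Opens)
    (s : Γ(GrTilde.tilde 𝒜 ℳ m, V)) (t : Γ(Twist.twist 𝒜 k, V)) :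
    ((mulHom (𝒜 := 𝒜) (ℳ := ℳ) m k n' hn).app (op V)).hom (s ⊗ₜ[Γ(Proj 𝒜, V)] t) =
      mulSect m k n' hn V s t := rfl

theorem mulSect_zero_left (m k n' : ℤ) (hn : n' = m + k) (V : (Proj 𝒜).Opens)
    (t : Γ(Twist.twist 𝒜 k, V)) :
    mulSect (ℳ := ℳ) m k n' hn V 0 t = 0 := by
  have := mulSect_add_left (ℳ := ℳ) m k n' hn V 0 0 t
  rw [add_zero] at this
  exact left_eq_add.mp this

variable (𝒜) in
theorem fpow_mem_one {f : A} (hf : f ∈ 𝒜 1) (p : ℕ) : f ^ p ∈ 𝒜 p := by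
  have := SetLike.pow_mem_graded p hf
  simpa using this

/-- `f ^ p / f ^ q` times `f ^ q / f ^ p` is one -/
theorem fracTw_mul_fracTw_val {f : A} (hf : f ∈ 𝒜 1) (p q : ℕ) {k k' : ℤ} (he : (p : ℤ) = q + k)
    (he' : (q : ℤ) = p + k') (V : (Proj 𝒜).Opens)
    (hV : ∀ (l : ℕ) (x : ProjectiveSpectrum 𝒜), x ∈ V → f ^ l ∉ x.asHomogeneousIdeal) (z : V) :
    ((((fracTw 𝒜 (fpow_mem_one 𝒜 hf p) (fpow_mem_one 𝒜 hf q) he V (hV q) :
        Γ(Twist.twist 𝒜 k, V)) : Twist.sectN (𝒜 := 𝒜) k (op V)).1 z : Twist.twistAt 𝒜 k z.1) :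
          Twist.Loc 𝒜 z.1) *
      ((((fracTw 𝒜 (fpow_mem_one 𝒜 hf q) (fpow_mem_one 𝒜 hf p) he' V (hV p) :
        Γ(Twist.twist 𝒜 k', V)) : Twist.sectN (𝒜 := 𝒜) k' (op V)).1 z : Twist.twistAt 𝒜 k' z.1) :
          Twist.Loc 𝒜 z.1) = 1 := by
  rw [fracTw_val, fracTw_val, Localization.mk_mul]
  have : (⟨f ^ q, hV q z.1 z.2⟩ * ⟨f ^ p, hV p z.1 z.2⟩ :
      z.1.asHomogeneousIdeal.toIdeal.primeCompl) =
      ⟨f ^ p * f ^ q, fun h => (z.1.isPrime.mem_or_mem h).elim (hV p z.1 z.2) (hV q z.1 z.2)⟩ :=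
    Subtype.ext (mul_comm _ _)
  rw [this]
  exact Localization.mk_self (S := z.1.asHomogeneousIdeal.toIdeal.primeCompl) ⟨f ^ p * f ^ q, _⟩

theorem mulSect_mulSect_fracTw {f : A} (hf : f ∈ 𝒜 1) (p q : ℕ) {m k k' n' : ℤ} (hn : n' = m + k)
    (hn' : m = n' + k') (he : (p : ℤ) = q + k) (he' : (q : ℤ) = p + k') (V : (Proj 𝒜).Opens)
    (hV : ∀ (l : ℕ) (x : ProjectiveSpectrum 𝒜), x ∈ V → f ^ l ∉ x.asHomogeneousIdeal)
    (s : Γ(GrTilde.tilde 𝒜 ℳ m, V)) :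
    mulSect n' k' m hn' V
      (mulSect m k n' hn V s (fracTw 𝒜 (fpow_mem_one 𝒜 hf p) (fpow_mem_one 𝒜 hf q) he V (hV q)))
      (fracTw 𝒜 (fpow_mem_one 𝒜 hf q) (fpow_mem_one 𝒜 hf p) he' V (hV p)) = s := by
  refine tilde_sect_ext m V _ _ (fun z => ?_)
  rw [mulSect_val, mulSect_val, smul_smul, mul_comm, fracTw_mul_fracTw_val hf p q he he' V hV z,
    one_smul]

end

section

variable {R A : Type u} [CommRing R] [CommRing A] [Algebra R A]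
variable {𝒜 : ℕ → Submodule R A} [GradedAlgebra 𝒜]
variable {M : Type u} [AddCommGroup M] [Module R M] [Module A M]
  {ℳ : ℕ → Submodule R M} [SetLike.GradedSMul 𝒜 ℳ]

theorem bijective_mulHom_app (m k n' : ℤ) (hn : n' = m + k) {f : A} (hf : f ∈ 𝒜 1)
    (V : (Proj 𝒜).Opens) (hVf : V ≤ Proj.basicOpen 𝒜 f) :
    Function.Bijective ((mulHom (𝒜 := 𝒜) (ℳ := ℳ) m k n' hn).app (op V)) := by
  have hV : ∀ (l : ℕ) (x : ProjectiveSpectrum 𝒜), x ∈ V → f ^ l ∉ x.asHomogeneousIdeal :=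
    fun l x hx h => hVf hx (x.isPrime.mem_of_pow_mem l h)
  set p : ℕ := k.toNat with hp
  set q : ℕ := (-k).toNat with hq
  have he : (p : ℤ) = q + k := by omega
  have he' : (q : ℤ) = p + (-k) := by omega
  have hn' : m = n' + (-k) := by omega
  set e : Γ(Twist.twist 𝒜 k, V) :=
    fracTw 𝒜 (fpow_mem_one 𝒜 hf p) (fpow_mem_one 𝒜 hf q) he V (hV q) with he_def
  set e' : Γ(Twist.twist 𝒜 (-k), V) :=
    fracTw 𝒜 (fpow_mem_one 𝒜 hf q) (fpow_mem_one 𝒜 hf p) he' V (hV p) with he'_def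
  let φ := ((mulHom (𝒜 := 𝒜) (ℳ := ℳ) m k n' hn).app (op V)).hom
  change Function.Bijective φ
  have hform : ∀ z : TensorProduct Γ(Proj 𝒜, V) Γ(GrTilde.tilde 𝒜 ℳ m, V) Γ(Twist.twist 𝒜 k, V),
      ∃ s : Γ(GrTilde.tilde 𝒜 ℳ m, V), z = s ⊗ₜ[Γ(Proj 𝒜, V)] e := by
    intro z
    induction z using TensorProduct.induction_on with
    | zero => exact ⟨0, (TensorProduct.zero_tmul _ _).symm⟩
    | tmul s t =>
      obtain ⟨r, hr⟩ := smul_fracTw_surjective 𝒜 (fpow_mem_one 𝒜 hf p) (fpow_mem_one 𝒜 hf q) he V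
        (hV p) (hV q) t
      refine ⟨r • s, ?_⟩
      have hr' : r • e = t := hr
      rw [← hr', TensorProduct.tmul_smul, TensorProduct.smul_tmul']
    | add z z' hz hz' =>
      obtain ⟨s, rfl⟩ := hz
      obtain ⟨s', rfl⟩ := hz'
      exact ⟨s + s', (TensorProduct.add_tmul _ _ _).symm⟩
  constructor
  · rw [injective_iff_map_eq_zero]
    intro z hz
    obtain ⟨s, rfl⟩ := hform z
    have h1 : mulSect m k n' hn V s e = 0 := hz
    have h2 := mulSect_mulSect_fracTw (ℳ := ℳ) hf p q hn hn' he he' V hV s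
    rw [← he_def, h1, mulSect_zero_left] at h2
    rw [← h2]
    exact TensorProduct.zero_tmul _ _
  · intro w
    refine ⟨mulSect n' (-k) m hn' V w e' ⊗ₜ[Γ(Proj 𝒜, V)] e, ?_⟩
    change mulSect m k n' hn V (mulSect n' (-k) m hn' V w e') e = w
    refine tilde_sect_ext n' V _ _ (fun z => ?_)
    rw [mulSect_val, mulSect_val, smul_smul, fracTw_mul_fracTw_val hf p q he he' V hV z, one_smul]

end

section

variable {R A : Type u} [CommRing R] [CommRing A] [Algebra R A]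
variable (𝒜 : ℕ → Submodule R A) [GradedAlgebra 𝒜]
variable {M : Type u} [AddCommGroup M] [Module R M] [Module A M]
  (ℳ : ℕ → Submodule R M) [SetLike.GradedSMul 𝒜 ℳ]

/-- if `Proj` is covered by the `D₊(f)`, `f` of degree one, then `M(m)~ ⊗ O(k) ≅ M(m + k)~` -/
theorem nonempty_tensorMod_tilde_twist_iso
    (hcov : ∀ x : ProjectiveSpectrum 𝒜, ∃ f : A, f ∈ 𝒜 1 ∧ f ∉ x.asHomogeneousIdeal)
    (m k n' : ℤ) (hn : n' = m + k) :
    Nonempty (CohB1.tensorMod (GrTilde.tilde 𝒜 ℳ m) (Twist.twist 𝒜 k) ≅ GrTilde.tilde 𝒜 ℳ n') := by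
  refine nonempty_sheafifyMod_iso (X := Proj 𝒜)
    (CohB1.tensorPre (GrTilde.tilde 𝒜 ℳ m) (Twist.twist 𝒜 k)) (GrTilde.tilde 𝒜 ℳ n')
    (mulHom m k n' hn) (fun V => ∃ f : A, f ∈ 𝒜 1 ∧ V ≤ Proj.basicOpen 𝒜 f) ?_ ?_
  · intro U x hx
    obtain ⟨f, hf, hfx⟩ := hcov x
    exact ⟨U ⊓ Proj.basicOpen 𝒜 f, inf_le_left, ⟨hx, hfx⟩, f, hf, inf_le_right⟩
  · rintro V ⟨f, hf, hVf⟩
    exact bijective_mulHom_app m k n' hn hf V hVf

theorem hcov_of_irrelevant_eq_span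
    (hgen : (HomogeneousIdeal.irrelevant 𝒜).toIdeal = Ideal.span (𝒜 1 : Set A))
    (x : ProjectiveSpectrum 𝒜) : ∃ f : A, f ∈ 𝒜 1 ∧ f ∉ x.asHomogeneousIdeal := by
  by_contra hcon
  push Not at hcon
  apply x.not_irrelevant_le
  change (HomogeneousIdeal.irrelevant 𝒜).toIdeal ≤ x.asHomogeneousIdeal.toIdeal
  rw [hgen, Ideal.span_le]
  intro g hg
  exact hcon g hg

theorem hcov_of_iSup_eq_top (hcov : (⨆ f : 𝒜 1, Proj.basicOpen 𝒜 (f : A)) = ⊤)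
    (x : ProjectiveSpectrum 𝒜) : ∃ f : A, f ∈ 𝒜 1 ∧ f ∉ x.asHomogeneousIdeal := by
  have hx : (x : Proj 𝒜) ∈ (⨆ f : 𝒜 1, Proj.basicOpen 𝒜 (f : A)) := by rw [hcov]; trivial
  obtain ⟨f, hf⟩ := TopologicalSpace.Opens.mem_iSup.mp hx
  exact ⟨f.1, f.2, hf⟩

end

end TwMul

end Groth.Agent.H18
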