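import Groth.Agent.H18.TwistGen

set_option autoImplicit false
universe u

open CategoryTheory CategoryTheory.Limits AlgebraicGeometry TopologicalSpace Opposite MonoidalCategory

namespace Groth.Agent.H18

namespace TwMul

section

variable {R A : Type u} [CommRing R] [CommRing A] [Algebra R A]
variable {𝒜 : ℕ → Submodule R A} [GradedAlgebra 𝒜]
variable {M : Type u} [AddCommGroup M] [Module R M] [Module A M]
  {ℳ : ℕ → Submodule R M} [SetLike.GradedSMul 𝒜 ℳ]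

/-- the multiplication map `M(m)~ ⊗ O(k) → M(m+k)~` is bijective on sections over an open on which
`O(k)` is trivialised by a fraction `a / b` -/
theorem bijective_mulHom_app' (m k n' : ℤ) (hn : n' = m + k) {i j : ℕ} {a b : A}
    (ha : a ∈ 𝒜 i) (hb : b ∈ 𝒜 j) (he : (i : ℤ) = j + k)
    (V : (Proj 𝒜).Opens)
    (hVa : ∀ x : ProjectiveSpectrum 𝒜, x ∈ V → a ∉ x.asHomogeneousIdeal)
    (hVb : ∀ x : ProjectiveSpectrum 𝒜, x ∈ V → b ∉ x.asHomogeneousIdeal) :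
    Function.Bijective ((mulHom (𝒜 := 𝒜) (ℳ := ℳ) m k n' hn).app (op V)) := by
  have he' : (j : ℤ) = i + (-k) := by omega
  have hn' : m = n' + (-k) := by omega
  set e : Γ(Twist.twist 𝒜 k, V) := fracTw 𝒜 ha hb he V hVb with he_def
  set e' : Γ(Twist.twist 𝒜 (-k), V) := fracTw 𝒜 hb ha he' V hVa with he'_def
  let φ := ((mulHom (𝒜 := 𝒜) (ℳ := ℳ) m k n' hn).app (op V)).hom
  change Function.Bijective φ
  have hform : ∀ z : TensorProduct Γ(Proj 𝒜, V) Γ(GrTilde.tilde 𝒜 ℳ m, V) Γ(Twist.twist 𝒜 k, V),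
      ∃ s : Γ(GrTilde.tilde 𝒜 ℳ m, V), z = s ⊗ₜ[Γ(Proj 𝒜, V)] e := by
    intro z
    induction z using TensorProduct.induction_on with
    | zero => exact ⟨0, (TensorProduct.zero_tmul _ _).symm⟩
    | tmul s t =>
      obtain ⟨r, hr⟩ := smul_fracTw_surjective 𝒜 ha hb he V hVa hVb t
      refine ⟨r • s, ?_⟩
      have hr' : r • e = t := hr
      rw [← hr', TensorProduct.tmul_smul, TensorProduct.smul_tmul']
    | add z z' hz hz' =>
      obtain ⟨s, rfl⟩ := hz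
      obtain ⟨s', rfl⟩ := hz'
      exact ⟨s + s', (TensorProduct.add_tmul _ _ _).symm⟩
  constructor
  · rw [injective_iff_map_eq_zero]
    intro z hz
    obtain ⟨s, rfl⟩ := hform z
    have h1 : mulSect m k n' hn V s e = 0 := hz
    have h2 := mulSect_mulSect_fracTw' (ℳ := ℳ) ha hb hn hn' he he' V hVa hVb s
    rw [← he_def, h1, mulSect_zero_left] at h2
    rw [← h2]
    exact TensorProduct.zero_tmul _ _
  · intro w
    refine ⟨mulSect n' (-k) m hn' V w e' ⊗ₜ[Γ(Proj 𝒜, V)] e, ?_⟩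
    change mulSect m k n' hn V (mulSect n' (-k) m hn' V w e') e = w
    refine tilde_sect_ext n' V _ _ (fun z => ?_)
    rw [mulSect_val, mulSect_val, smul_smul, fracTw_mul_fracTw_val' ha hb he he' V hVa hVb z, one_smul]

end

section

variable {R A : Type u} [CommRing R] [CommRing A] [Algebra R A]
variable (𝒜 : ℕ → Submodule R A) [GradedAlgebra 𝒜]
variable {M : Type u} [AddCommGroup M] [Module R M] [Module A M]
  (ℳ : ℕ → Submodule R M) [SetLike.GradedSMul 𝒜 ℳ]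

/-- `O(k)` is trivialised near every point by a fraction of degree `k` -/
def LocTriv (k : ℤ) : Prop :=
  ∀ x : ProjectiveSpectrum 𝒜, ∃ (i j : ℕ) (a b : A), a ∈ 𝒜 i ∧ b ∈ 𝒜 j ∧ (i : ℤ) = j + k ∧
    a ∉ x.asHomogeneousIdeal ∧ b ∉ x.asHomogeneousIdeal

/-- `M(m)~ ⊗ O(k) ≅ M(m + k)~` if `O(k)` is locally trivialised by fractions -/
theorem nonempty_tensorMod_tilde_twist_iso' (m k n' : ℤ) (hn : n' = m + k) (hk : LocTriv 𝒜 k) :
    Nonempty (CohB1.tensorMod (GrTilde.tilde 𝒜 ℳ m) (Twist.twist 𝒜 k) ≅ GrTilde.tilde 𝒜 ℳ n') := by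
  refine nonempty_sheafifyMod_iso (X := Proj 𝒜)
    (CohB1.tensorPre (GrTilde.tilde 𝒜 ℳ m) (Twist.twist 𝒜 k)) (GrTilde.tilde 𝒜 ℳ n')
    (mulHom m k n' hn) (fun V => ∃ (i j : ℕ) (a b : A), a ∈ 𝒜 i ∧ b ∈ 𝒜 j ∧ (i : ℤ) = j + k ∧
      (∀ x : ProjectiveSpectrum 𝒜, x ∈ V → a ∉ x.asHomogeneousIdeal) ∧
      (∀ x : ProjectiveSpectrum 𝒜, x ∈ V → b ∉ x.asHomogeneousIdeal)) ?_ ?_
  · intro U x hx
    obtain ⟨i, j, a, b, ha, hb, he, hax, hbx⟩ := hk x
    refine ⟨U ⊓ (Proj.basicOpen 𝒜 a ⊓ Proj.basicOpen 𝒜 b), inf_le_left, ⟨hx, hax, hbx⟩,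
      i, j, a, b, ha, hb, he, fun y hy => hy.2.1, fun y hy => hy.2.2⟩
  · rintro V ⟨i, j, a, b, ha, hb, he, hVa, hVb⟩
    exact bijective_mulHom_app' m k n' hn ha hb he V hVa hVb

end

end TwMul

section

variable {X : Scheme.{u}}

/-- `tensorMod` is symmetric -/
noncomputable def tensorModComm (M N : X.Modules) : CohB1.tensorMod M N ≅ CohB1.tensorMod N M :=
  (CohB1.sheafifyMod X).mapIso
    (show (CohB1.tensorPre M N : X.PresheafOfModules) ≅ CohB1.tensorPre N M from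
      (β_ (CohB1.toPMod M) (CohB1.toPMod N) :
        CohB1.toPMod M ⊗ CohB1.toPMod N ≅ CohB1.toPMod N ⊗ CohB1.toPMod M))

end

end Groth.Agent.H18
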